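import Cfsg.Agent.Lib.Fusion.Basic
import Cfsg.Agent.Lib.Lie.CoreFunctor
import Cfsg.Agent.Lib.Solv.SZ

/-!
# Groups whose π-subgroups are 2-closed: π′-closure and the minimal case
-/

set_option autoImplicit false
set_option linter.style.haveILetI false

open Cfsg.Agent.Fusion
open scoped Pointwise

namespace Cfsg.Agent.PiClosed

universe u

variable {G : Type u} [Group G] {π : Set ℕ}

/-- An element of order prime to `π`. -/
def CoEl (π : Set ℕ) (x : G) : Prop := ∀ p : ℕ, p.Prime → p ∣ orderOf x → p ∉ π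

/-- A `π`-subgroup. -/
def PiSub (π : Set ℕ) (H : Subgroup G) : Prop := ∀ p : ℕ, p.Prime → p ∣ Nat.card ↥H → p ∈ π

/-- The `π'`-elements form a subgroup. -/
def Closed (π : Set ℕ) (G : Type u) [Group G] : Prop :=
  ∃ K : Subgroup G, ∀ x : G, x ∈ K ↔ CoEl π x

/-- The hypothesis, in element form. -/
structure Hyp (π : Set ℕ) (G : Type u) [Group G] : Prop where
  two : 2 ∈ π
  cl : ∀ H R : Subgroup G, PiSub π H → SylIn 2 R H → H ≤ Subgroup.normalizer (R : Set G)
  au : ∀ H : Subgroup G, PiSub π H → ∀ x ∈ Subgroup.normalizer (H : Set G),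
    ∃ m : ℕ, (∀ p : ℕ, p.Prime → p ∣ m → p ∈ π) ∧ x ^ m ∈ Subgroup.centralizer (H : Set G)

/-- The minimal case. -/
structure Minimal (π : Set ℕ) (G : Type u) [Group G] : Prop where
  hyp : Hyp π G
  simple : IsSimpleGroup G
  noncomm : ∃ a b : G, a * b ≠ b * a
  proper : ∀ H : Subgroup G, H ≠ ⊤ → Closed π ↥H
  not_closed : ¬ Closed π G

theorem coEl_one : CoEl π (1 : G) := fun p hp h => absurd (orderOf_one (G := G) ▸ h) hp.not_dvd_one

theorem CoEl.conj {x : G} (h : CoEl π x) (g : G) : CoEl π (g * x * g⁻¹) := fun p hp hd =>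
  h p hp (by rwa [show g * x * g⁻¹ = MulAut.conj g x from rfl, MulEquiv.orderOf_eq] at hd)

theorem coEl_map {H : Type*} [Group H] (f : G →* H) {x : G} (h : CoEl π x) : CoEl π (f x) :=
  fun p hp hd => h p hp (hd.trans (orderOf_map_dvd f x))

theorem coEl_coe {H : Subgroup G} {x : H} : CoEl π (x : G) ↔ CoEl π x := by
  simp only [CoEl, Subgroup.orderOf_coe]

theorem coEl_of_mem {K : Subgroup G} (hK : ∀ p : ℕ, p.Prime → p ∣ Nat.card ↥K → p ∉ π) {x : G} (hx : x ∈ K) :
    CoEl π x := fun p hp hd => hK p hp (hd.trans (Subgroup.orderOf_dvd_natCard _ hx))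

/-- A number with prime divisors in `π` is prime to the order of a `π'`-element. -/
theorem CoEl.coprime {x : G} (h : CoEl π x) {m : ℕ} (hm : ∀ p : ℕ, p.Prime → p ∣ m → p ∈ π) :
    (orderOf x).Coprime m :=
  Nat.coprime_of_dvd fun p hp h1 h2 => h p hp h1 (hm p hp h2)

theorem CoEl.mem_of_pow {x : G} (h : CoEl π x) {m : ℕ} (hm : ∀ p : ℕ, p.Prime → p ∣ m → p ∈ π)
    {C : Subgroup G} (hx : x ^ m ∈ C) : x ∈ C := by
  obtain ⟨k, hk⟩ := exists_pow_eq_self_of_coprime (h.coprime hm).symm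
  exact hk ▸ pow_mem hx k

theorem Hyp.coEl_centralizes (h : Hyp π G) {H : Subgroup G} (hH : PiSub π H) {x : G}
    (hx : x ∈ Subgroup.normalizer (H : Set G)) (hc : CoEl π x) :
    x ∈ Subgroup.centralizer (H : Set G) := by
  obtain ⟨m, hm, hxm⟩ := h.au H hH x hx
  exact hc.mem_of_pow hm hxm

theorem piSub_mono {H H' : Subgroup G} (h : PiSub π H') (hle : H ≤ H') : PiSub π H := fun p hp hd =>
  h p hp (hd.trans (Subgroup.card_dvd_of_le hle))

theorem piSub_map {H : Type*} [Group H] (f : G →* H) {K : Subgroup G} (h : PiSub π K) : PiSub π (K.map f) :=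
  fun p hp hd => h p hp (hd.trans (Subgroup.card_map_dvd K f))

section finite

variable [Finite G]

theorem coPrime_card_of_coEl {K : Subgroup G} (h : ∀ x ∈ K, CoEl π x) {p : ℕ} (hp : p.Prime)
    (hd : p ∣ Nat.card ↥K) : p ∉ π := by
  haveI : Fact p.Prime := ⟨hp⟩
  obtain ⟨x, hx⟩ := exists_prime_orderOf_dvd_card' p hd
  exact h x x.2 p hp (by rw [Subgroup.orderOf_coe, hx])

theorem piSub_of_pGroup {H : Subgroup G} {p : ℕ} [Fact p.Prime] (hH : IsPGroup p H) (hp : p ∈ π) : PiSub π H := by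
  intro q hq hd
  obtain ⟨k, hk⟩ := IsPGroup.iff_card.1 hH
  exact (Nat.prime_dvd_prime_iff_eq hq Fact.out).1 (hq.dvd_of_dvd_pow (hk ▸ hd)) ▸ hp

omit [Finite G] in
theorem piSub_zpowers {x : G} (h : ∀ p : ℕ, p.Prime → p ∣ orderOf x → p ∈ π) : PiSub π (Subgroup.zpowers x) :=
  fun p hp hd => h p hp (Nat.card_zpowers x ▸ hd)

/-- A subgroup containing the elements of `q`-power order of `N` has index prime to `q` in `N`. -/
theorem not_dvd_relIndex {C N : Subgroup G} {q : ℕ} [Fact q.Prime]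
    (h : ∀ x ∈ N, (∃ k, orderOf x = q ^ k) → x ∈ C) : ¬ q ∣ C.relIndex N := by
  obtain ⟨T, hT⟩ := exists_sylIn (p := q) N
  intro hd
  apply hT.not_dvd
  have hTC : T ≤ C ⊓ N := fun x hx => ⟨h x (hT.le hx) (by
    obtain ⟨k, hk⟩ := IsPGroup.iff_orderOf.1 hT.isPGroup ⟨x, hx⟩
    exact ⟨k, by rw [← hk, Subgroup.orderOf_mk]⟩), hT.le hx⟩
  rw [← Subgroup.relIndex_mul_relIndex T (C ⊓ N) N hTC inf_le_right, Subgroup.inf_relIndex_right]
  exact hd.mul_left _

theorem Closed.data (h : Closed π G) : ∃ K : Subgroup G, (∀ x, x ∈ K ↔ CoEl π x) ∧ K.Normal ∧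
    (∀ p : ℕ, p.Prime → p ∣ Nat.card ↥K → p ∉ π) ∧ ∀ p : ℕ, p.Prime → p ∣ K.index → p ∈ π := by
  obtain ⟨K, hK⟩ := h
  refine ⟨K, hK, ⟨fun x hx g => (hK _).2 (((hK x).1 hx).conj g)⟩,
    fun p hp hd => coPrime_card_of_coEl (fun x hx => (hK x).1 hx) hp hd, fun p hp hd => ?_⟩
  by_contra hπ
  haveI : Fact p.Prime := ⟨hp⟩
  refine not_dvd_relIndex (C := K) (N := ⊤) (q := p) ?_ (by rwa [Subgroup.relIndex_top_right])
  rintro x - ⟨k, hk⟩
  refine (hK x).2 fun q hq hqd => ?_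
  rw [hk] at hqd
  exact (Nat.prime_dvd_prime_iff_eq hq hp).1 (hq.dvd_of_dvd_pow hqd) ▸ hπ

/-- The forward direction. -/
theorem automiser_of_closed (h : Closed π G) {H : Subgroup G} (hH : PiSub π H) {p : ℕ} (hp : p.Prime)
    (hd : p ∣ (Subgroup.centralizer (H : Set G)).relIndex (Subgroup.normalizer (H : Set G))) : p ∈ π := by
  obtain ⟨K, hK, hKn, hKc, -⟩ := h.data
  by_contra hπ
  haveI : Fact p.Prime := ⟨hp⟩
  refine not_dvd_relIndex (fun x hx ⟨k, hk⟩ => ?_) hd
  have hxK : x ∈ K := (hK x).2 fun q hq hqd => by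
    rw [hk] at hqd
    exact (Nat.prime_dvd_prime_iff_eq hq hp).1 (hq.dvd_of_dvd_pow hqd) ▸ hπ
  refine Subgroup.mem_centralizer_iff.2 fun y hy => ?_
  have h1 : x * y * x⁻¹ * y⁻¹ ∈ H := H.mul_mem ((Subgroup.mem_normalizer_iff.1 hx y).1 hy) (H.inv_mem hy)
  have h2 : x * y * x⁻¹ * y⁻¹ ∈ K := by
    rw [show x * y * x⁻¹ * y⁻¹ = x * (y * x⁻¹ * y⁻¹) by group]
    exact K.mul_mem hxK (hKn.conj_mem _ (K.inv_mem hxK) y)
  have h3 : x * y * x⁻¹ * y⁻¹ = 1 := orderOf_eq_one_iff.1 (by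
    by_contra hne
    obtain ⟨q, hq, hqd⟩ := Nat.exists_prime_and_dvd hne
    exact hKc q hq (hqd.trans (Subgroup.orderOf_dvd_natCard _ h2)) (hH q hq (hqd.trans (Subgroup.orderOf_dvd_natCard _ h1))))
  calc y * x = (x * y * x⁻¹ * y⁻¹)⁻¹ * (x * y) := by group
    _ = x * y := by rw [h3, inv_one, one_mul]

omit [Finite G] in
theorem au_of_relIndex {H : Subgroup G}
    (h : ∀ p : ℕ, p.Prime → p ∣ (Subgroup.centralizer (H : Set G)).relIndex (Subgroup.normalizer (H : Set G)) → p ∈ π)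
    {x : G} (hx : x ∈ Subgroup.normalizer (H : Set G)) :
    ∃ m : ℕ, (∀ p : ℕ, p.Prime → p ∣ m → p ∈ π) ∧ x ^ m ∈ Subgroup.centralizer (H : Set G) := by
  haveI hn : ((Subgroup.centralizer (H : Set G)).subgroupOf (Subgroup.normalizer (H : Set G))).Normal :=
    Subgroup.normal_subgroupOf_of_le_normalizer fun a ha => Subgroup.mem_normalizer_iff.2 (by
      intro c
      have key : ∀ a ∈ Subgroup.normalizer (H : Set G), ∀ c ∈ Subgroup.centralizer (H : Set G),
          a * c * a⁻¹ ∈ Subgroup.centralizer (H : Set G) := by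
        intro a ha c hc
        refine Subgroup.mem_centralizer_iff.2 fun y hy => ?_
        have := Subgroup.mem_centralizer_iff.1 hc (a⁻¹ * y * a) (by
          have := (Subgroup.mem_normalizer_iff.1 (inv_mem ha) y).1 hy
          simpa using this)
        calc y * (a * c * a⁻¹) = a * (a⁻¹ * y * a * c) * a⁻¹ := by group
          _ = a * (c * (a⁻¹ * y * a)) * a⁻¹ := by rw [this]
          _ = _ := by group
      exact ⟨key a ha c, fun hc => by simpa [mul_assoc] using key a⁻¹ (inv_mem ha) _ hc⟩)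
  refine ⟨_, h, ?_⟩
  have := Subgroup.pow_index_mem ((Subgroup.centralizer (H : Set G)).subgroupOf (Subgroup.normalizer (H : Set G)))
    ⟨x, hx⟩
  rwa [Subgroup.mem_subgroupOf, SubgroupClass.coe_pow] at this

/-- The hypothesis of the statement in element form. -/
theorem hyp_of_statement (h2 : 2 ∈ π)
    (hcl : ∀ H : Subgroup G, (∀ p : ℕ, p.Prime → p ∣ Nat.card ↥H → p ∈ π) → ∀ P : Sylow 2 ↥H, (P : Subgroup ↥H).Normal)
    (hau : ∀ H : Subgroup G, H ≠ ⊥ → (∀ p : ℕ, p.Prime → p ∣ Nat.card ↥H → p ∈ π) →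
      ∀ p : ℕ, p.Prime → p ∣ (Subgroup.centralizer (H : Set G)).relIndex (Subgroup.normalizer (H : Set G)) → p ∈ π) :
    Hyp π G := by
  haveI : Fact (Nat.Prime 2) := ⟨Nat.prime_two⟩
  refine ⟨h2, fun H R hH hR => ?_, fun H hH x hx => ?_⟩
  · obtain ⟨P, hP⟩ := hR.exists_sylow_subgroupOf
    haveI := hcl H hH P
    exact Subgroup.normal_subgroupOf_iff_le_normalizer hR.le |>.1 (hP ▸ inferInstance)
  · by_cases hb : H = ⊥
    · subst hb
      exact ⟨1, fun p hp hd => absurd hd hp.not_dvd_one, Subgroup.mem_centralizer_iff.2 (by simp)⟩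
    · exact au_of_relIndex (hau H hb hH) hx

theorem Hyp.subgroup (h : Hyp π G) (H : Subgroup G) : Hyp π ↥H := by
  have hinj := H.subtype_injective
  refine ⟨h.two, fun K R hK hR => ?_, fun K hK x hx => ?_⟩
  · have hR' : SylIn 2 (R.map H.subtype) (K.map H.subtype) := ⟨Subgroup.map_mono hR.le, hR.isPGroup.map _, by
      rw [Subgroup.relIndex_map_map_of_injective _ _ hinj]; exact hR.not_dvd⟩
    intro y hy
    have := h.cl _ _ (piSub_map H.subtype hK) hR' (Subgroup.mem_map_of_mem _ hy)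
    refine mem_normalizer_of_cj_le ?_
    rintro _ ⟨r, hr, rfl⟩
    obtain ⟨r', hr', e⟩ := (Subgroup.mem_normalizer_iff.1 this (r : G)).1 ⟨r, hr, rfl⟩
    have e' : r' = y * r * y⁻¹ := Subtype.ext e
    show y * r * y⁻¹ ∈ R
    rwa [← e']
  · have hx' : (x : G) ∈ Subgroup.normalizer ((K.map H.subtype : Subgroup G) : Set G) := by
      refine mem_normalizer_of_cj_le ?_
      rintro _ ⟨_, ⟨k, hk, rfl⟩, rfl⟩
      exact ⟨x * k * x⁻¹, (Subgroup.mem_normalizer_iff.1 hx k).1 hk, by simp⟩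
    obtain ⟨m, hm, hxm⟩ := h.au _ (piSub_map H.subtype hK) x hx'
    refine ⟨m, hm, Subgroup.mem_centralizer_iff.2 fun k hk => Subtype.ext ?_⟩
    exact Subgroup.mem_centralizer_iff.1 hxm (k : G) ⟨k, hk, rfl⟩

/-- Passage to a quotient in which subgroups and normalisers lift. -/
theorem Hyp.quotient (h : Hyp π G) (L : Subgroup G) [L.Normal]
    (hlift : ∀ H : Subgroup (G ⧸ L), PiSub π H → ∃ Y : Subgroup G, PiSub π Y ∧ Y.map (QuotientGroup.mk' L) = H ∧
      ∀ x ∈ Subgroup.normalizer (H : Set (G ⧸ L)), ∃ y ∈ Subgroup.normalizer (Y : Set G), (y : G ⧸ L) = x) :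
    Hyp π (G ⧸ L) := by
  haveI : Fact (Nat.Prime 2) := ⟨Nat.prime_two⟩
  refine ⟨h.two, fun H R hH hR => ?_, fun H hH x hx => ?_⟩
  · obtain ⟨Y, hY, rfl, -⟩ := hlift H hH
    obtain ⟨T, hT⟩ := exists_sylIn (p := 2) Y
    have hTn := h.cl Y T hY hT
    set f := QuotientGroup.mk' L
    have hT' : SylIn 2 (T.map f) (Y.map f) := ⟨Subgroup.map_mono hT.le, hT.isPGroup.map _, fun hd =>
      hT.not_dvd (by
        rw [← Subgroup.relIndex_comap] at hd
        exact hd.trans (Subgroup.relIndex_dvd_of_le_left Y (Subgroup.le_comap_map f T)))⟩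
    have hn : Y.map f ≤ Subgroup.normalizer ((T.map f : Subgroup _) : Set (G ⧸ L)) := by
      rintro _ ⟨y, hy, rfl⟩
      refine mem_normalizer_of_cj_le ?_
      rintro _ ⟨_, ⟨t, ht, rfl⟩, rfl⟩
      exact ⟨y * t * y⁻¹, (Subgroup.mem_normalizer_iff.1 (hTn hy) t).1 ht, by simp [f]⟩
    obtain ⟨g, hg, hgR⟩ := hT'.conj_eq hR
    rw [← hgR, cj_eq_self (hn hg)]
    exact hn
  · obtain ⟨Y, hY, rfl, hN⟩ := hlift H hH
    obtain ⟨y, hy, rfl⟩ := hN x hx
    obtain ⟨m, hm, hym⟩ := h.au Y hY y hy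
    refine ⟨m, hm, Subgroup.mem_centralizer_iff.2 ?_⟩
    rintro _ ⟨t, ht, rfl⟩
    rw [← QuotientGroup.mk_pow]
    exact congrArg (QuotientGroup.mk' L) (Subgroup.mem_centralizer_iff.1 hym t ht)

theorem card_comap_mk (L : Subgroup G) [L.Normal] (H : Subgroup (G ⧸ L)) :
    Nat.card ↥(H.comap (QuotientGroup.mk' L)) = Nat.card ↥L * Nat.card ↥H ∧
      L ≤ H.comap (QuotientGroup.mk' L) ∧ L.relIndex (H.comap (QuotientGroup.mk' L)) = Nat.card ↥H := by
  have hle : L ≤ H.comap (QuotientGroup.mk' L) := fun l hl => by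
    rw [Subgroup.mem_comap, show QuotientGroup.mk' L l = 1 from (QuotientGroup.eq_one_iff l).2 hl]
    exact H.one_mem
  have hrel : L.relIndex (H.comap (QuotientGroup.mk' L)) = Nat.card ↥H := by
    have := Subgroup.relIndex_comap (⊥ : Subgroup (G ⧸ L)) (QuotientGroup.mk' L) (H.comap (QuotientGroup.mk' L))
    rwa [MonoidHom.comap_bot, QuotientGroup.ker_mk',
      Subgroup.map_comap_eq_self_of_surjective (QuotientGroup.mk'_surjective L) H, Subgroup.relIndex_bot_left] at this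
  refine ⟨?_, hle, hrel⟩
  rw [← Subgroup.relIndex_bot_left, ← Subgroup.relIndex_mul_relIndex ⊥ L _ bot_le hle, Subgroup.relIndex_bot_left, hrel]

theorem hyp_quotient_coPrime (h : Hyp π G) (L : Subgroup G) [hn : L.Normal]
    (hL : ∀ p : ℕ, p.Prime → p ∣ Nat.card ↥L → p ∉ π) : Hyp π (G ⧸ L) := by
  have hodd : Odd (Nat.card ↥L) := Nat.not_even_iff_odd.1 fun he =>
    hL 2 Nat.prime_two (even_iff_two_dvd.1 he) h.two
  refine h.quotient L fun H hH => ?_
  set f := QuotientGroup.mk' L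
  set X := H.comap f with hX
  have hLX : L ≤ X := (card_comap_mk L H).2.1
  have hXH : X.map f = H := Subgroup.map_comap_eq_self_of_surjective (QuotientGroup.mk'_surjective L) H
  have hcard : L.relIndex X = Nat.card ↥H := (card_comap_mk L H).2.2
  have hco : (Nat.card ↥(L.subgroupOf X)).Coprime (L.subgroupOf X).index := by
    rw [Nat.card_congr (Subgroup.subgroupOfEquivOfLe hLX).toEquiv]
    refine Nat.coprime_of_dvd fun p hp h1 h2 => hL p hp h1 (hH p hp ?_)
    rw [← hcard]; exact h2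
  obtain ⟨Y₀, hY₀⟩ := Subgroup.exists_right_complement'_of_coprime hco
  set Y := Y₀.map X.subtype with hYdef
  have hYX : Y ≤ X := Subgroup.map_subtype_le _
  have hY₀c : Nat.card Y₀ = L.relIndex X := hY₀.symm.index_eq_card.symm
  have hYc : Nat.card ↥Y = Nat.card ↥H := by
    rw [hYdef, Subgroup.card_map_of_injective X.subtype_injective, hY₀c, hcard]
  have hsup : X ≤ L ⊔ Y := fun x hx => by
    have h1 : (⟨x, hx⟩ : X) ∈ L.subgroupOf X ⊔ Y₀ := hY₀.sup_eq_top ▸ Subgroup.mem_top _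
    have h2 := Subgroup.mem_map_of_mem X.subtype h1
    rw [Subgroup.map_sup, Subgroup.map_subgroupOf_eq_of_le hLX] at h2
    exact h2
  have hmapY : Y.map f = H := by
    refine le_antisymm ((Subgroup.map_mono hYX).trans hXH.le) ?_
    rw [← hXH]
    refine (Subgroup.map_mono hsup).trans ?_
    rw [Subgroup.map_sup, QuotientGroup.map_mk'_self, bot_sup_eq]
  refine ⟨Y, fun p hp hd => hH p hp (hYc ▸ hd), hmapY, fun x hx => ?_⟩
  obtain ⟨z, rfl⟩ := QuotientGroup.mk'_surjective L x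
  have hcj : cj Y z ≤ L ⊔ Y := by
    refine le_trans ?_ hsup
    rintro _ ⟨w, hw, rfl⟩
    show f (z * w * z⁻¹) ∈ H
    rw [map_mul, map_mul, map_inv]
    exact (Subgroup.mem_normalizer_iff.1 hx _).1 (hYX hw)
  have hcoY : (Nat.card ↥L).Coprime (Nat.card ↥Y) :=
    Nat.coprime_of_dvd fun p hp h1 h2 => hL p hp h1 (hH p hp (hYc ▸ h2))
  obtain ⟨g, hg, hgY⟩ := Solv.sz_conj_rel L Y (cj Y z) (Subgroup.normalizer_eq_top (H := L) ▸ le_top) hcj hcoY (card_cj Y z)
    (Or.inl (Lie.CoreFun.solvable_of_odd hodd))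
  refine ⟨g⁻¹ * z, mem_normalizer_of_cj_le ?_, ?_⟩
  · have e : cj Y g = cj Y z := hgY
    rw [← cj_cj, ← e, cj_cj_inv]
  · show f (g⁻¹ * z) = f z
    rw [map_mul, map_inv, show f g = 1 from (QuotientGroup.eq_one_iff g).2 hg, inv_one, one_mul]

theorem hyp_quotient_central (h : Hyp π G) (L : Subgroup G) [hn : L.Normal] (hL : PiSub π L) : Hyp π (G ⧸ L) := by
  refine h.quotient L fun H hH => ⟨H.comap (QuotientGroup.mk' L), fun p hp hd => ?_,
    Subgroup.map_comap_eq_self_of_surjective (QuotientGroup.mk'_surjective L) H, fun x hx => ?_⟩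
  · rw [(card_comap_mk L H).1] at hd
    rcases hp.dvd_mul.1 hd with hd | hd
    · exact hL p hp hd
    · exact hH p hp hd
  · obtain ⟨z, rfl⟩ := QuotientGroup.mk'_surjective L x
    refine ⟨z, Subgroup.mem_normalizer_iff.2 fun y => ?_, rfl⟩
    simp only [Subgroup.mem_comap, map_mul, map_inv]
    exact Subgroup.mem_normalizer_iff.1 hx _

end finite

/-- Reduction to a minimal group. -/
theorem closed_of_minimal_false (hmin : ∀ (X : Type u) [Group X] [Finite X], Minimal π X → False) :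
    ∀ (X : Type u) [Group X] [Finite X], Hyp π X → Closed π X := by
  intro X _ _ hX
  induction h : Nat.card X using Nat.strong_induction_on generalizing X with
  | _ n ih =>
  subst h
  by_contra hcl
  have hsub : ∀ H : Subgroup X, H ≠ ⊤ → Closed π ↥H := fun H hH =>
    ih _ (lt_of_le_of_ne (Subgroup.card_le_card_group H) fun e => hH (Subgroup.eq_top_of_card_eq H e))
      ↥H (hX.subgroup H) rfl
  have hquo : ∀ (L : Subgroup X) [L.Normal], L ≠ ⊥ → Hyp π (X ⧸ L) → Closed π (X ⧸ L) := by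
    intro L _ hL hQ
    refine ih _ ?_ _ hQ rfl
    rw [← Subgroup.index_eq_card, ← L.card_mul_index]
    exact lt_mul_of_one_lt_left (Nat.pos_of_ne_zero Subgroup.index_ne_zero_of_finite)
      (Finite.one_lt_card_iff_nontrivial.2 ((Subgroup.nontrivial_iff_ne_bot L).2 hL))
  have hup : ∀ H : Subgroup X, H ≠ ⊤ → (∀ x, CoEl π x → x ∈ H) → False := by
    intro H hH hall
    obtain ⟨K, hK⟩ := hsub H hH
    refine hcl ⟨K.map H.subtype, fun x => ⟨?_, fun hx => ⟨⟨x, hall x hx⟩, (hK _).2 (coEl_coe.1 hx), rfl⟩⟩⟩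
    rintro ⟨k, hk, rfl⟩
    exact coEl_coe.2 ((hK k).1 hk)
  have hsimple : ∀ N : Subgroup X, N.Normal → N = ⊥ ∨ N = ⊤ := by
    intro N hN
    by_contra hNN
    push Not at hNN
    obtain ⟨K, hK, hKn, hKc, -⟩ := (hsub N hNN.2).data
    set L := K.map N.subtype with hLdef
    have hLm : ∀ x, x ∈ L ↔ x ∈ N ∧ CoEl π x := fun x => ⟨by
      rintro ⟨k, hk, rfl⟩; exact ⟨k.2, coEl_coe.2 ((hK k).1 hk)⟩,
      fun ⟨h1, h2⟩ => ⟨⟨x, h1⟩, (hK _).2 (coEl_coe.1 h2), rfl⟩⟩
    haveI hLn : L.Normal := ⟨fun x hx g => (hLm _).2 ⟨hN.conj_mem x ((hLm x).1 hx).1 g, ((hLm x).1 hx).2.conj g⟩⟩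
    have hLc : ∀ p : ℕ, p.Prime → p ∣ Nat.card ↥L → p ∉ π := fun p hp hd =>
      coPrime_card_of_coEl (fun x hx => ((hLm x).1 hx).2) hp hd
    by_cases hL : L = ⊥
    · -- `N` is a `π`-group
      have hNπ : PiSub π N := by
        intro p hp hd
        by_contra hπ
        haveI : Fact p.Prime := ⟨hp⟩
        obtain ⟨x, hx⟩ := exists_prime_orderOf_dvd_card' p hd
        have : (x : X) ∈ L := (hLm _).2 ⟨x.2, fun q hq hqd => by
          rw [Subgroup.orderOf_coe, hx] at hqd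
          exact (Nat.prime_dvd_prime_iff_eq hq hp).1 hqd ▸ hπ⟩
        rw [hL, Subgroup.mem_bot] at this
        rw [OneMemClass.coe_eq_one.1 this, orderOf_one] at hx
        exact hp.ne_one hx.symm
      have hCel : ∀ x : X, CoEl π x → x ∈ Subgroup.centralizer (N : Set X) := fun x hx =>
        hX.coEl_centralizes hNπ (by haveI := hN; rw [Subgroup.normalizer_eq_top]; exact Subgroup.mem_top x) hx
      by_cases hC : Subgroup.centralizer (N : Set X) = ⊤
      · haveI := hN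
        obtain ⟨Kb, hKb, hKbn, hKbc, -⟩ := (hquo N hNN.1 (hyp_quotient_central hX N hNπ)).data
        set P := Kb.comap (QuotientGroup.mk' N)
        by_cases hP : P = ⊤
        · -- a central Hall subgroup
          have hKtop : Kb = ⊤ := eq_top_iff.2 fun y _ => by
            obtain ⟨z, rfl⟩ := QuotientGroup.mk'_surjective N y
            exact (hP ▸ Subgroup.mem_top z : z ∈ P)
          have hidx : ∀ p : ℕ, p.Prime → p ∣ N.index → p ∉ π := fun p hp hd => hKbc p hp (by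
            rw [hKtop, Subgroup.card_top, ← Subgroup.index_eq_card]; exact hd)
          have hco : (Nat.card ↥N).Coprime N.index :=
            Nat.coprime_of_dvd fun p hp h1 h2 => hidx p hp h2 (hNπ p hp h1)
          obtain ⟨Y, hY⟩ := Subgroup.exists_right_complement'_of_coprime hco
          have hcen : ∀ n ∈ N, ∀ g : X, g * n = n * g := fun n hn g =>
            (Subgroup.mem_centralizer_iff.1 (hC ▸ Subgroup.mem_top g) n hn).symm
          haveI hYn : Y.Normal := ⟨fun y hy g => by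
            obtain ⟨⟨⟨n, hn⟩, ⟨w, hw⟩⟩, rfl⟩ := hY.2 g
            have e : n * w * y * (n * w)⁻¹ = w * y * w⁻¹ := by
              rw [show n * w * y * (n * w)⁻¹ = n * (w * y * w⁻¹) * n⁻¹ by group, ← hcen n hn, mul_inv_cancel_right]
            show n * w * y * (n * w)⁻¹ ∈ Y
            rw [e]
            exact Y.mul_mem (Y.mul_mem hw hy) (Y.inv_mem hw)⟩
          have hYi : Y.index = Nat.card ↥N := hY.index_eq_card
          refine hcl ⟨Y, fun x => ⟨fun hx p hp hd => ?_, fun hx => ?_⟩⟩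
          · refine hidx p hp ?_
            rw [hY.symm.index_eq_card]
            exact hd.trans (Subgroup.orderOf_dvd_natCard _ hx)
          · refine hx.mem_of_pow (m := Y.index) (fun p hp hd => hNπ p hp (hYi ▸ hd)) (Y.pow_index_mem x)
        · exact hup P hP fun x hx => (hKb _).2 (coEl_map _ hx)
      · exact hup _ hC hCel
    · obtain ⟨Kb, hKb, -, hKbc, -⟩ := (hquo L hL (hyp_quotient_coPrime hX L hLc)).data
      refine hcl ⟨Kb.comap (QuotientGroup.mk' L), fun x => ⟨fun hx p hp hd => ?_, fun hx => (hKb _).2 (coEl_map _ hx)⟩⟩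
      have hd' := hd.trans (Subgroup.orderOf_dvd_natCard _ hx)
      rw [(card_comap_mk L Kb).1] at hd'
      rcases hp.dvd_mul.1 hd' with hd' | hd'
      · exact hLc p hp hd'
      · exact hKbc p hp hd'
  have hab : ∃ a b : X, a * b ≠ b * a := by
    by_contra hc
    push Not at hc
    letI : CommGroup X := { ‹Group X› with mul_comm := hc }
    let K : Subgroup X :=
      { carrier := {x | CoEl π x}
        mul_mem' := fun {a b} ha hb p hp hd => (hp.dvd_mul.1 (hd.trans (Commute.all a b).orderOf_mul_dvd_mul_orderOf)).elim (ha p hp) (hb p hp)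
        one_mem' := coEl_one
        inv_mem' := fun {a} ha p hp hd => ha p hp (by rwa [orderOf_inv] at hd) }
    exact hcl ⟨K, fun x => Iff.rfl⟩
  haveI : Nontrivial X := by
    obtain ⟨a, b, hab⟩ := hab
    exact ⟨⟨a * b, b * a, hab⟩⟩
  exact hmin X ⟨hX, ⟨hsimple⟩, hab, hsub, hcl⟩

end Cfsg.Agent.PiClosed
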