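import Cfsg.Agent.Lib.Fusion.PiClosed.Local
import Cfsg.Agent.Lib.Fusion.StronglyEmbeddedPairs

/-!
# There is no strongly embedded subgroup of 2-rank at least two
-/

set_option autoImplicit false
set_option linter.style.haveILetI false

open Cfsg.Agent.Fusion

namespace Cfsg.Agent.PiClosed

universe u

variable {G : Type u} [Group G] [Finite G] {π : Set ℕ}

/-- The size of a class under a subgroup. -/
theorem card_class_eq {H : Subgroup G} {t : G} {P : G → Prop} (hP : ∀ i, P i ↔ ∃ h ∈ H, h * t * h⁻¹ = i) :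
    Nat.card {i : G // P i} = (Subgroup.centralizer ({t} : Set G)).relIndex H := by
  set C := (Subgroup.centralizer ({t} : Set G)).subgroupOf H
  have hw : ∀ h₁ h₂ : H, h₁⁻¹ * h₂ ∈ C ↔ (h₁ : G) * t * (h₁ : G)⁻¹ = (h₂ : G) * t * (h₂ : G)⁻¹ := fun h₁ h₂ => by
    rw [Subgroup.mem_subgroupOf, Subgroup.mem_centralizer_singleton_iff, Subgroup.coe_mul, InvMemClass.coe_inv]
    constructor
    · intro e
      calc (h₁ : G) * t * (h₁ : G)⁻¹ = (h₁ : G) * (t * ((h₁ : G)⁻¹ * h₂)) * (h₂ : G)⁻¹ := by group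
        _ = (h₁ : G) * ((h₁ : G)⁻¹ * h₂ * t) * (h₂ : G)⁻¹ := by rw [e]
        _ = _ := by group
    · intro e
      calc (h₁ : G)⁻¹ * h₂ * t = (h₁ : G)⁻¹ * ((h₂ : G) * t * (h₂ : G)⁻¹) * h₂ := by group
        _ = (h₁ : G)⁻¹ * ((h₁ : G) * t * (h₁ : G)⁻¹) * h₂ := by rw [e]
        _ = _ := by group
  let f : H ⧸ C → {i : G // P i} := Quotient.lift (fun h => ⟨_, (hP _).2 ⟨h, h.2, rfl⟩⟩)
    fun a b hab => Subtype.ext ((hw a b).1 (QuotientGroup.leftRel_apply.1 hab))
  refine (Nat.card_congr (Equiv.ofBijective f ⟨?_, ?_⟩)).symm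
  · intro a b
    induction a using QuotientGroup.induction_on with
    | H a =>
      induction b using QuotientGroup.induction_on with
      | H b => exact fun e => QuotientGroup.eq.2 ((hw a b).2 (congrArg Subtype.val e))
  · rintro ⟨i, hi⟩
    obtain ⟨h, hh, rfl⟩ := (hP i).1 hi
    exact ⟨QuotientGroup.mk ⟨h, hh⟩, rfl⟩

/-- Conjugates of an involution congruent modulo a normalised odd subgroup. -/
theorem eq_of_conj_by_core {R K : Subgroup G} {t k : G} (hdisj : R ⊓ K = ⊥) (ht : t ∈ R) (hk : k ∈ K)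
    (htK : t ∈ Subgroup.normalizer (K : Set G)) (hs : k * t * k⁻¹ ∈ R) : k * t * k⁻¹ = t := by
  have h : k * t * k⁻¹ * t⁻¹ ∈ R ⊓ K := ⟨R.mul_mem hs (R.inv_mem ht), by
    rw [show k * t * k⁻¹ * t⁻¹ = k * (t * k⁻¹ * t⁻¹) by group]
    exact K.mul_mem hk ((Subgroup.mem_normalizer_iff.1 htK _).1 (K.inv_mem hk))⟩
  rw [hdisj, Subgroup.mem_bot, mul_inv_eq_one] at h
  exact h

namespace Minimal

variable (hG : Minimal π G)
include hG

theorem relIndex_piCore {L : Subgroup G} (hL : L ≠ ⊤) {p : ℕ} (hp : p.Prime) (hd : p ∣ (piCore π L).relIndex L) :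
    p ∈ π := by
  obtain ⟨Y, -, hY, -, hcard⟩ := hG.exists_complement hL
  have h1 := Subgroup.relIndex_mul_relIndex (⊥ : Subgroup G) (piCore π L) L bot_le (piCore_le L)
  rw [Subgroup.relIndex_bot_left, Subgroup.relIndex_bot_left, hcard] at h1
  rw [Nat.eq_of_mul_eq_mul_left Nat.card_pos h1] at hd
  exact hY p hp hd

/-- A strongly embedded subgroup has one involution in each of its Sylow 2-subgroups. -/
theorem unique_involution {M : Subgroup G} (hM : Cfsg.IsStronglyEmbedded M) {R : Subgroup G} (hR : SylIn 2 R M)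
    {s t : G} (hs : orderOf s = 2) (ht : orderOf t = 2) (hsR : s ∈ R) (htR : t ∈ R) : s = t := by
  classical
  haveI : Fact (Nat.Prime 2) := ⟨Nat.prime_two⟩
  obtain ⟨g, hg⟩ : ∃ g, g ∉ M := by
    by_contra h; push Not at h
    exact hM.1 ((Subgroup.eq_top_iff' M).2 h)
  set x : G ⧸ M := QuotientGroup.mk 1 with hx
  set y : G ⧸ M := QuotientGroup.mk g with hy
  have hxy : x ≠ y := fun e => hg (by simpa using QuotientGroup.eq.1 e)
  set D := MulAction.stabilizer G x ⊓ MulAction.stabilizer G y with hD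
  have hfixx : ∀ i : G, i • x = x ↔ i ∈ M := fun i => by
    rw [hx, SEPairs.smul_mk_eq_iff]; simp
  have hDeq : D = M ⊓ M.map (MulAut.conj g).toMonoidHom := by
    ext i
    rw [hD, Subgroup.mem_inf, Subgroup.mem_inf, MulAction.mem_stabilizer_iff, MulAction.mem_stabilizer_iff, hfixx,
      hy, SEPairs.smul_mk_eq_iff, mem_cj]
  have hDodd : Odd (Nat.card ↥D) := hDeq ▸ hM.2.2 g hg
  have hsM := hR.le hsR
  -- the number of swappers
  obtain ⟨u, hu, hux⟩ : ∃ u : G, orderOf u = 2 ∧ u • x = y := by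
    have h1 := SEPairs.card_swappers hM hxy
    have h2 : 0 < Nat.card {i : G // orderOf i = 2 ∧ i • x = x} := Nat.card_pos_iff.2
      ⟨⟨⟨s, hs, (hfixx s).2 hsM⟩⟩, inferInstance⟩
    rw [← h1] at h2
    obtain ⟨⟨⟨u, hu⟩⟩, -⟩ := Nat.card_pos_iff.1 h2
    exact ⟨u, hu⟩
  have huy : u • y = x := by rw [← hux, smul_smul, SEPairs.sq_one hu, one_smul]
  have huD : u ∈ Subgroup.normalizer (D : Set G) := by
    refine mem_normalizer_of_cj_le ?_
    rintro _ ⟨d, hd, rfl⟩
    have hd1 : d • x = x := hd.1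
    have hd2 : d • y = y := hd.2
    have hui : u⁻¹ = u := SEPairs.inv_self hu
    refine ⟨?_, ?_⟩
    · show (u * d * u⁻¹) • x = x
      rw [hui, mul_smul, mul_smul, hux, hd2, huy]
    · show (u * d * u⁻¹) • y = y
      rw [hui, mul_smul, mul_smul, huy, hd1, hux]
  set U := Subgroup.zpowers u with hU
  have hUc : Nat.card ↥U = 2 := by rw [hU, Nat.card_zpowers, hu]
  have hUn : U ≤ Subgroup.normalizer (D : Set G) := Subgroup.zpowers_le.2 huD
  set L := D ⊔ U with hL
  have hinf : D ⊓ U = ⊥ := Subgroup.inf_eq_bot_of_coprime (by rw [hUc]; exact Nat.coprime_two_right.2 hDodd)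
  have hLcard : Nat.card ↥L = Nat.card ↥D * 2 := by
    have := Solv.card_sup_mul_card_inf' D U hUn
    rwa [hinf, Subgroup.card_bot, mul_one, hUc] at this
  have hLn : L ≤ Subgroup.normalizer (D : Set G) := sup_le Subgroup.le_normalizer hUn
  have hLtop : L ≠ ⊤ := by
    by_cases hDb : D = ⊥
    · rw [hL, hDb, bot_sup_eq]
      exact hG.ne_top_of_isPGroup (IsPGroup.of_card (n := 1) (by rw [hUc, pow_one]))
    · exact fun e => hG.normalizer_ne_top hDb (hG.ne_top_of_odd hDodd) (top_unique (e ▸ hLn))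
  have hUS : SylIn 2 U L := by
    refine ⟨le_sup_right, IsPGroup.of_card (n := 1) (by rw [hUc, pow_one]), fun hd => ?_⟩
    have h1 := Subgroup.relIndex_mul_relIndex (⊥ : Subgroup G) U L bot_le le_sup_right
    rw [Subgroup.relIndex_bot_left, Subgroup.relIndex_bot_left, hLcard, hUc, mul_comm _ 2] at h1
    rw [Nat.eq_of_mul_eq_mul_left two_pos h1] at hd
    exact Nat.not_even_iff_odd.2 hDodd (even_iff_two_dvd.2 hd)
  have hsup : ∀ d ∈ D, ∃ k ∈ piCore π D, ∃ c ∈ D ⊓ Subgroup.centralizer ({u} : Set G), d = k * c := by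
    intro d hd
    obtain ⟨k, hk, c, ⟨-, hc⟩, rfl⟩ := hG.decomp hLtop hUS ((le_sup_left : D ≤ L) hd)
    obtain ⟨hkL, hke⟩ := (hG.mem_piCore hLtop).1 hk
    haveI hDn : (D.subgroupOf L).Normal := Subgroup.normal_subgroupOf_of_le_normalizer hLn
    have hidx : D.relIndex L = 2 := by
      have h1 := Subgroup.relIndex_mul_relIndex (⊥ : Subgroup G) D L bot_le le_sup_left
      rw [Subgroup.relIndex_bot_left, Subgroup.relIndex_bot_left, hLcard] at h1
      exact Nat.eq_of_mul_eq_mul_left Nat.card_pos h1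
    have hk2 : k ^ 2 ∈ D := by
      have := Subgroup.pow_index_mem (D.subgroupOf L) ⟨k, hkL⟩
      rwa [Subgroup.mem_subgroupOf, SubgroupClass.coe_pow, show (D.subgroupOf L).index = 2 from hidx] at this
    have hkD : k ∈ D := hke.mem_of_pow (fun p hp hd => (Nat.prime_dvd_prime_iff_eq hp Nat.prime_two).1 hd ▸ hG.hyp.two) hk2
    refine ⟨k, Subgroup.subset_closure ⟨hkD, hke⟩, c,
      Subgroup.mem_inf.2 ⟨(Subgroup.mul_mem_cancel_left D hkD).1 hd, ?_⟩, rfl⟩
    refine Subgroup.mem_centralizer_singleton_iff.2 ?_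
    have h1 := (Subgroup.mem_normalizer_iff.1 hc u).1 (Subgroup.mem_zpowers u)
    obtain ⟨i, hi⟩ := Subgroup.mem_zpowers_iff.1 h1
    rw [← zpow_mod_orderOf, hu] at hi
    rcases Int.emod_two_eq_zero_or_one i with e | e <;> rw [Nat.cast_ofNat, e] at hi
    · rw [zpow_zero] at hi
      rw [conj_eq_one_iff.1 hi.symm, orderOf_one] at hu
      omega
    · rw [zpow_one] at hi
      exact mul_inv_eq_iff_eq_mul.1 hi.symm
  have hDtop := hG.ne_top_of_odd hDodd
  have hm : ∀ p : ℕ, p.Prime → p ∣ (Subgroup.centralizer ({u} : Set G)).relIndex D → p ∉ π := fun p hp hd =>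
    hG.relIndex_supplement hDtop inf_le_left hsup hp (by rwa [Subgroup.inf_relIndex_left])
  have hJ : Nat.card {i : G // orderOf i = 2 ∧ i • x = y} = (Subgroup.centralizer ({u} : Set G)).relIndex D := by
    refine card_class_eq fun i => ⟨fun ⟨hi, hix⟩ => ?_, ?_⟩
    · obtain ⟨f, hfx, hfy, hf⟩ := SEPairs.swappers_conj hM hxy hi hix hu hux
      exact ⟨f, ⟨hfx, hfy⟩, hf⟩
    · rintro ⟨h, hh, rfl⟩
      refine ⟨SEPairs.conj_involution hu h, ?_⟩
      have h1 : h⁻¹ • x = x := by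
        rw [inv_smul_eq_iff]; exact hh.1.symm
      rw [mul_smul, mul_smul, h1, hux]
      exact hh.2
  have hI : Nat.card {i : G // orderOf i = 2 ∧ i • x = x} = (Subgroup.centralizer ({t} : Set G)).relIndex M := by
    refine card_class_eq fun i => ⟨fun ⟨hi, hix⟩ => ?_, ?_⟩
    · obtain ⟨d, hd1, -, hd⟩ := SEPairs.pair_transitive hM hxy.symm ht ((hfixx t).2 (hR.le htR)) hi hix
      exact ⟨d, (hfixx d).1 hd1, hd⟩
    · rintro ⟨h, hh, rfl⟩
      exact ⟨SEPairs.conj_involution ht h, (hfixx _).2 (mul_mem (mul_mem hh (hR.le htR)) (inv_mem hh))⟩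
  have hCi : ∀ p : ℕ, p.Prime → p ∣ (Subgroup.centralizer ({t} : Set G)).relIndex M → p ∉ π := by
    intro p hp hd
    rw [← hI, ← SEPairs.card_swappers hM hxy, hJ] at hd
    exact hm p hp hd
  -- the involutions are congruent modulo the core
  set K := piCore π M
  set C := M ⊓ Subgroup.centralizer ({t} : Set G)
  have hKC : K ⊔ C = M := by
    refine le_antisymm (sup_le (piCore_le M) inf_le_left) ?_
    have hle : K ⊔ C ≤ M := sup_le (piCore_le M) inf_le_left
    rw [← Subgroup.relIndex_eq_one]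
    by_contra hne
    obtain ⟨p, hp, hd⟩ := Nat.exists_prime_and_dvd hne
    refine hCi p hp (hd.trans ?_) (hG.relIndex_piCore hM.1 hp (hd.trans (Subgroup.relIndex_dvd_of_le_left M le_sup_left)))
    have := Subgroup.relIndex_dvd_of_le_left M (le_sup_right : C ≤ K ⊔ C)
    rwa [Subgroup.inf_relIndex_left] at this
  obtain ⟨d, hdM, hd⟩ : ∃ d ∈ M, d * t * d⁻¹ = s := by
    obtain ⟨d, hd1, -, hd⟩ := SEPairs.pair_transitive hM hxy.symm ht ((hfixx t).2 (hR.le htR)) hs ((hfixx s).2 hsM)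
    exact ⟨d, (hfixx d).1 hd1, hd⟩
  have hmul : (d : G) ∈ ((K ⊔ C : Subgroup G) : Set G) := by rw [hKC]; exact hdM
  rw [Subgroup.coe_mul_of_right_le_normalizer_left K C (inf_le_left.trans (le_normalizer_piCore M))] at hmul
  obtain ⟨k, hk, c, hc, rfl⟩ := hmul
  have hsd : k * t * k⁻¹ = s := by
    rw [← hd]
    calc k * t * k⁻¹ = k * (c * t * c⁻¹) * k⁻¹ := by
          rw [Subgroup.mem_centralizer_singleton_iff.1 hc.2, mul_inv_cancel_right]
      _ = _ := by group
  rw [← hsd] at hsR ⊢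
  refine eq_of_conj_by_core ?_ htR hk (le_normalizer_piCore M (hR.le htR)) hsR
  refine Subgroup.inf_eq_bot_of_coprime ?_
  obtain ⟨e, he⟩ := IsPGroup.iff_card.1 hR.isPGroup
  rw [he]
  exact (Nat.coprime_two_left.2 (hG.piCore_odd hM.1)).pow_left _

end Minimal

end Cfsg.Agent.PiClosed
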