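import Cfsg.Agent.Lib.Fusion.PiClosed.Basic
import Cfsg.Agent.Lib.Fusion.Alperin
import Cfsg.Agent.Lib.Solv.Coprime

/-!
# Local structure and fusion in the minimal case
-/

set_option autoImplicit false
set_option linter.style.haveILetI false

open Cfsg.Agent.Fusion

namespace Cfsg.Agent.PiClosed

universe u

variable {G : Type u} [Group G] {π : Set ℕ}

/-- The subgroup generated by the `π'`-elements of `L`. -/
def piCore (π : Set ℕ) (L : Subgroup G) : Subgroup G := Subgroup.closure {x : G | x ∈ L ∧ CoEl π x}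

theorem piCore_le (L : Subgroup G) : piCore π L ≤ L := (Subgroup.closure_le _).2 fun _ hx => hx.1

theorem normalizer_le_normalizer_piCore (L : Subgroup G) :
    Subgroup.normalizer (L : Set G) ≤ Subgroup.normalizer (piCore π L : Set G) := by
  have key : ∀ g ∈ Subgroup.normalizer (L : Set G), ∀ x ∈ piCore π L, g * x * g⁻¹ ∈ piCore π L := by
    intro g hg x hx
    have hx' := Subgroup.mem_map_of_mem (MulAut.conj g).toMonoidHom hx
    rw [piCore, MonoidHom.map_closure] at hx'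
    refine Subgroup.closure_mono ?_ hx'
    rintro _ ⟨y, hy, rfl⟩
    exact ⟨(Subgroup.mem_normalizer_iff.1 hg y).1 hy.1, hy.2.conj g⟩
  intro g hg
  refine Subgroup.mem_normalizer_iff.2 fun x => ⟨key g hg x, fun hx => ?_⟩
  have := key g⁻¹ (inv_mem hg) _ hx
  simpa [mul_assoc] using this

theorem le_normalizer_piCore (L : Subgroup G) : L ≤ Subgroup.normalizer (piCore π L : Set G) :=
  Subgroup.le_normalizer.trans (normalizer_le_normalizer_piCore L)

theorem mul_comm_of_inter_one {A B : Subgroup G} {a b : G} (ha : a ∈ A) (hb : b ∈ B)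
    (h1 : b * a * b⁻¹ ∈ A) (h2 : a * b⁻¹ * a⁻¹ ∈ B) (hAB : A ⊓ B = ⊥) : a * b = b * a := by
  have h : b * a * b⁻¹ * a⁻¹ ∈ A ⊓ B := ⟨A.mul_mem h1 (A.inv_mem ha), by
    rw [show b * a * b⁻¹ * a⁻¹ = b * (a * b⁻¹ * a⁻¹) by group]
    exact B.mul_mem hb h2⟩
  rw [hAB, Subgroup.mem_bot] at h
  calc a * b = 1 * (a * b) := (one_mul _).symm
    _ = b * a * b⁻¹ * a⁻¹ * (a * b) := by rw [h]
    _ = b * a := by group

variable [Finite G]

/-- A 2-element normalising an odd `π`-subgroup centralises it. -/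
theorem Hyp.two_centralizes (h : Hyp π G) {Q : Subgroup G} (hQ : PiSub π Q) (hodd : Odd (Nat.card ↥Q)) {u : G}
    (hu : ∃ k : ℕ, orderOf u = 2 ^ k) (hun : u ∈ Subgroup.normalizer (Q : Set G)) {q : G} (hq : q ∈ Q) :
    u * q = q * u := by
  haveI : Fact (Nat.Prime 2) := ⟨Nat.prime_two⟩
  obtain ⟨k, hk⟩ := hu
  set U := Subgroup.zpowers u
  have hUc : Nat.card ↥U = 2 ^ k := by rw [Nat.card_zpowers, hk]
  have hUn : U ≤ Subgroup.normalizer (Q : Set G) := Subgroup.zpowers_le.2 hun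
  have hcard := Solv.card_sup_mul_card_inf' Q U hUn
  set H := Q ⊔ U
  have hHn : H ≤ Subgroup.normalizer (Q : Set G) := sup_le Subgroup.le_normalizer hUn
  have hinf : Q ⊓ U = ⊥ := Subgroup.inf_eq_bot_of_coprime
    (by rw [hUc]; exact Nat.Coprime.pow_right _ (Nat.coprime_two_right.2 hodd))
  rw [hinf, Subgroup.card_bot, mul_one] at hcard
  have hH : PiSub π H := by
    intro p hp hd
    rw [hcard, hUc] at hd
    rcases hp.dvd_mul.1 hd with hd | hd
    · exact hQ p hp hd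
    · exact (Nat.prime_dvd_prime_iff_eq hp Nat.prime_two).1 (hp.dvd_of_dvd_pow hd) ▸ h.two
  have hUS : SylIn 2 U H := by
    refine ⟨le_sup_right, IsPGroup.of_card hUc, fun hd => ?_⟩
    have h1 := Subgroup.relIndex_mul_relIndex (⊥ : Subgroup G) U H bot_le le_sup_right
    rw [Subgroup.relIndex_bot_left, Subgroup.relIndex_bot_left, hcard, mul_comm (Nat.card ↥Q)] at h1
    rw [Nat.eq_of_mul_eq_mul_left Nat.card_pos h1] at hd
    exact Nat.not_even_iff_odd.2 hodd (even_iff_two_dvd.2 hd)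
  have hn := h.cl H U hH hUS
  refine (mul_comm_of_inter_one hq (Subgroup.mem_zpowers u) ((Subgroup.mem_normalizer_iff.1 hun q).1 hq) ?_ hinf).symm
  exact (Subgroup.mem_normalizer_iff.1 (hn ((le_sup_left : Q ≤ H) hq)) _).1 (U.inv_mem (Subgroup.mem_zpowers u))

namespace Minimal

variable (hG : Minimal π G)
include hG

omit [Finite G] in
theorem not_isMulCommutative : ¬ IsMulCommutative G := fun h => by
  obtain ⟨a, b, hab⟩ := hG.noncomm
  exact hab (h.is_comm.comm a b)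

omit [Finite G] in
theorem center_bot : Subgroup.center G = ⊥ := by
  haveI := hG.simple
  rcases IsSimpleGroup.eq_bot_or_eq_top_of_normal (Subgroup.center G) inferInstance with h | h
  · exact h
  · obtain ⟨a, b, hab⟩ := hG.noncomm
    exact absurd (Subgroup.mem_center_iff.1 (h ▸ Subgroup.mem_top b) a) hab

omit [Finite G] in
theorem centralizer_ne_top {x : G} (hx : x ≠ 1) : Subgroup.centralizer ({x} : Set G) ≠ ⊤ := fun h =>
  hx <| Subgroup.mem_bot.1 <| hG.center_bot ▸ Subgroup.mem_center_iff.2 fun g =>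
    Subgroup.mem_centralizer_singleton_iff.1 (h ▸ Subgroup.mem_top g)

omit [Finite G] in
theorem normalizer_ne_top {H : Subgroup G} (h1 : H ≠ ⊥) (h2 : H ≠ ⊤) : Subgroup.normalizer (H : Set G) ≠ ⊤ := by
  intro h
  haveI := hG.simple
  exact ((IsSimpleGroup.eq_bot_or_eq_top_of_normal H (Subgroup.normalizer_eq_top_iff.1 h)).elim h1 h2)

theorem even_card : 2 ∣ Nat.card G := by
  by_contra h
  haveI := hG.simple
  have := IsSimpleGroup.comm_iff_isSolvable.2
    (Lie.CoreFun.solvable_of_odd (G := G) (Nat.not_even_iff_odd.1 fun e => h (even_iff_two_dvd.1 e)))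
  obtain ⟨a, b, hab⟩ := hG.noncomm
  exact hab (this a b)

theorem ne_top_of_odd {H : Subgroup G} (h : Odd (Nat.card ↥H)) : H ≠ ⊤ := by
  rintro rfl
  rw [Subgroup.card_top] at h
  exact Nat.not_even_iff_odd.2 h (even_iff_two_dvd.2 hG.even_card)

theorem ne_top_of_isPGroup {H : Subgroup G} {p : ℕ} [Fact p.Prime] (h : IsPGroup p H) : H ≠ ⊤ := by
  rintro rfl
  haveI := hG.simple
  have hp : IsPGroup p G := h.of_equiv Subgroup.topEquiv
  haveI := hp.center_nontrivial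
  exact (Subgroup.nontrivial_iff_ne_bot _).1 inferInstance hG.center_bot

omit [Finite G] in
theorem mem_piCore {L : Subgroup G} (hL : L ≠ ⊤) {x : G} : x ∈ piCore π L ↔ x ∈ L ∧ CoEl π x := by
  refine ⟨fun hx => ?_, fun hx => Subgroup.subset_closure hx⟩
  obtain ⟨K, hK⟩ := hG.proper L hL
  have hle : piCore π L ≤ K.map L.subtype := (Subgroup.closure_le _).2 fun y hy =>
    ⟨⟨y, hy.1⟩, (hK _).2 (coEl_coe.1 hy.2), rfl⟩
  obtain ⟨k, hk, rfl⟩ := hle hx
  exact ⟨k.2, coEl_coe.2 ((hK k).1 hk)⟩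

theorem piCore_coPrime {L : Subgroup G} (hL : L ≠ ⊤) {p : ℕ} (hp : p.Prime)
    (hd : p ∣ Nat.card ↥(piCore π L)) : p ∉ π :=
  coPrime_card_of_coEl (fun _ hx => ((hG.mem_piCore hL).1 hx).2) hp hd

theorem piCore_odd {L : Subgroup G} (hL : L ≠ ⊤) : Odd (Nat.card ↥(piCore π L)) :=
  Nat.not_even_iff_odd.1 fun he => hG.piCore_coPrime hL Nat.prime_two (even_iff_two_dvd.1 he) hG.hyp.two

/-- A `π`-complement of the core. -/
theorem exists_complement {L : Subgroup G} (hL : L ≠ ⊤) : ∃ Y : Subgroup G, Y ≤ L ∧ PiSub π Y ∧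
    (∀ l ∈ L, ∃ k ∈ piCore π L, ∃ y ∈ Y, l = k * y) ∧ Nat.card ↥L = Nat.card ↥(piCore π L) * Nat.card ↥Y := by
  obtain ⟨K, hK, hKn, hKc, hKi⟩ := (hG.proper L hL).data
  have hKm : K.map L.subtype = piCore π L := by
    ext x
    rw [hG.mem_piCore hL]
    exact ⟨by rintro ⟨k, hk, rfl⟩; exact ⟨k.2, coEl_coe.2 ((hK k).1 hk)⟩,
      fun hx => ⟨⟨x, hx.1⟩, (hK _).2 (coEl_coe.1 hx.2), rfl⟩⟩
  have hco : (Nat.card ↥K).Coprime K.index := Nat.coprime_of_dvd fun p hp h1 h2 => hKc p hp h1 (hKi p hp h2)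
  obtain ⟨Y₀, hY₀⟩ := Subgroup.exists_right_complement'_of_coprime hco
  refine ⟨Y₀.map L.subtype, Subgroup.map_subtype_le _, fun p hp hd => hKi p hp ?_, fun l hl => ?_, ?_⟩
  · rw [Subgroup.card_map_of_injective L.subtype_injective] at hd
    rw [hY₀.symm.index_eq_card]; exact hd
  · obtain ⟨⟨⟨k, hk⟩, ⟨y, hy⟩⟩, he⟩ := hY₀.2 ⟨l, hl⟩
    exact ⟨k, hKm ▸ ⟨k, hk, rfl⟩, y, ⟨y, hy, rfl⟩, (congrArg Subtype.val he).symm⟩
  · rw [← hKm, Subgroup.card_map_of_injective L.subtype_injective, Subgroup.card_map_of_injective L.subtype_injective,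
      hY₀.card_mul]

/-- `L` is its core times the normaliser of a Sylow 2-subgroup. -/
theorem decomp {L R : Subgroup G} (hL : L ≠ ⊤) (hR : SylIn 2 R L) {l : G} (hl : l ∈ L) :
    ∃ k ∈ piCore π L, ∃ n ∈ L ⊓ Subgroup.normalizer (R : Set G), l = k * n := by
  haveI : Fact (Nat.Prime 2) := ⟨Nat.prime_two⟩
  obtain ⟨Y, hYL, hY, hKY, hcard⟩ := hG.exists_complement hL
  obtain ⟨T, hT⟩ := exists_sylIn (p := 2) Y
  have hTn := hG.hyp.cl Y T hY hT
  have hTL : SylIn 2 T L := ⟨hT.le.trans hYL, hT.isPGroup, fun hd => by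
    rw [← Subgroup.relIndex_mul_relIndex T Y L hT.le hYL] at hd
    rcases Nat.prime_two.dvd_mul.1 hd with hd | hd
    · exact hT.not_dvd hd
    · have h1 := Subgroup.relIndex_mul_relIndex (⊥ : Subgroup G) Y L bot_le hYL
      rw [Subgroup.relIndex_bot_left, Subgroup.relIndex_bot_left, hcard, mul_comm (Nat.card ↥(piCore π L))] at h1
      rw [Nat.eq_of_mul_eq_mul_left Nat.card_pos h1] at hd
      exact hG.piCore_coPrime hL Nat.prime_two hd hG.hyp.two⟩
  obtain ⟨g, hg, hgR⟩ := hTL.conj_eq hR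
  obtain ⟨k₀, hk₀, y₀, hy₀, rfl⟩ := hKY g hg
  have hR' : cj T k₀ = R := by rw [← hgR, ← cj_cj, cj_eq_self (hTn hy₀)]
  have hk₀L := piCore_le L hk₀
  obtain ⟨k, hk, y, hy, he⟩ := hKY (k₀⁻¹ * l * k₀) (mul_mem (mul_mem (inv_mem hk₀L) hl) hk₀L)
  refine ⟨k₀ * k * k₀⁻¹, mul_mem (mul_mem hk₀ hk) (inv_mem hk₀), k₀ * y * k₀⁻¹,
    Subgroup.mem_inf.2 ⟨mul_mem (mul_mem hk₀L (hYL hy)) (inv_mem hk₀L), ?_⟩, ?_⟩
  · rw [← hR']
    refine mem_normalizer_of_cj_le (le_of_eq ?_)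
    rw [cj_cj, inv_mul_cancel_right, ← cj_cj, cj_eq_self (hTn hy)]
  · calc l = k₀ * (k₀⁻¹ * l * k₀) * k₀⁻¹ := by group
      _ = _ := by rw [he]; group

/-- A subgroup supplementing the core has `π'`-index. -/
theorem relIndex_supplement {L C : Subgroup G} (hL : L ≠ ⊤) (hC : C ≤ L)
    (hsup : ∀ l ∈ L, ∃ k ∈ piCore π L, ∃ c ∈ C, l = k * c) {p : ℕ} (hp : p.Prime) (hd : p ∣ C.relIndex L) : p ∉ π := by
  refine hG.piCore_coPrime hL hp (hd.trans ?_)
  have hn : C ≤ Subgroup.normalizer (piCore π L : Set G) := hC.trans (le_normalizer_piCore L)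
  have hLe : piCore π L ⊔ C = L := le_antisymm (sup_le (piCore_le L) hC) fun l hl => by
    obtain ⟨k, hk, c, hc, rfl⟩ := hsup l hl
    exact mul_mem ((le_sup_left : piCore π L ≤ piCore π L ⊔ C) hk) ((le_sup_right : C ≤ piCore π L ⊔ C) hc)
  have h1 := Solv.card_sup_mul_card_inf' (piCore π L) C hn
  rw [hLe, ← Subgroup.relIndex_bot_left L, ← Subgroup.relIndex_mul_relIndex ⊥ C L bot_le hC,
    Subgroup.relIndex_bot_left] at h1
  refine ⟨Nat.card ↥(piCore π L ⊓ C), ?_⟩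
  refine Nat.eq_of_mul_eq_mul_left (Nat.card_pos (α := C)) ?_
  rw [← mul_assoc, h1, mul_comm]

/-- Fusion in a Sylow 2-subgroup is controlled by its normaliser. -/
theorem fusion (S : Sylow 2 G) {A : Set G} (hA : A ⊆ (S : Subgroup G)) {g : G}
    (hg : ∀ a ∈ A, g * a * g⁻¹ ∈ (S : Subgroup G)) :
    ∃ n ∈ Subgroup.normalizer ((S : Subgroup G) : Set G), ∀ a ∈ A, g * a * g⁻¹ = n * a * n⁻¹ := by
  haveI : Fact (Nat.Prime 2) := ⟨Nat.prime_two⟩
  set T₀ := (S : Subgroup G)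
  let R : Subgroup G → G → Prop := fun T x =>
    (T = T₀ ∧ x ∈ Subgroup.normalizer (T₀ : Set G)) ∨ x ∈ Subgroup.centralizer (T : Set G)
  have hR : ∀ T x, R T x → x ∈ Subgroup.normalizer (T : Set G) ∧ R T x⁻¹ := by
    rintro T x (⟨rfl, hx⟩ | hx)
    · exact ⟨hx, Or.inl ⟨rfl, inv_mem hx⟩⟩
    · exact ⟨Subgroup.centralizer_le_normalizer _ hx, Or.inr (inv_mem hx)⟩
  have hloc : ∀ X : Subgroup G, X ≤ T₀ → ∃ (U : Subgroup G) (c : G), U = cj X c ∧ U ≤ T₀ ∧
      SylIn 2 (T₀ ⊓ Subgroup.normalizer (U : Set G)) (Subgroup.normalizer (U : Set G)) ∧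
      ∀ n ∈ Subgroup.normalizer (U : Set G),
        (∀ (W : Subgroup G) (h : G), Nat.card X < Nat.card W → W ≤ T₀ → cj W h⁻¹ ≤ T₀ →
          Chain R (W : Set G) h) →
        Chain R (U : Set G) n := by
    intro X hX
    obtain ⟨c, hcS, hsyl⟩ := exists_extremal_conj (sylIn_top S) hX
    refine ⟨cj X c, c, rfl, hcS, hsyl, fun n hn hbig => ?_⟩
    set U := cj X c with hU
    by_cases hUS : U = T₀
    · exact Chain.single (Or.inl ⟨hUS, hUS ▸ hn⟩) subset_rfl
    by_cases hUb : U = ⊥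
    · exact Chain.single (T := U) (Or.inr (Subgroup.mem_centralizer_iff.2 fun y hy => by
        rw [SetLike.mem_coe, hUb, Subgroup.mem_bot] at hy; simp [hy])) subset_rfl
    set T' := T₀ ⊓ Subgroup.normalizer (U : Set G) with hT'
    have hUT : U < T' := SylIn.normalizer_growth (p := 2) hcS hUS S.isPGroup'
    have hUtop : U ≠ ⊤ := fun e => hG.ne_top_of_isPGroup S.isPGroup' (top_unique (e ▸ hcS))
    have hN := hG.normalizer_ne_top hUb hUtop
    obtain ⟨k, hk, m, ⟨hmN, hm⟩, rfl⟩ := hG.decomp hN hsyl hn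
    have hkc : k ∈ Subgroup.centralizer (U : Set G) := by
      refine Subgroup.mem_centralizer_iff.2 fun y hy => (mul_comm_of_inter_one (A := U) hy hk ?_ ?_ ?_)
      · exact (Subgroup.mem_normalizer_iff.1 (piCore_le _ hk) y).1 hy
      · exact (Subgroup.mem_normalizer_iff.1 (le_normalizer_piCore _ (Subgroup.le_normalizer hy)) _).1 (inv_mem hk)
      · refine Subgroup.inf_eq_bot_of_coprime ?_
        obtain ⟨e, he⟩ := IsPGroup.iff_card.1 ((S.isPGroup'.to_le hcS : IsPGroup 2 ↥U))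
        rw [he]
        exact (Nat.coprime_two_left.2 (hG.piCore_odd hN)).pow_left _
    have hlt : Nat.card X < Nat.card T' := by
      rw [← card_cj X c, ← hU]
      by_contra hcon
      exact hUT.ne (Subgroup.eq_of_le_of_card_ge hUT.le (by omega))
    have hch : Chain R (T' : Set G) m := hbig T' m hlt inf_le_left (by
      rw [cj_eq_self (inv_mem hm)]; exact inf_le_left)
    refine Chain.cons U k (Or.inr hkc) subset_rfl ?_
    refine hch.mono ?_
    rintro _ ⟨a, ha, rfl⟩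
    refine hUT.le ?_
    show k⁻¹ * a * k ∈ U
    rw [mul_assoc, Subgroup.mem_centralizer_iff.1 hkc a ha, inv_mul_cancel_left]
    exact ha
  have hgA : rcj g⁻¹ A ⊆ T₀ := by
    rintro _ ⟨a, ha, rfl⟩
    simpa using hg a ha
  have hch := chain_of_local (sylIn_top S) hR hloc hA hgA
  suffices key : ∀ (B : Set G) (x : G), Chain R B x → B ⊆ T₀ →
      ∃ n ∈ Subgroup.normalizer (T₀ : Set G), ∀ a ∈ B, x⁻¹ * a * x = n⁻¹ * a * n by
    obtain ⟨n, hn, hna⟩ := key A g⁻¹ hch hA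
    exact ⟨n⁻¹, inv_mem hn, fun a ha => by simpa using hna a ha⟩
  intro B x hB
  induction hB with
  | nil B => exact fun _ => ⟨1, one_mem _, fun a _ => rfl⟩
  | @cons B g T x hx hT _ ih =>
    intro hBS
    rcases hx with ⟨rfl, hx⟩ | hx
    · obtain ⟨n, hn, hna⟩ := ih (by
        rintro _ ⟨a, ha, rfl⟩
        simpa using (Subgroup.mem_normalizer_iff.1 (inv_mem hx) a).1 (hBS ha))
      refine ⟨x * n, mul_mem hx hn, fun a ha => ?_⟩
      calc (x * g)⁻¹ * a * (x * g) = g⁻¹ * (x⁻¹ * a * x) * g := by group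
        _ = n⁻¹ * (x⁻¹ * a * x) * n := hna _ ⟨a, ha, rfl⟩
        _ = _ := by group
    · have hfix : ∀ a ∈ B, x⁻¹ * a * x = a := fun a ha => by
        rw [mul_assoc, Subgroup.mem_centralizer_iff.1 hx a (hT ha), inv_mul_cancel_left]
      obtain ⟨n, hn, hna⟩ := ih (by
        rintro _ ⟨a, ha, rfl⟩
        show x⁻¹ * a * x ∈ T₀
        rw [hfix a ha]; exact hBS ha)
      refine ⟨n, hn, fun a ha => ?_⟩
      calc (x * g)⁻¹ * a * (x * g) = g⁻¹ * (x⁻¹ * a * x) * g := by group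
        _ = n⁻¹ * (x⁻¹ * a * x) * n := hna _ ⟨a, ha, rfl⟩
        _ = _ := by rw [hfix a ha]

end Minimal

end Cfsg.Agent.PiClosed
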