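import Cfsg.Agent.Lib.Fusion.PiClosed.Signal
import Cfsg.Agent.Lib.Char.HomocyclicSylow
import Cfsg.Agent.Lib.GW.DihedralReduced
import Cfsg.Agent.Lib.Classical.Dickson.Tools
import Cfsg.Agent.S1237

/-!
# The Sylow 2-subgroup in the minimal case is of the type of `U₃(4)`
-/

set_option autoImplicit false
set_option linter.style.haveILetI false

open Cfsg.Agent.Fusion
open Matrix
open scoped commutatorElement

namespace Cfsg.Agent.PiClosed

universe u

variable {G : Type u} [Group G] [Finite G] {π : Set ℕ}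

/-- No element of `π`-order is inverted. -/
theorem Hyp.no_inverted (h : Hyp π G) {x t : G} (hx1 : x ≠ 1) (hodd : Odd (orderOf x))
    (hx : ∀ p : ℕ, p.Prime → p ∣ orderOf x → p ∈ π) (ht : ∃ k : ℕ, orderOf t = 2 ^ k)
    (hinv : t * x * t⁻¹ = x⁻¹) : False := by
  have hn : t ∈ Subgroup.normalizer (Subgroup.zpowers x : Set G) := by
    refine mem_normalizer_of_cj_le ?_
    rintro _ ⟨w, hw, rfl⟩
    obtain ⟨i, rfl⟩ := Subgroup.mem_zpowers_iff.1 hw
    show t * x ^ i * t⁻¹ ∈ _
    rw [← conj_zpow, hinv]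
    exact zpow_mem (inv_mem (Subgroup.mem_zpowers x)) i
  have hc := h.two_centralizes (piSub_zpowers hx) (by rw [Nat.card_zpowers]; exact hodd) ht hn
    (Subgroup.mem_zpowers x)
  rw [hc, mul_inv_cancel_right] at hinv
  have h2 : orderOf x ∣ 2 := orderOf_dvd_of_pow_eq_one (by
    rw [sq]; nth_rewrite 1 [hinv]; exact inv_mul_cancel x)
  rcases (Nat.dvd_prime Nat.prime_two).1 h2 with e | e
  · exact hx1 (orderOf_eq_one_iff.1 e)
  · exact Nat.not_even_iff_odd.2 hodd (e ▸ even_two)

omit [Finite G] in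
/-- An element of odd order acting as a transposition has none. -/
theorem no_swap {y e f : G} (hodd : Odd (orderOf y)) (hne : e ≠ f) (h1 : y * e * y⁻¹ = f) (h2 : y * f * y⁻¹ = e) :
    False := by
  obtain ⟨k, hk⟩ := hodd
  have h2k : ∀ j : ℕ, y ^ (2 * j) * e * (y ^ (2 * j))⁻¹ = e := by
    intro j
    induction j with
    | zero => simp
    | succ j ih =>
      calc y ^ (2 * (j + 1)) * e * (y ^ (2 * (j + 1)))⁻¹
          = y ^ (2 * j) * (y * (y * e * y⁻¹) * y⁻¹) * (y ^ (2 * j))⁻¹ := by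
            rw [show 2 * (j + 1) = 2 * j + 1 + 1 by ring, pow_succ, pow_succ]; group
        _ = e := by rw [h1, h2, ih]
  have := h2k k
  have h3 : y ^ (2 * k + 1) * e * (y ^ (2 * k + 1))⁻¹ = f := by
    calc y ^ (2 * k + 1) * e * (y ^ (2 * k + 1))⁻¹ = y * (y ^ (2 * k) * e * (y ^ (2 * k))⁻¹) * y⁻¹ := by
          rw [pow_succ']; group
      _ = f := by rw [this, h1]
  rw [← hk, pow_orderOf_eq_one] at h3
  exact hne (by simpa using h3)

/-- An element of the normaliser moving an involution of `E` gives a cycle. -/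
theorem exists_cycle_of (S : Sylow 2 G) (hcard : Nat.card ↥(omegaZ (S : Subgroup G)) = 4) {e : G}
    (he : e ∈ omegaZ (S : Subgroup G)) (he1 : e ≠ 1) {n : G} (hn : n ∈ Subgroup.normalizer ((S : Subgroup G) : Set G))
    (hne : n * e * n⁻¹ ≠ e) : ∃ a e f : G, a ∈ Subgroup.normalizer ((S : Subgroup G) : Set G) ∧
    Odd (orderOf a) ∧ e ∈ omegaZ (S : Subgroup G) ∧ f ∈ omegaZ (S : Subgroup G) ∧ e ≠ 1 ∧ f ≠ 1 ∧ e ≠ f ∧
    a * e * a⁻¹ = f ∧ a * f * a⁻¹ = e * f ∧ a * (e * f) * a⁻¹ = e ∧
    ∀ x ∈ omegaZ (S : Subgroup G), x = 1 ∨ x = e ∨ x = f ∨ x = e * f := by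
  classical
  haveI : Fact (Nat.Prime 2) := ⟨Nat.prime_two⟩
  -- replace `n` by its part of odd order
  obtain ⟨x, y, hxy, hc, ⟨k, hk⟩, hy⟩ := Char.exists_isPPart Nat.prime_two n
  have hx : x ∈ Subgroup.zpowers n := by
    have h1 := Char.preg_mem_zpowers Nat.prime_two n (Subgroup.mem_zpowers n)
    rw [Char.preg_eq Nat.prime_two (⟨y, hxy, hc, ⟨k, hk⟩, hy⟩ : Cfsg.IsPPart 2 n x)] at h1
    have := mul_mem (Subgroup.mem_zpowers n) (inv_mem h1)
    simpa using this
  have hxN : x ∈ Subgroup.normalizer ((S : Subgroup G) : Set G) := (Subgroup.zpowers_le.2 hn) hx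
  have hyN : y ∈ Subgroup.normalizer ((S : Subgroup G) : Set G) := by
    rw [show y = x⁻¹ * n by rw [← hxy]; group]; exact mul_mem (inv_mem hxN) hn
  have hxS : x ∈ (S : Subgroup G) := by
    have hP : IsPGroup 2 ↥((S : Subgroup G) ⊔ Subgroup.zpowers x) :=
      IsPGroup.to_sup_of_normal_left' S.isPGroup' (IsPGroup.of_card (n := k) (by rw [Nat.card_zpowers, hk]))
        (Subgroup.zpowers_le.2 hxN)
    rw [← S.is_maximal' hP le_sup_left]
    exact (le_sup_right : _ ≤ (S : Subgroup G) ⊔ Subgroup.zpowers x) (Subgroup.mem_zpowers x)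
  set f := y * e * y⁻¹ with hf
  have hfE : f ∈ omegaZ (S : Subgroup G) := omegaZ_normalizer hyN he
  have hne' : f ≠ e := by
    intro h
    refine hne ?_
    rw [← hxy, show x * y * e * (x * y)⁻¹ = x * f * x⁻¹ by rw [hf]; group, h,
      he.2.2 x hxS, mul_inv_cancel_right]
  have hodd : Odd (orderOf y) := Nat.not_even_iff_odd.1 fun h => hy (even_iff_two_dvd.1 h)
  have hf1 : f ≠ 1 := fun h => he1 (conj_eq_one_iff.1 h)
  have hall : ∀ w ∈ omegaZ (S : Subgroup G), w = 1 ∨ w = e ∨ w = f ∨ w = e * f := by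
    intro w hw
    by_contra hcon
    push Not at hcon
    have hef1 : e * f ≠ 1 := fun h => hne' (by
      calc f = (e * e) * f := by rw [he.2.1, one_mul]
        _ = e * (e * f) := by group
        _ = e := by rw [h, mul_one])
    have hefe : e * f ≠ e := fun h => hf1 (mul_eq_left.1 h)
    have heff : e * f ≠ f := fun h => he1 (mul_eq_right.1 h)
    let v : Fin 5 → omegaZ (S : Subgroup G) := ![1, ⟨e, he⟩, ⟨f, hfE⟩, ⟨e * f, mul_mem he hfE⟩, ⟨w, hw⟩]
    have hv : Function.Injective v := by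
      intro i j h
      fin_cases i <;> fin_cases j <;>
        first
          | rfl
          | (exfalso; simp [v, Subtype.ext_iff, he1, hf1, hne', hef1, hefe, heff, hcon.1, hcon.2.1, hcon.2.2.1,
              hcon.2.2.2, Ne.symm he1, Ne.symm hf1, Ne.symm hne', Ne.symm hef1, Ne.symm hefe, Ne.symm heff,
              Ne.symm hcon.1, Ne.symm hcon.2.1, Ne.symm hcon.2.2.1, Ne.symm hcon.2.2.2] at h)
    have := Nat.card_le_card_of_injective v hv
    rw [Nat.card_fin, hcard] at this
    omega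
  have hinj : ∀ a b : G, y * a * y⁻¹ = y * b * y⁻¹ → a = b := fun a b h =>
    mul_left_cancel (mul_right_cancel h)
  have hyf : y * f * y⁻¹ = e * f := by
    rcases hall _ (omegaZ_normalizer hyN hfE) with h | h | h | h
    · exact absurd (conj_eq_one_iff.1 h) hf1
    · exact (no_swap hodd hne'.symm hf.symm h).elim
    · exact absurd (hinj f e (h.trans hf)) hne'
    · exact h
  refine ⟨y, e, f, hyN, hodd, he, hfE, he1, hf1, hne'.symm, hf.symm, hyf, ?_, hall⟩
  calc y * (e * f) * y⁻¹ = (y * e * y⁻¹) * (y * f * y⁻¹) := by group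
    _ = f * (e * f) := by rw [← hf, hyf]
    _ = e * (f * f) := by rw [← mul_assoc, omegaZ_comm hfE he, mul_assoc]
    _ = e := by rw [hfE.2.1, mul_one]

namespace Minimal

variable (hG : Minimal π G)
include hG

/-- An element of odd order of `N(S)` permuting the three central involutions cyclically. -/
theorem exists_cycle (S : Sylow 2 G) : ∃ a e f : G, a ∈ Subgroup.normalizer ((S : Subgroup G) : Set G) ∧
    Odd (orderOf a) ∧ e ∈ omegaZ (S : Subgroup G) ∧ f ∈ omegaZ (S : Subgroup G) ∧ e ≠ 1 ∧ f ≠ 1 ∧ e ≠ f ∧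
    a * e * a⁻¹ = f ∧ a * f * a⁻¹ = e * f ∧ a * (e * f) * a⁻¹ = e ∧
    ∀ x ∈ omegaZ (S : Subgroup G), x = 1 ∨ x = e ∨ x = f ∨ x = e * f := by
  obtain ⟨hcard, -, -⟩ := hG.four_config S
  obtain ⟨e, he, he1⟩ := hG.exists_omegaZ S
  obtain ⟨n, hn, hne⟩ := hG.exists_other S he he1
  exact PiClosed.exists_cycle_of S hcard he he1 hn hne

theorem piSub_omegaZ (S : Sylow 2 G) : PiSub π (omegaZ (S : Subgroup G)) :=
  haveI : Fact (Nat.Prime 2) := ⟨Nat.prime_two⟩
  piSub_of_pGroup (S.isPGroup'.to_le (omegaZ_le _)) hG.hyp.two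

theorem three_mem (S : Sylow 2 G) : 3 ∈ π := by
  obtain ⟨a, e, f, haN, -, he, hf, -, hf1, hef, h1, h2, h3, -⟩ := hG.exists_cycle S
  have hn : a ∈ Subgroup.normalizer (omegaZ (S : Subgroup G) : Set G) :=
    mem_normalizer_of_cj_le (by rintro _ ⟨w, hw, rfl⟩; exact omegaZ_normalizer haN hw)
  obtain ⟨m, hm, ham⟩ := hG.hyp.au _ (hG.piSub_omegaZ S) a hn
  by_contra h3π
  have hr : ∀ j : ℕ, (a ^ (3 * j)) * e * (a ^ (3 * j))⁻¹ = e := by
    intro j
    induction j with
    | zero => simp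
    | succ j ih =>
      calc a ^ (3 * (j + 1)) * e * (a ^ (3 * (j + 1)))⁻¹
          = a ^ (3 * j) * (a * (a * (a * e * a⁻¹) * a⁻¹) * a⁻¹) * (a ^ (3 * j))⁻¹ := by
            rw [show 3 * (j + 1) = 3 * j + 1 + 1 + 1 by ring, pow_succ, pow_succ, pow_succ]; group
        _ = e := by rw [h1, h2, h3, ih]
  have hfix : a ^ m * e * (a ^ m)⁻¹ = e := by
    rw [← Subgroup.mem_centralizer_iff.1 ham e he, mul_inv_cancel_right]
  have hm3 : m % 3 ≠ 0 := fun h => h3π (hm 3 Nat.prime_three (Nat.dvd_of_mod_eq_zero h))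
  have hsplit : a ^ m * e * (a ^ m)⁻¹ = a ^ (m % 3) * e * (a ^ (m % 3))⁻¹ := by
    conv_lhs => rw [← Nat.mod_add_div m 3, pow_add]
    calc a ^ (m % 3) * a ^ (3 * (m / 3)) * e * (a ^ (m % 3) * a ^ (3 * (m / 3)))⁻¹
        = a ^ (m % 3) * (a ^ (3 * (m / 3)) * e * (a ^ (3 * (m / 3)))⁻¹) * (a ^ (m % 3))⁻¹ := by group
      _ = _ := by rw [hr]
  rw [hfix] at hsplit
  rcases (by omega : m % 3 = 1 ∨ m % 3 = 2) with h | h
  · rw [h, pow_one, h1] at hsplit
    exact hef hsplit
  · rw [h, show a ^ 2 * e * (a ^ 2)⁻¹ = a * (a * e * a⁻¹) * a⁻¹ by rw [sq]; group, h1, h2] at hsplit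
    exact hf1 (mul_eq_left.1 hsplit.symm)

/-- The group is not a projective special linear group. -/
theorem not_psl {F : Type} [Field F] [Fintype F] (ho : Odd (Fintype.card F)) (h3 : 3 < Fintype.card F)
    (S : Sylow 2 G) (hS : Nat.card ↥(S : Subgroup G) = 4)
    (iso : G ≃* Matrix.ProjectiveSpecialLinearGroup (Fin 2) F) : False := by
  classical
  haveI : Fact (Nat.Prime 2) := ⟨Nat.prime_two⟩
  have h3π := hG.three_mem S
  let Z := Subgroup.center (Matrix.SpecialLinearGroup (Fin 2) F)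
  let img : Matrix.SpecialLinearGroup (Fin 2) F →* G := iso.symm.toMonoidHom.comp (QuotientGroup.mk' Z)
  have himg : ∀ A, img A = 1 ↔ A ∈ Z := fun A => by
    show iso.symm (QuotientGroup.mk' Z A) = 1 ↔ _
    rw [EmbeddingLike.map_eq_one_iff]; exact QuotientGroup.eq_one_iff A
  have hscal : ∀ A : Matrix.SpecialLinearGroup (Fin 2) F, A ∈ Z →
      A.1 0 0 = A.1 1 1 ∧ A.1 0 1 = 0 ∧ A.1 1 0 = 0 := by
    intro A hA
    obtain ⟨r, -, hr⟩ := Matrix.SpecialLinearGroup.mem_center_iff.1 hA
    rw [← hr]; simp [Matrix.scalar_apply]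
  obtain ⟨p, hpF⟩ := CharP.exists F
  haveI := hpF
  haveI : Fact p.Prime := ⟨CharP.char_is_prime F p⟩
  by_cases hp3 : p = 3
  · subst hp3
    -- an odd prime divisor of `q - 1`
    obtain ⟨l, hl, hl2, hld⟩ : ∃ l, l.Prime ∧ l ≠ 2 ∧ l ∣ Fintype.card F - 1 := by
      by_contra hc
      push Not at hc
      obtain ⟨k, hk⟩ : ∃ k, Fintype.card F - 1 = 2 ^ k := by
        refine ⟨_, Nat.eq_prime_pow_of_unique_prime_dvd (by omega) fun {d} hd hdd => ?_⟩
        by_contra h
        exact hc d hd h hdd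
      have hc' := Classical.Dickson.card_psl F
      rw [← Nat.card_congr iso.toEquiv] at hc'
      have h8 : ¬ 8 ∣ Nat.card G := by
        intro h8
        obtain ⟨T, hT⟩ := Sylow.exists_subgroup_card_pow_prime 2 (n := 3) (by simpa using h8)
        obtain ⟨g, -, hg⟩ := (sylIn_top S).conj_le (IsPGroup.of_card hT) le_top
        have := Subgroup.card_le_of_le hg
        rw [card_cj, hT, hS] at this
        omega
      set q := Fintype.card F
      rw [show Nat.gcd 2 (q - 1) = 2 from Nat.gcd_eq_left (by obtain ⟨j, hj⟩ := ho; omega),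
        show q ^ 2 - 1 = (q - 1) * (q + 1) by rw [mul_comm, ← Nat.sq_sub_sq, one_pow], hk] at hc'
      obtain ⟨j, hj⟩ := ho
      rcases Nat.lt_or_ge k 3 with h | h
      · have hq : q = 5 := by interval_cases k <;> omega
        obtain ⟨n, hn⟩ := (FiniteField.card F 3).imp fun n h => h.2
        have : 3 ∣ 5 := by rw [← hq, show q = 3 ^ (n : ℕ) from hn]; exact dvd_pow_self 3 n.pos.ne'
        omega
      · have h16 : 16 ∣ 2 ^ k * (q + 1) := by
          obtain ⟨k', rfl⟩ : ∃ k', k = k' + 3 := ⟨k - 3, by omega⟩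
          exact ⟨2 ^ k' * (j + 1), by rw [hj, pow_add]; ring⟩
        have h16' : 16 ∣ Nat.card G * 2 := by
          rw [hc']; exact h16.mul_left q
        exact h8 (Nat.dvd_of_mul_dvd_mul_right two_pos (show 8 * 2 ∣ Nat.card G * 2 from h16'))
    haveI : Fact l.Prime := ⟨hl⟩
    obtain ⟨r, hr⟩ := exists_prime_orderOf_dvd_card' (G := Fˣ) l
      (by rw [Nat.card_units, Nat.card_eq_fintype_card]; exact hld)
    obtain ⟨T, hT⟩ : ∃ T : Matrix.SpecialLinearGroup (Fin 2) F, T.1 = !![(r : F), 0; 0, ((r⁻¹ : Fˣ) : F)] :=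
      ⟨⟨_, by simp [Matrix.det_fin_two_of]⟩, rfl⟩
    obtain ⟨w, hw⟩ : ∃ w : Matrix.SpecialLinearGroup (Fin 2) F, w.1 = !![0, 1; -1, 0] :=
      ⟨⟨_, by simp [Matrix.det_fin_two_of]⟩, rfl⟩
    obtain ⟨uh, huh⟩ : ∃ uh : Multiplicative F →* Matrix.SpecialLinearGroup (Fin 2) F,
        ∀ b, (uh b).1 = !![1, Multiplicative.toAdd b; 0, 1] := by
      have hdet : ∀ b : F, Matrix.det !![1, b; 0, 1] = 1 := fun b => by simp [Matrix.det_fin_two_of]
      let u0 : Multiplicative F → Matrix.SpecialLinearGroup (Fin 2) F := fun b =>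
        ⟨!![1, Multiplicative.toAdd b; 0, 1], hdet _⟩
      have hu0 : ∀ b, (u0 b).1 = !![1, Multiplicative.toAdd b; 0, 1] := fun b => rfl
      refine ⟨{ toFun := u0, map_one' := ?_, map_mul' := ?_ }, hu0⟩
      · refine Subtype.ext ?_
        rw [hu0, Matrix.SpecialLinearGroup.coe_one]
        ext i j; fin_cases i <;> fin_cases j <;> simp
      · intro a b
        refine Subtype.ext ?_
        rw [Matrix.SpecialLinearGroup.coe_mul, hu0, hu0, hu0]
        ext i j; fin_cases i <;> fin_cases j <;> simp [Matrix.mul_apply, Fin.sum_univ_two, add_comm]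
    have hr2 : (r : F) * r ≠ 1 := fun h => by
      have h2 : orderOf r ∣ 2 := orderOf_dvd_of_pow_eq_one (Units.ext (by rw [sq, Units.val_mul, h, Units.val_one]))
      rw [hr] at h2
      exact hl2 ((Nat.prime_dvd_prime_iff_eq hl Nat.prime_two).1 h2)
    have hTord : orderOf (img T) = l := by
      refine orderOf_eq_prime ?_ fun h => hr2 ?_
      · rw [← map_pow, himg]
        have hpow : ∀ n : ℕ, (T ^ n).1 = !![((r ^ n : Fˣ) : F), 0; 0, (((r ^ n)⁻¹ : Fˣ) : F)] := by
          intro n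
          induction n with
          | zero => ext i j; fin_cases i <;> fin_cases j <;> simp
          | succ n ih =>
            rw [pow_succ, Matrix.SpecialLinearGroup.coe_mul, ih]
            ext i j; fin_cases i <;> fin_cases j <;>
              simp [hT, Matrix.mul_apply, Fin.sum_univ_two, pow_succ, mul_comm]
        rw [show T ^ l = 1 from Subtype.ext (by
          rw [hpow, ← hr, pow_orderOf_eq_one]
          ext i j; fin_cases i <;> fin_cases j <;> simp)]
        exact one_mem _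
      · obtain ⟨e, -, -⟩ := hscal _ ((himg _).1 h)
        simp only [hT, Matrix.of_apply, Matrix.cons_val', Matrix.cons_val_zero, Matrix.cons_val_one,
          Matrix.empty_val', Matrix.cons_val_fin_one] at e
        calc (r : F) * r = ((r⁻¹ : Fˣ) : F) * r := by rw [← e]
          _ = 1 := Units.inv_mul r
    set U := (img.comp uh).range
    have hU : PiSub π U := by
      haveI : Fact (Nat.Prime 3) := ⟨Nat.prime_three⟩
      refine piSub_of_pGroup (p := 3) ?_ h3π
      rintro ⟨_, b, rfl⟩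
      refine ⟨1, Subtype.ext ?_⟩
      rw [SubgroupClass.coe_pow, OneMemClass.coe_one, pow_one, ← map_pow,
        show b ^ 3 = 1 from Multiplicative.toAdd.injective (by
          rw [toAdd_pow, toAdd_one, nsmul_eq_mul, CharP.cast_eq_zero F 3, zero_mul]), map_one]
    have hconj : ∀ b, T * uh b * T⁻¹ = uh (Multiplicative.ofAdd ((r : F) * r * Multiplicative.toAdd b)) := by
      intro b
      rw [mul_inv_eq_iff_eq_mul]
      refine Subtype.ext ?_
      rw [Matrix.SpecialLinearGroup.coe_mul, Matrix.SpecialLinearGroup.coe_mul, huh, huh, hT]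
      ext i j; fin_cases i <;> fin_cases j <;> simp [Matrix.mul_apply, Fin.sum_univ_two] <;> field_simp
    have hTn : img T ∈ Subgroup.normalizer (U : Set G) := by
      refine mem_normalizer_of_cj_le ?_
      rintro _ ⟨_, ⟨b, rfl⟩, rfl⟩
      refine ⟨Multiplicative.ofAdd ((r : F) * r * Multiplicative.toAdd b), ?_⟩
      show img (uh _) = img T * img (uh b) * (img T)⁻¹
      rw [← hconj, map_mul, map_mul, map_inv]
    have hlπ : l ∈ π := by
      by_contra hlπ
      have hco : CoEl π (img T) := fun q hq hqd => (Nat.prime_dvd_prime_iff_eq hq hl).1 (hTord ▸ hqd) ▸ hlπ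
      have hc := Subgroup.mem_centralizer_iff.1 (hG.hyp.coEl_centralizes hU hTn hco) _
        (show img (uh (Multiplicative.ofAdd 1)) ∈ U from ⟨_, rfl⟩)
      have h1 : img (T * uh (Multiplicative.ofAdd 1) * T⁻¹ * (uh (Multiplicative.ofAdd 1))⁻¹) = 1 := by
        rw [map_mul, map_mul, map_mul, map_inv, map_inv, ← hc, mul_inv_cancel_right, mul_inv_cancel]
      obtain ⟨-, h01, -⟩ := hscal _ ((himg _).1 h1)
      rw [hconj, ← map_inv, ← map_mul] at h01
      apply hr2
      rw [huh] at h01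
      simpa [← sub_eq_add_neg, sub_eq_zero] using h01
    refine hG.hyp.no_inverted (x := img T) (t := img w) (fun h => hl.ne_one (by rw [← hTord, h, orderOf_one]))
      (hTord ▸ hl.odd_of_ne_two hl2) (fun q hq hqd => (Nat.prime_dvd_prime_iff_eq hq hl).1 (hTord ▸ hqd) ▸ hlπ) ⟨1, ?_⟩ ?_
    · rw [pow_one]
      refine orderOf_eq_prime ?_ fun h => ?_
      · rw [← map_pow, himg, Matrix.SpecialLinearGroup.mem_center_iff]
        refine ⟨-1, by simp, ?_⟩
        rw [sq, Matrix.SpecialLinearGroup.coe_mul, hw]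
        ext i j; fin_cases i <;> fin_cases j <;> simp [Matrix.mul_apply, Fin.sum_univ_two, Matrix.scalar_apply]
      · obtain ⟨-, e, -⟩ := hscal _ ((himg _).1 h)
        simp [hw] at e
    · rw [← map_inv img T, ← map_inv img w, ← map_mul, ← map_mul]
      congr 1
      rw [mul_inv_eq_iff_eq_mul]
      refine Subtype.ext ?_
      rw [Matrix.SpecialLinearGroup.coe_mul, Matrix.SpecialLinearGroup.coe_mul, Matrix.SpecialLinearGroup.coe_inv, hT, hw]
      ext i j; fin_cases i <;> fin_cases j <;> simp [Matrix.mul_apply, Fin.sum_univ_two, Matrix.adjugate_fin_two]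
  · -- an inverted element of order three
    have h30 : (3 : F) ≠ 0 := fun h => hp3 (((Nat.prime_dvd_prime_iff_eq Fact.out Nat.prime_three).1
      ((CharP.cast_eq_zero_iff F p 3).1 (by exact_mod_cast h))))
    have h20 : (2 : F) ≠ 0 := fun h => by
      have := (CharP.cast_eq_zero_iff F p 2).1 (by exact_mod_cast h)
      have hp2 := (Nat.prime_dvd_prime_iff_eq Fact.out Nat.prime_two).1 this
      subst hp2
      obtain ⟨n, -, hn⟩ := FiniteField.card F 2
      rw [hn] at ho
      exact Nat.not_even_iff_odd.2 ho (Nat.even_pow.2 ⟨even_two, n.pos.ne'⟩)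
    obtain ⟨a, b, hab⟩ : ∃ a b : F, a * a + a * b + b * b = -1 := by
      obtain ⟨c, d, hcd⟩ := FiniteField.exists_root_sum_quadratic (R := F)
        (f := Polynomial.X ^ 2) (g := Polynomial.C (3 / 4 : F) * Polynomial.X ^ 2 + Polynomial.C 1)
        (Polynomial.degree_X_pow 2) (by
          have h34 : (3 / 4 : F) ≠ 0 :=
            div_ne_zero h30 (by rw [show (4 : F) = 2 * 2 by norm_num]; exact mul_ne_zero h20 h20)
          rw [Polynomial.degree_add_C (by rw [Polynomial.degree_C_mul_X_pow 2 h34]; exact WithBot.coe_lt_coe.2 Nat.two_pos),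
            Polynomial.degree_C_mul_X_pow 2 h34]
          rfl)
        (Nat.odd_iff.1 ho)
      refine ⟨c - d / 2, d, ?_⟩
      simp only [Polynomial.eval_pow, Polynomial.eval_X, Polynomial.eval_add, Polynomial.eval_mul, Polynomial.eval_C] at hcd
      have h40 : (4 : F) ≠ 0 := by rw [show (4 : F) = 2 * 2 by norm_num]; exact mul_ne_zero h20 h20
      field_simp at hcd ⊢
      linear_combination hcd
    obtain ⟨x, hx⟩ : ∃ x : Matrix.SpecialLinearGroup (Fin 2) F, x.1 = !![0, -1; 1, -1] :=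
      ⟨⟨_, by simp [Matrix.det_fin_two_of]⟩, rfl⟩
    obtain ⟨w, hw⟩ : ∃ w : Matrix.SpecialLinearGroup (Fin 2) F, w.1 = !![a, b; a + b, -a] :=
      ⟨⟨_, by rw [Matrix.det_fin_two_of]; linear_combination -hab⟩, rfl⟩
    have hx3 : orderOf (img x) = 3 := by
      haveI : Fact (Nat.Prime 3) := ⟨Nat.prime_three⟩
      refine orderOf_eq_prime ?_ fun h => ?_
      · rw [← map_pow, show x ^ 3 = 1 from Subtype.ext (by
          rw [pow_succ, pow_two, Matrix.SpecialLinearGroup.coe_mul, Matrix.SpecialLinearGroup.coe_mul, hx,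
            Matrix.SpecialLinearGroup.coe_one]
          ext i j; fin_cases i <;> fin_cases j <;> simp [Matrix.mul_apply, Fin.sum_univ_two]), map_one]
      · obtain ⟨-, e, -⟩ := hscal _ ((himg _).1 h)
        simp [hx] at e
    have hwz : w ∉ Z := fun h => by
      obtain ⟨e1, e2, e3⟩ := hscal _ h
      simp [hw] at e1 e2 e3
      rw [e2, add_zero] at e3
      rw [e2, e3] at hab
      simp at hab
    refine hG.hyp.no_inverted (x := img x) (t := img w) (fun h => by rw [h, orderOf_one] at hx3; omega)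
      (hx3 ▸ by decide) (fun q hq hqd => (Nat.prime_dvd_prime_iff_eq hq Nat.prime_three).1 (hx3 ▸ hqd) ▸ h3π) ⟨1, ?_⟩ ?_
    · rw [pow_one]
      refine orderOf_eq_prime ?_ fun h => hwz ((himg _).1 h)
      rw [← map_pow, himg, Matrix.SpecialLinearGroup.mem_center_iff]
      refine ⟨-1, by simp, ?_⟩
      rw [sq, Matrix.SpecialLinearGroup.coe_mul, hw]
      ext i j; fin_cases i <;> fin_cases j <;> simp [Matrix.mul_apply, Fin.sum_univ_two, Matrix.scalar_apply] <;>
        (first | ring1 | linear_combination hab | linear_combination -hab)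
    · rw [← map_inv img x, ← map_inv img w, ← map_mul, ← map_mul]
      congr 1
      rw [mul_inv_eq_iff_eq_mul]
      refine Subtype.ext ?_
      rw [Matrix.SpecialLinearGroup.coe_mul, Matrix.SpecialLinearGroup.coe_mul, Matrix.SpecialLinearGroup.coe_inv, hx, hw]
      ext i j; fin_cases i <;> fin_cases j <;> simp [Matrix.mul_apply, Fin.sum_univ_two, Matrix.adjugate_fin_two] <;> ring

/-- The remaining type. -/
theorem unitary_type (gw : GW.Reduced.PerfectClass.{u}) (S : Sylow 2 G) {F : Type} [Field F] [Fintype F]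
    (hF : Fintype.card F = 16) (P : Sylow 2 (Cfsg.PSU 3 F 4)) :
    Nonempty (↥(S : Subgroup G) ≃* ↥(P : Subgroup (Cfsg.PSU 3 F 4))) := by
  classical
  haveI : Fact (Nat.Prime 2) := ⟨Nat.prime_two⟩
  haveI := hG.simple
  obtain ⟨hcard, hinv, -⟩ := hG.four_config S
  obtain ⟨a, e, f, haN, -, he, hf, he1, hf1, hef, h1, h2, h3, hall⟩ := hG.exists_cycle S
  set T := (S : Subgroup G)
  let φ : MulAut T := MulEquiv.mk'
    { toFun := fun x => ⟨a * x * a⁻¹, (Subgroup.mem_normalizer_iff.1 haN _).1 x.2⟩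
      invFun := fun x => ⟨a⁻¹ * x * a, by
        simpa using (Subgroup.mem_normalizer_iff.1 (inv_mem haN) (x : G)).1 x.2⟩
      left_inv := fun x => Subtype.ext (by simp [mul_assoc])
      right_inv := fun x => Subtype.ext (by simp [mul_assoc]) }
    (fun x y => Subtype.ext (by simp [mul_assoc]))
  have hφ : ∀ x : T, ((φ x : T) : G) = a * x * a⁻¹ := fun x => rfl
  have hinvol : ∀ s : T, orderOf s = 2 → (s : G) = e ∨ (s : G) = f ∨ (s : G) = e * f := by
    intro s hs
    have h := pow_orderOf_eq_one s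
    rw [hs] at h
    have h' : (s : G) * s = 1 := by rw [← sq]; exact congrArg Subtype.val h
    rcases hall _ (hinv _ s.2 h') with h | h | h | h
    · rw [show s = 1 from Subtype.ext h, orderOf_one] at hs; omega
    · exact Or.inl h
    · exact Or.inr (Or.inl h)
    · exact Or.inr (Or.inr h)
  have htrans : ∀ s t : T, orderOf s = 2 → orderOf t = 2 → ∃ k : ℕ, (φ ^ k) s = t := by
    intro s t hs ht
    have hk : (φ ^ 1) s = φ s ∧ (φ ^ 2) s = φ (φ s) := ⟨by rw [pow_one], by rw [sq, MulAut.mul_apply]⟩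
    rcases hinvol s hs with e1 | e1 | e1 <;> rcases hinvol t ht with e2 | e2 | e2
    all_goals
      first
        | (refine ⟨0, Subtype.ext ?_⟩; rw [pow_zero, MulAut.one_apply]; exact e1.trans e2.symm; done)
        | (refine ⟨1, Subtype.ext ?_⟩; rw [hk.1, hφ, e1, e2]; first | exact h1 | exact h2 | exact h3)
        | (refine ⟨2, Subtype.ext ?_⟩; rw [hk.2, hφ, hφ, e1, e2]
           first
            | rw [h1]; exact h2
            | rw [h2]; exact h3
            | rw [h3]; exact h1)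
  have hr2 : Cfsg.PRankLE 2 2 T := by
    intro A _ hA
    have hle : A.map T.subtype ≤ omegaZ T := by
      rintro _ ⟨x, hx, rfl⟩
      exact hinv _ x.2 (by rw [← sq, Subgroup.subtype_apply, ← SubgroupClass.coe_pow, hA x hx, OneMemClass.coe_one])
    have := Subgroup.card_le_of_le hle
    rw [Subgroup.card_map_of_injective T.subtype_injective, hcard] at this
    norm_num; exact this
  have hr1 : ¬ Cfsg.PRankLE 2 1 T := by
    intro h
    have hcomm : IsMulCommutative ↥((omegaZ T).subgroupOf T) :=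
      ⟨⟨fun x y => Subtype.ext (Subtype.ext (omegaZ_comm x.2 y.2))⟩⟩
    have := h ((omegaZ T).subgroupOf T) hcomm fun x hx => Subtype.ext (by
      rw [SubgroupClass.coe_pow, sq, OneMemClass.coe_one]; exact hx.2.1)
    rw [Nat.card_congr (Subgroup.subgroupOfEquivOfLe (omegaZ_le T)).toEquiv, hcard] at this
    norm_num at this
  rcases S1237.result S.isPGroup' hr2 hr1 φ htrans hF P with ⟨n, hn, ⟨iso⟩⟩ | h
  swap
  · exact h
  exfalso
  rcases Nat.lt_or_ge n 2 with hn2 | hn2
  · -- a four group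
    have hn1 : n = 1 := by omega
    subst hn1
    have hS4 : Nat.card ↥T = 4 := by
      rw [Nat.card_congr iso.toEquiv, Nat.card_congr Multiplicative.toAdd, Nat.card_prod, Nat.card_zmod]; norm_num
    haveI : Nontrivial ↥T := Finite.one_lt_card_iff_nontrivial.1 (by rw [hS4]; norm_num)
    haveI : IsKleinFour ↥T := ⟨hS4, (Monoid.exponent_eq_prime_iff Nat.prime_two).2 fun x hx => by
      refine orderOf_eq_prime (iso.injective ?_) hx
      rw [map_pow, map_one, ← ofAdd_toAdd (iso x), ← ofAdd_nsmul]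
      have : ∀ v : ZMod 2 × ZMod 2, 2 • v = 0 := fun v => by
        rw [two_nsmul]; exact Prod.ext (CharTwo.add_self_eq_zero _) (CharTwo.add_self_eq_zero _)
      exact congrArg Multiplicative.ofAdd (this _)⟩
    haveI : Group.IsPerfect G := ⟨by
      rcases IsSimpleGroup.eq_bot_or_eq_top_of_normal (commutator G) inferInstance with h | h
      · obtain ⟨x, y, hxy⟩ := hG.noncomm
        refine absurd ?_ hxy
        have : ⁅x, y⁆ ∈ commutator G := Subgroup.commutator_mem_commutator (Subgroup.mem_top x) (Subgroup.mem_top y)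
        rw [h, Subgroup.mem_bot] at this
        exact commutatorElement_eq_one_iff_mul_comm.1 this
      · exact h⟩
    have hO : Cfsg.oddCore G = ⊥ := by
      haveI : (Cfsg.oddCore G).Characteristic := Fusion.pPrimeCore_characteristic
      rcases IsSimpleGroup.eq_bot_or_eq_top_of_normal (Cfsg.oddCore G) inferInstance with h | h
      · exact h
      · exact absurd h (hG.ne_top_of_odd (Nat.coprime_two_right.1 (Fusion.card_pPrimeCore_coprime 2 G)))
    obtain ⟨d⟩ : Nonempty (↥T ≃* DihedralGroup 2) := IsKleinFour.nonempty_mulEquiv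
    have e0 := (QuotientGroup.quotientMulEquivOfEq hO).trans (QuotientGroup.quotientBot (G := G))
    rcases gw G S 2 le_rfl ⟨d⟩ with ⟨K, _, _, ho, h3K, ⟨i⟩⟩ | hA7
    · exact hG.not_psl ho h3K S hS4 (e0.symm.trans i)
    · obtain ⟨i⟩ := hA7
      have hA : Nat.card G = 2520 := by
        rw [Nat.card_congr (e0.symm.trans i).toEquiv, nat_card_alternatingGroup, Nat.card_fin]; decide
      obtain ⟨Q, hQ⟩ := Sylow.exists_subgroup_card_pow_prime (G := G) 2 (n := 3) (by rw [hA]; norm_num)
      obtain ⟨g, -, hg⟩ := (sylIn_top S).conj_le (IsPGroup.of_card hQ) le_top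
      have := Subgroup.card_le_of_le hg
      rw [card_cj, hQ, hS4] at this
      omega
  · -- homocyclic
    haveI : Fintype G := Fintype.ofFinite G
    haveI : NeZero (2 ^ n) := ⟨by positivity⟩
    obtain ⟨hN, -, -⟩ := Char.homocyclic_sylow_two (N := 2 ^ n) S (T.subtype.comp iso.symm.toMonoidHom)
      (by obtain ⟨k, rfl⟩ : ∃ k, n = k + 2 := ⟨n - 2, by omega⟩; exact ⟨2 ^ k, by rw [pow_add]; ring⟩) ⟨n, rfl⟩
      (T.subtype_injective.comp iso.symm.injective)
      (by rw [MonoidHom.range_comp, MonoidHom.range_eq_top.2 iso.symm.surjective, ← MonoidHom.range_eq_map,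
        Subgroup.range_subtype])
      (fun K hK hodd => (IsSimpleGroup.eq_bot_or_eq_top_of_normal K hK).elim id
        fun h => absurd h (hG.ne_top_of_odd hodd))
    exact hG.normalizer_ne_top (hG.sylow_ne_bot S) (hG.ne_top_of_isPGroup S.isPGroup')
      (Subgroup.normalizer_eq_top_iff.2 hN)

end Minimal

end Cfsg.Agent.PiClosed
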