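import Cfsg.Agent.Lib.Fusion.PiClosed.Embedded
import Cfsg.Agent.S0058
import Cfsg.Agent.S0215
import Cfsg.Agent.S0217

/-!
# The minimal case has 2-rank two and all involutions of a Sylow 2-subgroup are central in it
-/

set_option autoImplicit false
set_option linter.style.haveILetI false

open Cfsg.Agent.Fusion

namespace Cfsg.Agent.PiClosed

universe u

variable {G : Type u} [Group G]

/-- The central involutions of `S` with the identity. -/
def omegaZ (S : Subgroup G) : Subgroup G where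
  carrier := {x | x ∈ S ∧ x * x = 1 ∧ ∀ s ∈ S, s * x = x * s}
  one_mem' := ⟨S.one_mem, one_mul 1, fun s _ => by simp⟩
  mul_mem' := fun {a b} ha hb => ⟨S.mul_mem ha.1 hb.1, by
    rw [show a * b * (a * b) = a * (b * a) * b by group, hb.2.2 a ha.1 |>.symm,
      show a * (a * b) * b = (a * a) * (b * b) by group, ha.2.1, hb.2.1, one_mul],
    fun s hs => by rw [← mul_assoc, ha.2.2 s hs, mul_assoc, hb.2.2 s hs, mul_assoc]⟩
  inv_mem' := fun {a} ha => by
    rw [show a⁻¹ = a from inv_eq_of_mul_eq_one_right ha.2.1]; exact ha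

theorem mem_omegaZ {S : Subgroup G} {x : G} :
    x ∈ omegaZ S ↔ x ∈ S ∧ x * x = 1 ∧ ∀ s ∈ S, s * x = x * s := Iff.rfl

theorem omegaZ_le (S : Subgroup G) : omegaZ S ≤ S := fun _ hx => hx.1

theorem omegaZ_comm {S : Subgroup G} {a b : G} (ha : a ∈ omegaZ S) (hb : b ∈ omegaZ S) : a * b = b * a :=
  hb.2.2 a ha.1

theorem omegaZ_normalizer {S : Subgroup G} {n : G} (hn : n ∈ Subgroup.normalizer (S : Set G)) {x : G}
    (hx : x ∈ omegaZ S) : n * x * n⁻¹ ∈ omegaZ S := by
  refine ⟨(Subgroup.mem_normalizer_iff.1 hn x).1 hx.1, ?_, fun s hs => ?_⟩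
  · rw [show n * x * n⁻¹ * (n * x * n⁻¹) = n * (x * x) * n⁻¹ by group, hx.2.1, mul_one, mul_inv_cancel]
  · have h := hx.2.2 (n⁻¹ * s * n) (by simpa using (Subgroup.mem_normalizer_iff.1 (inv_mem hn) s).1 hs)
    calc s * (n * x * n⁻¹) = n * (n⁻¹ * s * n * x) * n⁻¹ := by group
      _ = n * (x * (n⁻¹ * s * n)) * n⁻¹ := by rw [h]
      _ = _ := by group

theorem orderOf_involution {x : G} (h1 : x * x = 1) (h : x ≠ 1) : orderOf x = 2 :=
  haveI : Fact (Nat.Prime 2) := ⟨Nat.prime_two⟩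
  orderOf_eq_prime (by rw [sq]; exact h1) h

theorem le_centralizer_omegaZ {S : Subgroup G} {e : G} (he : e ∈ omegaZ S) :
    S ≤ Subgroup.centralizer ({e} : Set G) := fun _ hs => Subgroup.mem_centralizer_singleton_iff.2 (he.2.2 _ hs)

variable [Finite G] {π : Set ℕ}

namespace Minimal

variable (hG : Minimal π G)
include hG

theorem sylow_ne_bot (S : Sylow 2 G) : (S : Subgroup G) ≠ ⊥ :=
  haveI : Fact (Nat.Prime 2) := ⟨Nat.prime_two⟩
  S.ne_bot_of_dvd_card hG.even_card

/-- Each central involution is fused to another one by the normaliser. -/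
theorem exists_other (S : Sylow 2 G) {e : G} (he : e ∈ omegaZ (S : Subgroup G)) (he1 : e ≠ 1) :
    ∃ n ∈ Subgroup.normalizer ((S : Subgroup G) : Set G), n * e * n⁻¹ ≠ e := by
  haveI : Fact (Nat.Prime 2) := ⟨Nat.prime_two⟩
  obtain ⟨g, hg, hne⟩ : ∃ g : G, g * e * g⁻¹ ∈ (S : Subgroup G) ∧ g * e * g⁻¹ ≠ e := by
    by_contra hc; push Not at hc
    obtain ⟨N, hN, hodd, hcom⟩ := S0215.result S e (orderOf_involution he.2.1 he1) he.1 hc
    haveI := hG.simple
    rcases IsSimpleGroup.eq_bot_or_eq_top_of_normal N hN with h | h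
    · refine he1 (Subgroup.mem_bot.1 (hG.center_bot ▸ Subgroup.mem_center_iff.2 fun g => ?_))
      have h1 := hcom g
      rw [h, Subgroup.mem_bot] at h1
      calc g * e = 1 * (g * e) := (one_mul _).symm
        _ = e * g * e⁻¹ * g⁻¹ * (g * e) := by rw [h1]
        _ = e * g := by group
    · exact hG.ne_top_of_odd hodd h
  obtain ⟨n, hn, hne'⟩ := hG.fusion S (A := {e}) (Set.singleton_subset_iff.2 he.1)
    (g := g) (fun a ha => by rw [Set.mem_singleton_iff.1 ha]; exact hg)
  exact ⟨n, hn, by rw [← hne' e rfl]; exact hne⟩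

theorem exists_omegaZ (S : Sylow 2 G) : ∃ e ∈ omegaZ (S : Subgroup G), e ≠ 1 := by
  haveI : Fact (Nat.Prime 2) := ⟨Nat.prime_two⟩
  haveI : Nontrivial (S : Subgroup G) := (Subgroup.nontrivial_iff_ne_bot _).2 (hG.sylow_ne_bot S)
  haveI := S.isPGroup'.center_nontrivial
  have hd : 2 ∣ Nat.card (Subgroup.center (S : Subgroup G)) := by
    obtain ⟨k, hk⟩ := IsPGroup.iff_card.1 (S.isPGroup'.to_subgroup (Subgroup.center (S : Subgroup G)))
    have hlt := Finite.one_lt_card (α := Subgroup.center (S : Subgroup G))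
    rw [hk] at hlt ⊢
    exact dvd_pow_self 2 (fun h => by rw [h, pow_zero] at hlt; omega)
  obtain ⟨z, hz⟩ := exists_prime_orderOf_dvd_card' 2 hd
  rw [← Subgroup.orderOf_coe, ← Subgroup.orderOf_coe] at hz
  refine ⟨((z : (S : Subgroup G)) : G), ⟨SetLike.coe_mem _, ?_, fun s hs => ?_⟩, fun h => ?_⟩
  · have := pow_orderOf_eq_one ((z : (S : Subgroup G)) : G)
    rwa [hz, sq] at this
  · exact congrArg Subtype.val (Subgroup.mem_center_iff.1 z.2 ⟨s, hs⟩)
  · rw [h, orderOf_one] at hz; omega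

theorem four_le_omegaZ (S : Sylow 2 G) : 4 ≤ Nat.card ↥(omegaZ (S : Subgroup G)) := by
  obtain ⟨e, he, he1⟩ := hG.exists_omegaZ S
  obtain ⟨n, hn, hne⟩ := hG.exists_other S he he1
  set f := n * e * n⁻¹ with hfdef
  have hf : f ∈ omegaZ (S : Subgroup G) := omegaZ_normalizer hn he
  have hf1 : f ≠ 1 := fun h => he1 (conj_eq_one_iff.1 h)
  have h2 : e * e = 1 := he.2.1
  let v : Fin 4 → omegaZ (S : Subgroup G) := ![1, ⟨e, he⟩, ⟨f, hf⟩, ⟨e * f, mul_mem he hf⟩]
  have hv : Function.Injective v := by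
    intro i j h
    have hef : e * f ≠ 1 := fun h' => hne (by
      calc f = (e * e) * f := by rw [h2, one_mul]
        _ = e * (e * f) := by group
        _ = e := by rw [h', mul_one])
    fin_cases i <;> fin_cases j <;>
      first
        | rfl
        | (exfalso; simp [v, Subtype.ext_iff, he1, hf1, hne, Ne.symm he1, Ne.symm hf1, Ne.symm hne, hef,
            Ne.symm hef] at h)
  simpa using Nat.card_le_card_of_injective v hv

theorem not_isCyclic_omegaZ (S : Sylow 2 G) : ¬ IsCyclic ↥(omegaZ (S : Subgroup G)) := by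
  intro hc
  obtain ⟨g, hg⟩ := hc.exists_generator
  have h2 : orderOf g ∣ 2 := orderOf_dvd_of_pow_eq_one (Subtype.ext (by rw [sq]; exact g.2.2.1))
  have h := orderOf_eq_card_of_forall_mem_zpowers hg
  have := Nat.le_of_dvd two_pos h2
  have := hG.four_le_omegaZ S
  omega

/-- The functor at an involution lies in a proper subgroup only if there is a contradiction. -/
theorem false_of_proper (S : Sylow 2 G) {W : Subgroup G} (hW : W ≠ ⊤)
    (hWge : ∀ e ∈ omegaZ (S : Subgroup G), e ≠ 1 → piCore π (Subgroup.centralizer ({e} : Set G)) ≤ W) : False := by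
  classical
  haveI : Fact (Nat.Prime 2) := ⟨Nat.prime_two⟩
  set E := omegaZ (S : Subgroup G) with hE
  set T := (S : Subgroup G) with hT
  set W₀ := Subgroup.closure {x : G | ∃ e ∈ E, e ≠ 1 ∧ x ∈ piCore π (Subgroup.centralizer ({e} : Set G))} with hW₀
  have hW₀le : W₀ ≤ W := (Subgroup.closure_le _).2 fun x ⟨e, he, he1, hx⟩ => hWge e he he1 hx
  have hmem₀ : ∀ e ∈ E, e ≠ 1 → piCore π (Subgroup.centralizer ({e} : Set G)) ≤ W₀ := fun e he he1 x hx =>
    Subgroup.subset_closure ⟨e, he, he1, hx⟩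
  have hTC : ∀ e ∈ E, SylIn 2 T (Subgroup.centralizer ({e} : Set G)) := fun e he =>
    (sylIn_top S).mono (le_centralizer_omegaZ he) le_top
  -- a proper subgroup containing `N(S)` and the centralisers of the central involutions
  obtain ⟨M, hMtop, hMN, hMC⟩ : ∃ M : Subgroup G, M ≠ ⊤ ∧ Subgroup.normalizer (T : Set G) ≤ M ∧
      ∀ e ∈ E, e ≠ 1 → Subgroup.centralizer ({e} : Set G) ≤ M := by
    by_cases h0 : W₀ = ⊥
    · refine ⟨Subgroup.normalizer (T : Set G), hG.normalizer_ne_top (hG.sylow_ne_bot S)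
        (hG.ne_top_of_isPGroup S.isPGroup'), le_rfl, fun e he he1 x hx => ?_⟩
      obtain ⟨k, hk, n, hn, rfl⟩ := hG.decomp (hG.centralizer_ne_top he1) (hTC e he) hx
      have : k = 1 := Subgroup.mem_bot.1 (h0 ▸ hmem₀ e he he1 hk)
      rw [this, one_mul]; exact hn.2
    · have hN : Subgroup.normalizer (T : Set G) ≤ Subgroup.normalizer (W₀ : Set G) := by
        have key : ∀ n ∈ Subgroup.normalizer (T : Set G), ∀ x ∈ W₀, n * x * n⁻¹ ∈ W₀ := by
          intro n hn x hx
          induction hx using Subgroup.closure_induction with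
          | mem x hx =>
            obtain ⟨e, he, he1, hx⟩ := hx
            have he1' : n * e * n⁻¹ ≠ 1 := fun h => he1 (conj_eq_one_iff.1 h)
            refine hmem₀ _ (omegaZ_normalizer hn he) he1' ?_
            obtain ⟨hxC, hxE⟩ := (hG.mem_piCore (hG.centralizer_ne_top he1)).1 hx
            refine Subgroup.subset_closure ⟨Subgroup.mem_centralizer_singleton_iff.2 ?_, hxE.conj n⟩
            have := Subgroup.mem_centralizer_singleton_iff.1 hxC
            calc n * x * n⁻¹ * (n * e * n⁻¹) = n * (x * e) * n⁻¹ := by group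
              _ = n * (e * x) * n⁻¹ := by rw [this]
              _ = _ := by group
          | one => simp
          | mul a b _ _ ha hb =>
            rw [show n * (a * b) * n⁻¹ = n * a * n⁻¹ * (n * b * n⁻¹) by group]; exact mul_mem ha hb
          | inv a _ ha =>
            rw [show n * a⁻¹ * n⁻¹ = (n * a * n⁻¹)⁻¹ by group]; exact inv_mem ha
        intro n hn
        refine Subgroup.mem_normalizer_iff.2 fun x => ⟨key n hn x, fun hx => ?_⟩
        simpa [mul_assoc] using key n⁻¹ (inv_mem hn) _ hx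
      refine ⟨Subgroup.normalizer (W₀ : Set G),
        hG.normalizer_ne_top h0 (fun h => hW (top_unique (h ▸ hW₀le))), hN, fun e he he1 x hx => ?_⟩
      obtain ⟨k, hk, n, hn, rfl⟩ := hG.decomp (hG.centralizer_ne_top he1) (hTC e he) hx
      exact mul_mem (Subgroup.le_normalizer (hmem₀ e he he1 hk)) (hN hn.2)
  have hTM : T ≤ M := Subgroup.le_normalizer.trans hMN
  obtain ⟨e₀, he₀, he₀1⟩ := hG.exists_omegaZ S
  -- centralisers of all involutions of `S`
  have hall : ∀ u ∈ T, orderOf u = 2 → Subgroup.centralizer ({u} : Set G) ≤ M := by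
    intro u hu hu2
    have hu1 : u ≠ 1 := fun h => by rw [h, orderOf_one] at hu2; omega
    have hCu := hG.centralizer_ne_top hu1
    have hEC : E ≤ Subgroup.centralizer ({u} : Set G) := fun e he =>
      Subgroup.mem_centralizer_singleton_iff.2 (he.2.2 u hu).symm
    obtain ⟨R, hR, hTR⟩ := exists_sylIn_ge (S.isPGroup'.to_inf_left (K := Subgroup.centralizer ({u} : Set G)))
      (inf_le_right (a := T))
    obtain ⟨g, -, hgR⟩ := (sylIn_top S).conj_le hR.isPGroup le_top
    have huR : u ∈ R := hTR ⟨hu, Subgroup.mem_centralizer_singleton_iff.2 rfl⟩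
    obtain ⟨n, hn, hnu⟩ := hG.fusion S (A := {u}) (Set.singleton_subset_iff.2 hu) (g := g)
      (fun a ha => by rw [Set.mem_singleton_iff.1 ha]; exact hgR (conj_mem_cj huR))
    have hR' : R = T ⊓ Subgroup.centralizer ({u} : Set G) := by
      refine (Subgroup.eq_of_le_of_card_ge hTR ?_).symm
      rw [← card_cj R (n⁻¹ * g)]
      refine Subgroup.card_le_of_le (le_inf ?_ ?_)
      · rw [← cj_cj]; exact (cj_mono hgR _).trans (cj_eq_self (inv_mem hn)).le
      · rintro _ ⟨r, hr, rfl⟩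
        refine Subgroup.mem_centralizer_singleton_iff.2 ?_
        have hc : (n⁻¹ * g) * u * (n⁻¹ * g)⁻¹ = u := by
          calc (n⁻¹ * g) * u * (n⁻¹ * g)⁻¹ = n⁻¹ * (g * u * g⁻¹) * n := by group
            _ = u := by rw [hnu u rfl]; group
        show n⁻¹ * g * r * (n⁻¹ * g)⁻¹ * u = u * (n⁻¹ * g * r * (n⁻¹ * g)⁻¹)
        nth_rewrite 1 [← hc]
        nth_rewrite 2 [← hc]
        calc n⁻¹ * g * r * (n⁻¹ * g)⁻¹ * (n⁻¹ * g * u * (n⁻¹ * g)⁻¹) = n⁻¹ * g * (r * u) * (n⁻¹ * g)⁻¹ := by group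
          _ = n⁻¹ * g * (u * r) * (n⁻¹ * g)⁻¹ := by
            rw [Subgroup.mem_centralizer_singleton_iff.1 (hR.le hr)]
          _ = _ := by group
    have hER : E ≤ R := fun e he => hR'.ge ⟨omegaZ_le _ he, hEC he⟩
    intro x hx
    obtain ⟨k, hk, h, hh, rfl⟩ := hG.decomp hCu hR hx
    refine mul_mem ?_ ?_
    · have hEn : E ≤ Subgroup.normalizer (piCore π (Subgroup.centralizer ({u} : Set G)) : Set G) :=
        hEC.trans (le_normalizer_piCore _)
      haveI : IsMulCommutative ↥E := ⟨⟨fun a b => Subtype.ext (omegaZ_comm a.2 b.2)⟩⟩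
      have hgen := S0058.result E (piCore π (Subgroup.centralizer ({u} : Set G))) (hG.not_isCyclic_omegaZ S) hEn (by
        obtain ⟨m, hm⟩ := IsPGroup.iff_card.1 ((S.isPGroup'.to_le (omegaZ_le _) : IsPGroup 2 ↥E))
        rw [hm]
        exact (Nat.coprime_two_left.2 (hG.piCore_odd hCu)).pow_left _)
      rw [← hgen] at hk
      refine (iSup₂_le ?_ : _ ≤ M) hk
      rintro e ⟨he, he1⟩ y hy
      exact hMC e he he1 hy.2
    · obtain ⟨n', hn', hn'a⟩ := hG.fusion S (A := (R : Set G)) (by rw [hR']; exact fun a ha => ha.1) (g := h)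
        (fun a ha => by
          have := (Subgroup.mem_normalizer_iff.1 hh.2 a).1 ha
          rw [hR'] at this; exact this.1)
      have hc : n'⁻¹ * h ∈ Subgroup.centralizer ({e₀} : Set G) := by
        refine Subgroup.mem_centralizer_singleton_iff.2 ?_
        have := hn'a e₀ (hER he₀)
        calc n'⁻¹ * h * e₀ = n'⁻¹ * (h * e₀ * h⁻¹) * h := by group
          _ = n'⁻¹ * (n' * e₀ * n'⁻¹) * h := by rw [this]
          _ = _ := by group
      rw [show h = n' * (n'⁻¹ * h) by group]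
      exact mul_mem (hMN hn') (hMC e₀ he₀ he₀1 hc)
  have hTM' : SylIn 2 T M := (sylIn_top S).mono hTM le_top
  have hSE : Cfsg.IsStronglyEmbedded M := by
    refine ⟨hMtop, ?_, fun g hg => Nat.not_even_iff_odd.1 fun he => hg ?_⟩
    · rw [even_iff_two_dvd]
      exact (by
        obtain ⟨k, hk⟩ := IsPGroup.iff_card.1 S.isPGroup'
        have hlt := Finite.one_lt_card_iff_nontrivial.2 ((Subgroup.nontrivial_iff_ne_bot _).2 (hG.sylow_ne_bot S))
        refine dvd_trans ?_ (Subgroup.card_dvd_of_le hTM)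
        rw [hk] at hlt ⊢
        exact dvd_pow_self 2 fun h => by rw [h, pow_zero] at hlt; omega : 2 ∣ Nat.card ↥M)
    obtain ⟨z, hz⟩ := exists_prime_orderOf_dvd_card' 2 (even_iff_two_dvd.1 he)
    rw [← Subgroup.orderOf_coe] at hz
    obtain ⟨hzM, hzg⟩ := z.2
    have hzg' := mem_cj.1 hzg
    have conjS : ∀ w ∈ M, orderOf w = 2 → ∃ m ∈ M, m * w * m⁻¹ ∈ T := fun w hw hw2 => by
      obtain ⟨m, hm, hle⟩ := hTM'.conj_le (IsPGroup.of_card (n := 1)
        (by rw [Nat.card_zpowers, hw2, pow_one])) (Subgroup.zpowers_le.2 hw)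
      exact ⟨m, hm, hle (conj_mem_cj (Subgroup.mem_zpowers w))⟩
    obtain ⟨m₁, hm₁, hs₁⟩ := conjS _ hzM hz
    obtain ⟨m₂, hm₂, hs₂⟩ := conjS _ hzg' (by
      rw [show g⁻¹ * (z : G) * g = MulAut.conj g⁻¹ z by simp, MulEquiv.orderOf_eq, hz])
    set s := m₁ * (z : G) * m₁⁻¹ with hs
    set d := m₂ * g⁻¹ * m₁⁻¹ with hd
    have hds : d * s * d⁻¹ = m₂ * (g⁻¹ * z * g) * m₂⁻¹ := by rw [hd, hs]; group
    obtain ⟨n, hn, hns⟩ := hG.fusion S (A := {s}) (Set.singleton_subset_iff.2 hs₁) (g := d)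
      (fun a ha => by rw [Set.mem_singleton_iff.1 ha, hds]; exact hs₂)
    have hc : n⁻¹ * d ∈ M := by
      refine hall s hs₁ (by rw [hs, show m₁ * (z : G) * m₁⁻¹ = MulAut.conj m₁ z from rfl, MulEquiv.orderOf_eq, hz]) ?_
      refine Subgroup.mem_centralizer_singleton_iff.2 ?_
      calc n⁻¹ * d * s = n⁻¹ * (d * s * d⁻¹) * d := by group
        _ = n⁻¹ * (n * s * n⁻¹) * d := by rw [hns s rfl]
        _ = _ := by group
    have hdM : d ∈ M := by
      rw [show d = n * (n⁻¹ * d) by group]; exact mul_mem (hMN hn) hc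
    rw [show g = m₁⁻¹ * d⁻¹ * m₂ by rw [hd]; group]
    exact mul_mem (mul_mem (inv_mem hm₁) (inv_mem hdM)) hm₂
  obtain ⟨n, hn, hne⟩ := hG.exists_other S he₀ he₀1
  refine hne (hG.unique_involution hSE hTM' ?_ (orderOf_involution he₀.2.1 he₀1) (omegaZ_le _ (omegaZ_normalizer hn he₀))
    he₀.1)
  exact orderOf_involution (omegaZ_normalizer hn he₀).2.1 fun h => he₀1 (conj_eq_one_iff.1 h)

/-- The shape of a Sylow 2-subgroup in the minimal case. -/
theorem four_config (S : Sylow 2 G) : Nat.card ↥(omegaZ (S : Subgroup G)) = 4 ∧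
    (∀ x ∈ (S : Subgroup G), x * x = 1 → x ∈ omegaZ (S : Subgroup G)) ∧
    ∀ e ∈ omegaZ (S : Subgroup G), ∀ f ∈ omegaZ (S : Subgroup G), e ≠ 1 → f ≠ 1 →
      ∃ n ∈ Subgroup.normalizer ((S : Subgroup G) : Set G), n * e * n⁻¹ = f := by
  classical
  haveI : Fact (Nat.Prime 2) := ⟨Nat.prime_two⟩
  set E := omegaZ (S : Subgroup G)
  -- no elementary subgroup of order eight containing `E`
  have h8 : ∀ A : Subgroup G, (∀ a ∈ A, ∀ b ∈ A, a * b = b * a) → (∀ a ∈ A, a ^ 2 = 1) → E ≤ A →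
      8 ≤ Nat.card ↥A → False := by
    intro A hAc hAe hEA hA8
    obtain ⟨hodd, -⟩ := S0217.result (p := 2) A hAc hAe (by norm_num; exact hA8)
      (fun a => piCore π (Subgroup.centralizer ({a} : Set G)))
      (fun a _ _ => piCore_le _)
      (fun a _ ha1 hd => hG.piCore_coPrime (hG.centralizer_ne_top ha1) Nat.prime_two hd hG.hyp.two)
      (fun a ha _ b hb x hx => (Subgroup.mem_normalizer_iff.1
        (le_normalizer_piCore _ (Subgroup.mem_centralizer_singleton_iff.2 (hAc b hb a ha))) x).1 hx)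
      (fun a _ ha1 => Lie.CoreFun.solvable_of_odd (hG.piCore_odd (hG.centralizer_ne_top ha1)))
      (fun a _ ha1 b _ _ x hx =>
        Subgroup.subset_closure ⟨hx.2, ((hG.mem_piCore (hG.centralizer_ne_top ha1)).1 hx.1).2⟩)
    refine hG.false_of_proper S (hG.ne_top_of_odd (Nat.odd_iff.2 (Nat.two_dvd_ne_zero.1 hodd))) fun e he he1 => ?_
    exact le_iSup (fun a : {a : G // a ∈ A ∧ a ≠ 1} => piCore π (Subgroup.centralizer ({(a : G)} : Set G))) ⟨e, hEA he, he1⟩
  have hEc : ∀ a ∈ E, ∀ b ∈ E, a * b = b * a := fun a ha b hb => omegaZ_comm ha hb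
  have hEe : ∀ a ∈ E, a ^ 2 = 1 := fun a ha => by rw [sq]; exact ha.2.1
  have h4 := hG.four_le_omegaZ S
  have hcard : Nat.card ↥E = 4 := by
    obtain ⟨k, hk⟩ := IsPGroup.iff_card.1 ((S.isPGroup'.to_le (omegaZ_le _) : IsPGroup 2 ↥E))
    rcases Nat.lt_or_ge k 3 with h | h
    · have h4' : 4 ≤ Nat.card ↥E := h4
      rw [hk] at h4' ⊢
      interval_cases k <;> simp_all
    · exact (h8 E hEc hEe le_rfl (by rw [hk]; exact Nat.pow_le_pow_right two_pos h)).elim
  have hinv : ∀ x ∈ (S : Subgroup G), x * x = 1 → x ∈ E := by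
    intro u hu hu2
    by_contra huE
    have huc : ∀ e ∈ E, e * u = u * e := fun e he => (he.2.2 u hu).symm
    have hUn : Subgroup.zpowers u ≤ Subgroup.normalizer (E : Set G) := Subgroup.zpowers_le.2
      (Subgroup.centralizer_le_normalizer _ (Subgroup.mem_centralizer_iff.2 huc))
    set A := E ⊔ Subgroup.zpowers u with hA
    have hA2 : A ≤ Subgroup.centralizer (E : Set G) :=
      sup_le (fun a ha => Subgroup.mem_centralizer_iff.2 fun b hb => omegaZ_comm hb ha)
        (Subgroup.zpowers_le.2 (Subgroup.mem_centralizer_iff.2 huc))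
    have hform : ∀ a ∈ A, ∃ e ∈ E, a = e ∨ a = e * u := by
      intro a ha
      have : (a : G) ∈ ((A : Subgroup G) : Set G) := ha
      rw [hA, Subgroup.coe_mul_of_right_le_normalizer_left _ _ hUn] at this
      obtain ⟨e, he, w, hw, rfl⟩ := this
      obtain ⟨i, rfl⟩ := Subgroup.mem_zpowers_iff.1 hw
      refine ⟨e, he, ?_⟩
      rw [← zpow_mod_orderOf, orderOf_involution hu2 fun h => huE (h ▸ E.one_mem)]
      rcases Int.emod_two_eq_zero_or_one i with h | h <;> rw [Nat.cast_ofNat, h]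
      · exact Or.inl (by simp)
      · exact Or.inr (by simp)
    have hu' : ∀ a ∈ A, a * u = u * a := by
      intro a ha
      obtain ⟨e, he, rfl | rfl⟩ := hform a ha
      · exact huc _ he
      · rw [mul_assoc, hu2, mul_one, ← mul_assoc, ← huc e he, mul_assoc, hu2, mul_one]
    refine h8 A ?_ ?_ le_sup_left ?_
    · intro a ha b hb
      obtain ⟨e, he, rfl | rfl⟩ := hform b hb
      · exact (Subgroup.mem_centralizer_iff.1 (hA2 ha) _ he).symm
      · rw [← mul_assoc, ← Subgroup.mem_centralizer_iff.1 (hA2 ha) e he, mul_assoc, hu' a ha, ← mul_assoc]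
    · intro a ha
      obtain ⟨e, he, rfl | rfl⟩ := hform a ha
      · exact hEe _ he
      · rw [sq, show e * u * (e * u) = e * (u * e) * u by group, ← huc e he,
          show e * (e * u) * u = (e * e) * (u * u) by group, he.2.1, hu2, one_mul]
    · have h1 := Solv.card_sup_mul_card_inf' E (Subgroup.zpowers u) hUn
      have hinf : E ⊓ Subgroup.zpowers u = ⊥ := by
        rw [eq_bot_iff]
        rintro x ⟨hxE, hxU⟩
        obtain ⟨i, rfl⟩ := Subgroup.mem_zpowers_iff.1 hxU
        have h2 := orderOf_involution hu2 fun h => huE (h ▸ E.one_mem)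
        rw [SetLike.mem_coe, ← zpow_mod_orderOf, h2] at hxE
        rw [Subgroup.mem_bot, ← zpow_mod_orderOf, h2]
        rcases Int.emod_two_eq_zero_or_one i with h | h <;> rw [Nat.cast_ofNat, h] at hxE ⊢
        · simp
        · exact absurd (by simpa using hxE) huE
      rw [hinf, Subgroup.card_bot, mul_one, hcard, Nat.card_zpowers,
        orderOf_involution hu2 fun h => huE (h ▸ E.one_mem)] at h1
      rw [hA, h1]
  refine ⟨hcard, hinv, fun e he f hf he1 hf1 => ?_⟩
  by_cases hef : e = f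
  · exact ⟨1, one_mem _, by simp [hef]⟩
  obtain ⟨n, hn, hne⟩ := hG.exists_other S he he1
  by_cases hnf : n * e * n⁻¹ = f
  · exact ⟨n, hn, hnf⟩
  obtain ⟨m, hm, hmf⟩ := hG.exists_other S hf hf1
  -- the elements of `E`
  have hall : ∀ w ∈ E, w ≠ 1 → w ≠ f → w = e ∨ w = n * e * n⁻¹ := by
    intro w hw hw1 hwf
    by_contra hc
    push Not at hc
    have hne1 : n * e * n⁻¹ ≠ 1 := fun h => he1 (conj_eq_one_iff.1 h)
    let v : Fin 5 → E := ![1, ⟨e, he⟩, ⟨n * e * n⁻¹, omegaZ_normalizer hn he⟩, ⟨f, hf⟩, ⟨w, hw⟩]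
    have hv : Function.Injective v := by
      intro i j h
      fin_cases i <;> fin_cases j <;>
        first
          | rfl
          | (exfalso; simp [v, Subtype.ext_iff, he1, hf1, hne1, hne, hnf, hef, hw1, hwf, hc.1, hc.2, Ne.symm he1,
              Ne.symm hf1, Ne.symm hne1, Ne.symm hne, Ne.symm hnf, Ne.symm hef, Ne.symm hw1, Ne.symm hwf,
              Ne.symm hc.1, Ne.symm hc.2] at h)
    have := Nat.card_le_card_of_injective v hv
    rw [Nat.card_fin, hcard] at this
    omega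
  rcases hall _ (omegaZ_normalizer hm hf) (fun h => hf1 (conj_eq_one_iff.1 h)) hmf with h | h
  · exact ⟨m⁻¹, inv_mem hm, by rw [← h]; group⟩
  · refine ⟨m⁻¹ * n, mul_mem (inv_mem hm) hn, ?_⟩
    rw [mul_inv_rev, inv_inv, show m⁻¹ * n * e * (n⁻¹ * m) = m⁻¹ * (n * e * n⁻¹) * m by group, ← h]
    group

end Minimal

end Cfsg.Agent.PiClosed
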