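import Cfsg.Agent.Lib.Fusion.PiClosed.Rank
import Cfsg.Agent.Lib.Lie.UnitarySylow

/-!
# The Sylow 2-subgroup of the type of `U₃(4)`
-/

set_option autoImplicit false
set_option linter.style.haveILetI false

open Cfsg.Agent.Fusion

namespace Cfsg.Agent.PiClosed

universe u

variable {G : Type u} [Group G]

/-- What is used about the group `S`. -/
structure Facts (S : Subgroup G) : Prop where
  card : Nat.card ↥S = 64
  sq : ∀ x ∈ S, x * x ∈ omegaZ S
  shift : ∀ x ∈ S, x ∉ omegaZ S → ∀ f ∈ omegaZ S, ∃ s ∈ S, s * x * s⁻¹ = x * f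
  planes : ∃ θ : ↥S →* Multiplicative (Fin 4 → ZMod 2), Function.Surjective θ ∧
    ∀ x : ↥S, θ x = 1 ↔ (x : G) ∈ omegaZ S

open Cfsg.Agent.Lie.UnitarySylow in
theorem facts_of_iso {S : Subgroup G} (hinv : ∀ x ∈ S, x * x = 1 → x ∈ omegaZ S)
    {F : Type} [Field F] [Fintype F] [CharP F 2] (hF : Fintype.card F = 16) {σ : F ≃+* F}
    (hσ : Cfsg.Agent.Classical.IsUSigma 4 σ) (ι : letI := uGroup hσ; U σ ≃* ↥S) : Facts S := by
  classical
  letI := uGroup hσ
  haveI : Fact (Nat.Prime 2) := ⟨Nat.prime_two⟩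
  have hiff : ∀ g : U σ, (ι g : G) ∈ omegaZ S ↔ g.x = 0 := by
    intro g
    rw [← sq_eq_one_iff hσ]
    constructor
    · intro h
      refine ι.injective (Subtype.ext ?_)
      rw [map_mul, map_one, Subgroup.coe_mul, OneMemClass.coe_one]
      exact h.2.1
    · intro h
      refine hinv _ (ι g).2 ?_
      rw [← Subgroup.coe_mul, ← map_mul, h, map_one, OneMemClass.coe_one]
  letI : Algebra (ZMod 2) F := ZMod.algebra F 2
  have hrank : Module.finrank (ZMod 2) F = 4 := by
    have h := Module.card_eq_pow_finrank (K := ZMod 2) (V := F)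
    rw [hF, ZMod.card] at h
    exact Nat.pow_right_injective le_rfl (h.symm.trans (by norm_num : (16 : ℕ) = 2 ^ 4))
  let v : F ≃ₗ[ZMod 2] (Fin 4 → ZMod 2) := (Module.finBasisOfFinrankEq (ZMod 2) F hrank).equivFun
  refine ⟨?_, ?_, ?_, ?_⟩
  · rw [← Nat.card_congr ι.toEquiv, card_U hσ]; norm_num
  · intro x hx
    obtain ⟨g, hg⟩ := ι.surjective ⟨x, hx⟩
    have := (hiff (g * g)).2 (sq_x hσ g)
    rwa [map_mul, hg] at this
  · intro x hx hxE f hf
    obtain ⟨g, hg⟩ := ι.surjective ⟨x, hx⟩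
    obtain ⟨c, hc⟩ := ι.surjective ⟨f, hf.1⟩
    have hgx : g.x ≠ 0 := fun h => hxE (by have := (hiff g).2 h; rwa [hg] at this)
    have hcx : c.x = 0 := (hiff c).1 (by rw [hc]; exact hf)
    obtain ⟨⟨y, hy⟩⟩ : Nonempty {y : F // y + σ y = c.z} :=
      (Nat.card_pos_iff.1 (by rw [(card_fix hσ).2 _ (z_fixed hcx)]; norm_num)).1
    obtain ⟨b, hb⟩ := exists_z hσ (y / σ g.x)
    have hσx : σ g.x ≠ 0 := fun h => hgx ((map_eq_zero σ).1 h)
    have key : b * g = g * c * b := by
      refine U.ext ?_ ?_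
      · rw [mul_x hσ, mul_x hσ, mul_x hσ, hcx, add_zero, add_comm]
      · rw [mul_z hσ, mul_z hσ, mul_z hσ, mul_x hσ, hcx, mul_zero, add_zero, add_zero, hb,
          show σ g.x * (y / σ g.x) = y by field_simp, map_div₀, hσ.involutive,
          show σ y / g.x * g.x = σ y by field_simp]
        linear_combination hy - y * (CharTwo.two_eq_zero (R := F))
    refine ⟨ι b, (ι b).2, ?_⟩
    have h2 := congrArg (fun w : U σ => (ι w : G)) key
    simp only [map_mul, Subgroup.coe_mul, hg, hc] at h2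
    rw [h2, mul_inv_cancel_right]
  · let θ : ↥S →* Multiplicative (Fin 4 → ZMod 2) :=
      { toFun := fun x => Multiplicative.ofAdd (v (ι.symm x).x)
        map_one' := by rw [map_one, one_x hσ, map_zero]; rfl
        map_mul' := fun a b => by rw [map_mul, mul_x hσ, map_add]; rfl }
    refine ⟨θ, fun w => ?_, fun x => ?_⟩
    · obtain ⟨g, hg⟩ := exists_z hσ (v.symm (Multiplicative.toAdd w))
      refine ⟨ι g, ?_⟩
      show Multiplicative.ofAdd (v (ι.symm (ι g)).x) = w
      rw [ι.symm_apply_apply, hg, v.apply_symm_apply, ofAdd_toAdd]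
    · obtain ⟨g, rfl⟩ := ι.surjective x
      show Multiplicative.ofAdd (v (ι.symm (ι g)).x) = 1 ↔ _
      rw [ι.symm_apply_apply, ofAdd_eq_one, LinearEquiv.map_eq_zero_iff, hiff]

variable [Finite G] {π : Set ℕ}

namespace Minimal

variable (hG : Minimal π G)
include hG

theorem facts (gw : GW.Reduced.PerfectClass.{u}) (S : Sylow 2 G) : Facts (S : Subgroup G) := by
  classical
  haveI : Fact (Nat.Prime 2) := ⟨Nat.prime_two⟩
  obtain ⟨-, hinv, -⟩ := hG.four_config S
  let F := GaloisField 2 4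
  haveI : Fintype F := Fintype.ofFinite F
  have hF : Fintype.card F = 16 := by
    rw [← Nat.card_eq_fintype_card, GaloisField.card 2 4 (by norm_num)]; norm_num
  obtain ⟨σ, hσ⟩ := Lie.UnitarySylow.sigma_props (F := F) (by norm_num : 1 ≤ 2) (by rw [hF]; norm_num)
  replace hσ : Cfsg.Agent.Classical.IsUSigma 4 σ := hσ
  obtain ⟨P⟩ := (inferInstance : Nonempty (Sylow 2 (Cfsg.PSU 3 F 4)))
  obtain ⟨ι⟩ := hG.unitary_type gw S hF P
  obtain ⟨κ⟩ := Lie.UnitarySylow.sylow_PSU hσ (by norm_num : 1 ≤ 2) (by norm_num) P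
  letI := Lie.UnitarySylow.uGroup hσ
  exact facts_of_iso hinv hF hσ (κ.trans ι.symm)

/-- Twenty elements square to each involution. -/
theorem card_roots (S : Sylow 2 G) (hS : Facts (S : Subgroup G)) {e : G}
    (he : e ∈ omegaZ (S : Subgroup G)) (he1 : e ≠ 1) :
    Nat.card {x : G // x ∈ (S : Subgroup G) ∧ x * x = e} = 20 := by
  classical
  haveI : Fintype G := Fintype.ofFinite G
  obtain ⟨a, e0, f0, haN, -, he0, hf0, he01, hf01, hef, h1, h2, h3, hall⟩ := hG.exists_cycle S
  obtain ⟨hcard, hinv, -⟩ := hG.four_config S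
  set T := (S : Subgroup G)
  let A : G → Finset G := fun w => Finset.univ.filter fun x => x ∈ T ∧ x * x = w
  have hle : ∀ w w' : G, a * w * a⁻¹ = w' → (A w).card ≤ (A w').card := by
    intro w w' h
    refine Finset.card_le_card_of_injOn (fun x => a * x * a⁻¹) (fun x hx => ?_) fun x _ y _ hxy =>
      mul_left_cancel (mul_right_cancel hxy)
    simp only [A, Finset.coe_filter, Finset.mem_univ, true_and, Set.mem_setOf_eq] at hx ⊢
    exact ⟨(Subgroup.mem_normalizer_iff.1 haN x).1 hx.1, by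
      rw [show a * x * a⁻¹ * (a * x * a⁻¹) = a * (x * x) * a⁻¹ by group, hx.2, h]⟩
  have l1 := hle _ _ h1
  have l2 := hle _ _ h2
  have l3 := hle _ _ h3
  have hsum : (A 1).card + (A e0).card + (A f0).card + (A (e0 * f0)).card = 64 := by
    have hT : (Finset.univ.filter fun x => x ∈ T).card = 64 := by
      rw [← hS.card, Nat.card_eq_fintype_card, Fintype.card_subtype]
    rw [← hT]
    have hd : ∀ w w' : G, w ≠ w' → Disjoint (A w) (A w') := fun w w' h =>
      Finset.disjoint_filter.2 fun x _ hx hx' => h (hx.2.symm.trans hx'.2)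
    have hne : e0 * f0 ≠ 1 ∧ e0 * f0 ≠ e0 ∧ e0 * f0 ≠ f0 := ⟨fun h => hef (by
      rw [← inv_eq_of_mul_eq_one_right h, inv_eq_of_mul_eq_one_right he0.2.1]),
      fun h => hf01 (mul_eq_left.1 h), fun h => he01 (mul_eq_right.1 h)⟩
    rw [← Finset.card_union_of_disjoint (hd _ _ (Ne.symm he01)),
      ← Finset.card_union_of_disjoint (Finset.disjoint_union_left.2 ⟨hd _ _ (Ne.symm hf01), hd _ _ hef⟩),
      ← Finset.card_union_of_disjoint (Finset.disjoint_union_left.2 ⟨Finset.disjoint_union_left.2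
        ⟨hd _ _ hne.1.symm, hd _ _ hne.2.1.symm⟩, hd _ _ hne.2.2.symm⟩)]
    congr 1
    ext x
    simp only [A, Finset.mem_union, Finset.mem_filter, Finset.mem_univ, true_and]
    constructor
    · rintro (((h | h) | h) | h) <;> exact h.1
    · intro hx
      rcases hall _ (hS.sq x hx) with h | h | h | h
      · exact Or.inl (Or.inl (Or.inl ⟨hx, h⟩))
      · exact Or.inl (Or.inl (Or.inr ⟨hx, h⟩))
      · exact Or.inl (Or.inr ⟨hx, h⟩)
      · exact Or.inr ⟨hx, h⟩
  have hA1 : (A 1).card = 4 := by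
    rw [← hcard, Nat.card_eq_fintype_card, Fintype.card_subtype]
    congr 1
    ext x
    simp only [A, Finset.mem_filter, Finset.mem_univ, true_and]
    exact ⟨fun h => hinv x h.1 h.2, fun h => ⟨h.1, h.2.1⟩⟩
  rw [Nat.card_eq_fintype_card, Fintype.card_subtype]
  show (A e).card = 20
  rcases hall e he with rfl | rfl | rfl | rfl
  · exact absurd rfl he1
  all_goals omega

end Minimal

end Cfsg.Agent.PiClosed
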