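import Mathlib

/-!
# The arithmetic of three degrees and three values
-/

set_option autoImplicit false

namespace Cfsg.Agent.PiClosed

theorem recip_bound {x k c : ℚ} (hk : 0 < k) (hc : 0 ≤ c) (h : k ≤ x ∨ x ≤ -k) : -(c / k) ≤ c / x := by
  rcases h with h | h
  · exact le_trans (neg_nonpos.2 (div_nonneg hc hk.le)) (div_nonneg hc (hk.le.trans h))
  · rw [← neg_neg x, div_neg]
    exact neg_le_neg (div_le_div_of_nonneg_left hc hk (by linarith))

theorem case_one {p q r : ℤ} (hp : p % 16 = 13) (hq : q % 16 = 1) (hr : r % 16 = 1) (hp' : p ≠ -3)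
    (hq' : q ≠ 1) (hr' : r ≠ 1) (h : (1 : ℚ) + 9 / p + 1 / q + 1 / r = 0) : False := by
  have h1 : (13 : ℤ) ≤ p ∨ p ≤ -13 := by omega
  have h2 : (15 : ℤ) ≤ q ∨ q ≤ -15 := by omega
  have h3 : (15 : ℤ) ≤ r ∨ r ≤ -15 := by omega
  have b1 := recip_bound (x := (p : ℚ)) (k := 13) (c := 9) (by norm_num) (by norm_num)
    (h1.imp (fun h => by exact_mod_cast h) fun h => by exact_mod_cast h)
  have b2 := recip_bound (x := (q : ℚ)) (k := 15) (c := 1) (by norm_num) (by norm_num)
    (h2.imp (fun h => by exact_mod_cast h) fun h => by exact_mod_cast h)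
  have b3 := recip_bound (x := (r : ℚ)) (k := 15) (c := 1) (by norm_num) (by norm_num)
    (h3.imp (fun h => by exact_mod_cast h) fun h => by exact_mod_cast h)
  norm_num at b1 b2 b3 h ⊢
  linarith

theorem case_two {p p' q : ℤ} (hp : p % 16 = 13) (hp' : p' % 16 = 13) (hq : q % 16 = 5) (hp3 : p ≠ -3)
    (hp3' : p' ≠ -3) (hq5 : q ≠ 5) (hsum : p + p' + q = -1) (h : (1 : ℚ) + 9 / p + 9 / p' + 25 / q = 0) : False := by
  have h1 : (19 : ℤ) ≤ p ∨ p = 13 ∨ p ≤ -19 := by omega
  have h2 : (19 : ℤ) ≤ p' ∨ p' = 13 ∨ p' ≤ -19 := by omega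
  have pos : ∀ x : ℤ, 0 < x → (0 : ℚ) < 9 / x := fun x hx => div_pos (by norm_num) (by exact_mod_cast hx)
  have low : ∀ x : ℤ, ((19 : ℤ) ≤ x ∨ x = 13 ∨ x ≤ -19) → -(9 / 19 : ℚ) ≤ 9 / x := by
    rintro x (hx | rfl | hx)
    · exact recip_bound (by norm_num) (by norm_num) (Or.inl (by exact_mod_cast hx))
    · norm_num
    · exact recip_bound (by norm_num) (by norm_num) (Or.inr (by exact_mod_cast hx))
  have b1 := low p h1
  have b2 := low p' h2
  by_cases hq0 : 0 < q
  · have : (0 : ℚ) < 25 / q := div_pos (by norm_num) (by exact_mod_cast hq0)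
    norm_num at b1 b2
    linarith
  by_cases hq59 : q ≤ -59
  · have b3 := recip_bound (x := (q : ℚ)) (k := 59) (c := 25) (by norm_num) (by norm_num)
      (Or.inr (by exact_mod_cast hq59))
    norm_num at b1 b2 b3
    rcases (by omega : 0 < p ∨ 0 < p') with hx | hx
    · have := pos p hx; linarith
    · have := pos p' hx; linarith
  have hz : ∀ x : ℤ, x % 16 = 13 → (x : ℚ) ≠ 0 := fun x hx => by exact_mod_cast (by omega : x ≠ 0)
  have hzq : (q : ℚ) ≠ 0 := by exact_mod_cast (by omega : q ≠ 0)
  have he : p * p' * q + 9 * q * (p + p') + 25 * (p * p') = 0 := by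
    have := hz p hp
    have := hz p' hp'
    field_simp at h
    have h' : ((p * p' * q + 9 * q * (p + p') + 25 * (p * p') : ℤ) : ℚ) = 0 := by
      push_cast; linear_combination h
    exact_mod_cast h'
  rcases (by omega : q = -11 ∨ q = -27 ∨ q = -43) with rfl | rfl | rfl
  · have hs : p + p' = 10 := by omega
    rw [hs] at he
    omega
  · obtain rfl : p' = 26 - p := by omega
    have h' : (p - 13) * (p - 13) = 3328 := by nlinarith
    rcases (by omega : p - 13 ≤ -58 ∨ (-57 ≤ p - 13 ∧ p - 13 ≤ 57) ∨ 58 ≤ p - 13) with h0 | ⟨h0, h0'⟩ | h0 <;>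
      nlinarith
  · obtain rfl : p' = 42 - p := by omega
    have h' : (p - 21) * (p - 21) = 1344 := by nlinarith
    rcases (by omega : p - 21 ≤ -37 ∨ (-36 ≤ p - 21 ∧ p - 21 ≤ 36) ∨ 37 ≤ p - 21) with h0 | ⟨h0, h0'⟩ | h0 <;>
      nlinarith

/-- There is no solution. -/
theorem three_degrees_false {a b c p q r : ℤ} (hs : a + b + c = -1) (hd : p + q + r = -1)
    (ha : a % 4 = 1) (hb : b % 4 = 1) (hp : (16 : ℤ) ∣ p - a) (hq : (16 : ℤ) ∣ q - b) (hr : (16 : ℤ) ∣ r - c)
    (hsq : a * a + b * b + c * c ≤ 63) (hpa : p ≠ a) (hqb : q ≠ b) (hrc : r ≠ c)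
    (h : (1 : ℚ) + (a * a : ℤ) / p + (b * b : ℤ) / q + (c * c : ℤ) / r = 0) : False := by
  have bd : ∀ x : ℤ, x * x ≤ 63 → x % 4 = 1 → x = -7 ∨ x = -3 ∨ x = 1 ∨ x = 5 := fun x hx hx4 => by
    have h1 : -8 < x := by nlinarith
    have h2 : x < 8 := by nlinarith
    omega
  have hc : c % 4 = 1 := by omega
  rcases bd a (by nlinarith [mul_self_nonneg b, mul_self_nonneg c]) ha with rfl | rfl | rfl | rfl <;>
    rcases bd b (by nlinarith [mul_self_nonneg c, mul_self_nonneg c]) hb with rfl | rfl | rfl | rfl <;>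
    (obtain rfl : c = _ := eq_sub_of_add_eq' hs) <;>
    (first | (norm_num at hsq; done) | (norm_num at h hp hq hr hrc)) <;>
    first
      | exact case_one (p := p) (q := q) (r := r) (by omega) (by omega) (by omega) (by omega) (by omega) (by omega)
          (by linear_combination h)
      | exact case_one (p := q) (q := p) (r := r) (by omega) (by omega) (by omega) (by omega) (by omega) (by omega)
          (by linear_combination h)
      | exact case_one (p := r) (q := p) (r := q) (by omega) (by omega) (by omega) (by omega) (by omega) (by omega)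
          (by linear_combination h)
      | exact case_two (p := p) (p' := q) (q := r) (by omega) (by omega) (by omega) (by omega) (by omega) (by omega)
          (by omega) (by linear_combination h)
      | exact case_two (p := p) (p' := r) (q := q) (by omega) (by omega) (by omega) (by omega) (by omega) (by omega)
          (by omega) (by linear_combination h)
      | exact case_two (p := q) (p' := r) (q := p) (by omega) (by omega) (by omega) (by omega) (by omega) (by omega)
          (by omega) (by linear_combination h)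

end Cfsg.Agent.PiClosed
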