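import Mathlib

/-!
# Functionals on a space of sixteen elements and orbit representatives
-/

set_option autoImplicit false
set_option linter.style.haveILetI false

namespace Cfsg.Agent.PiClosed

/-- The space of sixteen elements. -/
abbrev Vs : Type := Fin 4 → ZMod 2

/-- The indicator of the complement of a hyperplane. -/
noncomputable def ind (l : Vs →+ ZMod 2) (v : Vs) : ℂ := if l v = 1 then 1 else 0

/-- The sign attached to a functional. -/
noncomputable def sgn (l : Vs →+ ZMod 2) (v : Vs) : ℂ := if l v = 1 then -1 else 1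

theorem zmod_two_cases : ∀ x : ZMod 2, x = 0 ∨ x = 1 := by decide

theorem ind_eq (l : Vs →+ ZMod 2) (v : Vs) : ind l v = (1 - sgn l v) / 2 := by
  unfold ind sgn
  split_ifs <;> norm_num

theorem ind_zero_right (l : Vs →+ ZMod 2) : ind l 0 = 0 := by simp [ind]

theorem sgn_zero_right (l : Vs →+ ZMod 2) : sgn l 0 = 1 := by simp [sgn]

theorem ind_zero_left (v : Vs) : ind 0 v = 0 := by simp [ind]

theorem sgn_add (l : Vs →+ ZMod 2) (v w : Vs) : sgn l (v + w) = sgn l v * sgn l w := by
  unfold sgn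
  rcases zmod_two_cases (l v) with h | h <;> rcases zmod_two_cases (l w) with h' | h' <;>
    simp [map_add, h, h', CharTwo.add_self_eq_zero]

theorem sgn_mul (l m : Vs →+ ZMod 2) (v : Vs) : sgn l v * sgn m v = sgn (l + m) v := by
  unfold sgn
  rcases zmod_two_cases (l v) with h | h <;> rcases zmod_two_cases (m v) with h' | h' <;>
    simp [AddMonoidHom.add_apply, h, h', CharTwo.add_self_eq_zero]

theorem sgn_ne_zero (l : Vs →+ ZMod 2) (v : Vs) : sgn l v ≠ 0 := by
  unfold sgn; split_ifs <;> norm_num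

theorem exists_one {l : Vs →+ ZMod 2} (hl : l ≠ 0) : ∃ v, l v = 1 := by
  by_contra h
  push Not at h
  exact hl (AddMonoidHom.ext fun v => (zmod_two_cases (l v)).resolve_right (h v))

theorem sum_sgn {l : Vs →+ ZMod 2} (hl : l ≠ 0) : ∑ v, sgn l v = 0 := by
  obtain ⟨v₀, h₀⟩ := exists_one hl
  have h : ∑ v, sgn l v = ∑ v, sgn l (v + v₀) := (Equiv.sum_comp (Equiv.addRight v₀) (sgn l)).symm
  rw [Finset.sum_congr rfl fun v _ => sgn_add l v v₀, ← Finset.sum_mul] at h
  have e : sgn l v₀ = -1 := by simp [sgn, h₀]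
  rw [e] at h
  linear_combination h / 2

theorem sum_ind_ind {l m : Vs →+ ZMod 2} (hl : l ≠ 0) (hm : m ≠ 0) :
    ∑ v, ind l v * ind m v = if l = m then 8 else 4 := by
  have h : ∑ v, ind l v * ind m v = (16 - ∑ v, sgn l v - ∑ v, sgn m v + ∑ v, sgn (l + m) v) / 4 := by
    rw [show (16 : ℂ) = ∑ _v : Vs, (1 : ℂ) by simp, ← Finset.sum_sub_distrib, ← Finset.sum_sub_distrib,
      ← Finset.sum_add_distrib, Finset.sum_div]
    refine Finset.sum_congr rfl fun v _ => ?_
    rw [ind_eq, ind_eq, ← sgn_mul]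
    ring
  rw [h, sum_sgn hl, sum_sgn hm]
  split_ifs with he
  · subst he
    rw [Finset.sum_congr rfl fun v _ => show sgn (l + l) v = 1 by
      rw [sgn, AddMonoidHom.add_apply, CharTwo.add_self_eq_zero, if_neg (by decide)]]
    simp
    norm_num
  · rw [sum_sgn fun h0 => he (AddMonoidHom.ext fun v => CharTwo.add_eq_zero.1 (DFunLike.congr_fun h0 v))]
    norm_num

/-- Functionals and their values on the basis. -/
noncomputable def dualEquiv : (Vs →+ ZMod 2) ≃ Vs where
  toFun l i := l (Pi.single i 1)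
  invFun c := AddMonoidHom.mk' (fun v => ∑ i, c i * v i) fun v w => by
    simp [mul_add, Finset.sum_add_distrib]
  left_inv l := by
    refine AddMonoidHom.ext fun v => ?_
    show ∑ i, l (Pi.single i 1) * v i = l v
    conv_rhs => rw [← Finset.univ_sum_single v, map_sum]
    refine Finset.sum_congr rfl fun i _ => ?_
    rcases zmod_two_cases (v i) with h | h <;> simp [h]
  right_inv c := by
    funext i
    show ∑ j, c j * (Pi.single i 1 : Vs) j = c i
    simp [Pi.single_apply]

theorem finite_dual : Finite (Vs →+ ZMod 2) := Finite.of_equiv Vs dualEquiv.symm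

theorem card_dual [Fintype (Vs →+ ZMod 2)] : Fintype.card (Vs →+ ZMod 2) = 16 := by
  rw [Fintype.card_congr dualEquiv]; simp

theorem sum_ind_all [Fintype (Vs →+ ZMod 2)] {v : Vs} (hv : v ≠ 0) : ∑ l : Vs →+ ZMod 2, ind l v = 8 := by
  obtain ⟨i, hi⟩ := Function.ne_iff.1 hv
  set l₀ : Vs →+ ZMod 2 := Pi.evalAddMonoidHom _ i with hl₀
  have h1 : l₀ v = 1 := (zmod_two_cases _).resolve_left hi
  have h : ∑ l : Vs →+ ZMod 2, ind l v = ∑ l : Vs →+ ZMod 2, ind (l + l₀) v :=
    (Equiv.sum_comp (Equiv.addRight l₀) fun l => ind l v).symm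
  rw [Finset.sum_congr rfl fun (l : Vs →+ ZMod 2) (_ : l ∈ Finset.univ) => show ind (l + l₀) v = 1 - ind l v by
    unfold ind
    rcases zmod_two_cases (l v) with h | h <;> simp [AddMonoidHom.add_apply, h, h1, CharTwo.add_self_eq_zero],
    Finset.sum_sub_distrib, Finset.sum_const, Finset.card_univ, card_dual, nsmul_eq_mul, mul_one] at h
  push_cast at h
  linear_combination h / 2

/-- Representatives of the orbits of a map of order three. -/
theorem exists_reps {L : Type*} [Fintype L] [DecidableEq L] (σ : L → L) (h3 : ∀ l, σ (σ (σ l)) = l) (P : L → Prop)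
    [DecidablePred P] (hP : ∀ l, P l → P (σ l)) (hfree : ∀ l, P l → σ l ≠ l)
    (hcard : 15 ≤ (Finset.univ.filter P).card) :
    ∃ J : Finset L, 5 ≤ J.card ∧ (∀ l ∈ J, P l) ∧ (∀ i ∈ J, ∀ j ∈ J, i ≠ σ j ∧ i ≠ σ (σ j)) ∧
      ∀ l, P l → ∃ j ∈ J, l = j ∨ l = σ j ∨ l = σ (σ j) := by
  let idx := Fintype.equivFin L
  let J := Finset.univ.filter fun l => P l ∧ idx l ≤ idx (σ l) ∧ idx l ≤ idx (σ (σ l))
  have hcov : ∀ l, P l → ∃ j ∈ J, l = j ∨ l = σ j ∨ l = σ (σ j) := by
    intro l hl
    rcases le_total (idx l) (idx (σ l)) with h | h <;> rcases le_total (idx l) (idx (σ (σ l))) with h' | h' <;>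
      rcases le_total (idx (σ l)) (idx (σ (σ l))) with h'' | h''
    all_goals
      first
        | exact ⟨l, Finset.mem_filter.2 ⟨Finset.mem_univ _, hl, by omega, by omega⟩, Or.inl rfl⟩
        | exact ⟨σ l, Finset.mem_filter.2 ⟨Finset.mem_univ _, hP _ hl, by omega, by rw [h3]; omega⟩,
            Or.inr (Or.inr (h3 l).symm)⟩
        | exact ⟨σ (σ l), Finset.mem_filter.2 ⟨Finset.mem_univ _, hP _ (hP _ hl), by rw [h3]; omega,
            by rw [h3]; omega⟩, Or.inr (Or.inl (h3 l).symm)⟩
  refine ⟨J, ?_, fun l hl => (Finset.mem_filter.1 hl).2.1, fun i hi j hj => ?_, hcov⟩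
  · have hsub : Finset.univ.filter P ⊆ J ∪ J.image σ ∪ J.image (fun l => σ (σ l)) := by
      intro l hl
      obtain ⟨j, hj, h | h | h⟩ := hcov l (Finset.mem_filter.1 hl).2
      · exact Finset.mem_union_left _ (Finset.mem_union_left _ (h ▸ hj))
      · exact Finset.mem_union_left _ (Finset.mem_union_right _ (Finset.mem_image.2 ⟨j, hj, h.symm⟩))
      · exact Finset.mem_union_right _ (Finset.mem_image.2 ⟨j, hj, h.symm⟩)
    have := (hcard.trans (Finset.card_le_card hsub)).trans ((Finset.card_union_le _ _).trans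
      (Nat.add_le_add ((Finset.card_union_le _ _).trans (Nat.add_le_add le_rfl Finset.card_image_le))
        Finset.card_image_le))
    omega
  · obtain ⟨-, hiP, hi1, hi2⟩ := Finset.mem_filter.1 hi
    obtain ⟨-, hjP, hj1, hj2⟩ := Finset.mem_filter.1 hj
    refine ⟨fun h => hfree j hjP ?_, fun h => hfree j hjP ?_⟩
    · subst h
      rw [h3] at hi2
      exact (idx.injective (le_antisymm hj1 hi2)).symm
    · subst h
      rw [h3] at hi1
      have e : σ (σ j) = j := (idx.injective (le_antisymm hj2 hi1)).symm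
      nth_rewrite 1 [← e]
      rw [h3]

end Cfsg.Agent.PiClosed
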