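import Cfsg.Agent.Lib.Fusion.PiClosed.UnitaryLocal
import Cfsg.Agent.Lib.Fusion.PiClosed.UnitaryArith
import Cfsg.Agent.Lib.Fusion.PiClosed.UnitaryFunctionals
import Cfsg.Agent.Lib.Char.DihedralColumns
import Cfsg.Agent.Lib.Char.DihedralOrder
import Cfsg.Agent.Lib.Char.HomocyclicSelect
import Cfsg.Agent.Lib.Char.RootUnityValues
import Cfsg.Agent.Lib.Char.FrobSylowThree
import Cfsg.Agent.Lib.Char.LocalRing

/-!
# The principal block excludes the type of `U₃(4)`
-/

set_option autoImplicit false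
set_option linter.style.haveILetI false
set_option maxHeartbeats 1000000

open Cfsg Cfsg.Agent.Fusion
open scoped ComplexConjugate

namespace Cfsg.Agent.PiClosed

universe u

variable {G : Type u} [Group G] [Fintype G]

attribute [local instance] _root_.Classical.propDecidable

/-- A linear character on a subgroup gives an integral multiplicity. -/
theorem mult_dvd (A : Subgroup G) [Fintype ↥A] (l : ↥A →* ℂˣ) {χ : G → ℂ} (h : IsCharacter G χ) :
    ∃ n : ℕ, ∑ a : ↥A, χ a * conj ((l a : ℂˣ) : ℂ) = (Nat.card ↥A : ℂ) * n := by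
  obtain ⟨n, hn⟩ := Char.classInner_natCast (Char.isCharacter_comp A.subtype h) (Char.isCharacter_linear l)
  rw [classInner] at hn
  refine ⟨n, ?_⟩
  rw [← hn, ← mul_assoc, mul_inv_cancel₀ (Nat.cast_ne_zero.2 Nat.card_pos.ne'), one_mul]
  rfl

/-- A sum over the four elements of `E` inside a subgroup. -/
theorem sum_four {A E : Subgroup G} [Fintype ↥A] (hEA : E ≤ A) {e f : G}
    (hall : ∀ x, x ∈ E ↔ x = 1 ∨ x = e ∨ x = f ∨ x = e * f) (he1 : e ≠ 1) (hf1 : f ≠ 1) (hef : e ≠ f)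
    (hef1 : e * f ≠ 1) (F : G → ℂ) :
    ∑ a : ↥A, (if (a : G) ∈ E then F a else 0) = F 1 + F e + F f + F (e * f) := by
  have h : ∑ a : ↥A, (if (a : G) ∈ E then F a else 0) = ∑ x ∈ ({1, e, f, e * f} : Finset G), F x := by
    rw [← Finset.sum_filter]
    refine Finset.sum_bij (fun a _ => (a : G)) (fun a ha => ?_) (fun a _ b _ h => Subtype.ext h)
      (fun x hx => ?_) (fun a _ => rfl)
    · simpa using (hall _).1 (Finset.mem_filter.1 ha).2
    · have hxE : x ∈ E := (hall x).2 (by simpa using hx)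
      exact ⟨⟨x, hEA hxE⟩, Finset.mem_filter.2 ⟨Finset.mem_univ _, hxE⟩, rfl⟩
  have n1 : e * f ≠ e := fun h => hf1 (mul_eq_left.1 h)
  have n2 : e * f ≠ f := fun h => he1 (mul_eq_right.1 h)
  rw [h, Finset.sum_insert (by simp [Ne.symm he1, Ne.symm hf1, Ne.symm hef1]),
    Finset.sum_insert (by simp [hef, Ne.symm n1]), Finset.sum_insert (by simp [Ne.symm n2]), Finset.sum_singleton]
  ring

theorem ppart_self {s : G} (h : ∃ k : ℕ, orderOf s = 2 ^ k) : IsPPart 2 s s :=
  ⟨1, mul_one _, Commute.one_right _, h, by simp⟩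

/-- What the exclusion of the type of `U₃(4)` uses. -/
structure UEnv (S : Sylow 2 G) : Prop where
  simple : IsSimpleGroup G
  facts : Facts (S : Subgroup G)
  card4 : Nat.card ↥(omegaZ (S : Subgroup G)) = 4
  invol : ∀ x ∈ (S : Subgroup G), x * x = 1 → x ∈ omegaZ (S : Subgroup G)
  model : ∃ a e f : G, ∃ _ : Model (S : Subgroup G) a, e ∈ omegaZ (S : Subgroup G) ∧ f ∈ omegaZ (S : Subgroup G) ∧
      e ≠ 1 ∧ f ≠ 1 ∧ e ≠ f ∧ a * e * a⁻¹ = f ∧ a * f * a⁻¹ = e * f ∧ a * (e * f) * a⁻¹ = e ∧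
      ∀ x ∈ omegaZ (S : Subgroup G), x = 1 ∨ x = e ∨ x = f ∨ x = e * f
  hnpc : ∀ {x : G}, x ∈ (S : Subgroup G) → x ≠ 1 →
      Cfsg.HasNormalPComplement 2 ↥(Subgroup.centralizer ({x} : Set G))
  sylIn : ∀ {x : G}, x ∈ (S : Subgroup G) →
      SylIn 2 ((S : Subgroup G) ⊓ Subgroup.centralizer ({x} : Set G)) (Subgroup.centralizer ({x} : Set G))
  card_cent : ∀ {x : G}, x ∈ (S : Subgroup G) → x ∉ omegaZ (S : Subgroup G) →
      Nat.card ↥((S : Subgroup G) ⊓ Subgroup.centralizer ({x} : Set G)) = 16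
  no_inverted : ∀ {x : G}, x ∈ (S : Subgroup G) → x ∉ omegaZ (S : Subgroup G) → ∀ {t : G}, t * t = 1 →
      t * x * t⁻¹ = x⁻¹ → False

/-- The principal block excludes such an environment. -/
theorem false_of_env (S : Sylow 2 G) (hU : UEnv S) : False := by
  classical
  haveI : Fact (Nat.Prime 2) := ⟨Nat.prime_two⟩
  haveI := hU.simple
  have hS := hU.facts
  have hcard4 := hU.card4
  have hinvol := hU.invol
  obtain ⟨a, e, f, Mo, he, hf, he1, hf1, hef, h1, h2, h3, hall⟩ := hU.model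
  obtain ⟨M, hM⟩ := Char.exists_pModular Nat.prime_two
  set T := (S : Subgroup G)
  set E := omegaZ T
  haveI : Fintype (Vs →+ ZMod 2) := @Fintype.ofFinite _ finite_dual
  haveI : Fintype ↥T := Fintype.ofFinite _
  have hef1 : e * f ≠ 1 := fun h => hef (by
    rw [← inv_eq_of_mul_eq_one_right h, inv_eq_of_mul_eq_one_right he.2.1])
  have hallE : ∀ x, x ∈ E ↔ x = 1 ∨ x = e ∨ x = f ∨ x = e * f := fun x => ⟨hall x, fun h => by
    rcases h with rfl | rfl | rfl | rfl
    exacts [E.one_mem, he, hf, E.mul_mem he hf]⟩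
  have heT : e ∈ T := he.1
  have hpp : ∀ x ∈ T, ∃ k : ℕ, orderOf x = 2 ^ k := fun x hx => by
    obtain ⟨k, hk⟩ := IsPGroup.iff_orderOf.1 S.isPGroup' ⟨x, hx⟩
    exact ⟨k, by rw [← hk, Subgroup.orderOf_mk]⟩
  set B := Char.dihB0 M G with hB
  have hone : (Char.irrOne : IrrCharacter G) ∈ B := by
    rw [hB, Char.mem_dihB0]; exact Char.irrOne_mem (Char.pmod_prime hM)
  have hBfilter : ∀ F : IrrCharacter G → ℂ,
      ∑ χ ∈ B, F χ = ∑ χ : IrrCharacter G with χ ∈ principalBlock M G, F χ := fun F => by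
    rw [hB, Char.dihB0]
  -- orthogonality in the principal block
  have horth : ∀ g z h w : G, IsPPart 2 g z → IsPPart 2 h w → ¬ IsConj z w →
      ∑ χ ∈ B, conj ((χ : G → ℂ) h) * (χ : G → ℂ) g = 0 := fun g z h w hg hh hn => by
    rw [hBfilter]
    exact Char.sum_block_column_orth hM (Char.isPBlock_principalBlock (G := G) M) hg hh hn
  have hsec : ∀ x ∈ T, x ≠ 1 →
      (∀ χ ∈ B, ∀ y : G, Commute x y → ¬ 2 ∣ orderOf y → (χ : G → ℂ) (x * y) = (χ : G → ℂ) x) ∧
      ∑ χ ∈ B, conj ((χ : G → ℂ) x) * (χ : G → ℂ) x =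
        ((Nat.card ↥(T ⊓ Subgroup.centralizer ({x} : Set G)) : ℕ) : ℂ) := by
    intro x hx hx1
    obtain ⟨hc, hs⟩ := Char.nilp_section hM (hpp x hx) (hU.hnpc hx hx1)
    refine ⟨fun χ hχ => hc χ (Char.mem_dihB0.1 hχ), ?_⟩
    rw [hBfilter, ← Char.factorization_of_sylIn (hU.sylIn hx)]
    exact hs
  -- values on the cosets
  have hthE : ∀ x : ↥T, Mo.th x ≠ 0 → (x : G) ∉ E := fun x hx h => hx ((Mo.th_eq x).2 h)
  have hsecE : ∀ v, v ≠ 0 → ((Mo.sec v : ↥T) : G) ∉ E := fun v hv => hthE _ (by rwa [Mo.th_sec])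
  have hsec1 : ∀ v, v ≠ 0 → ((Mo.sec v : ↥T) : G) ≠ 1 := fun v hv h => hsecE v hv (h ▸ E.one_mem)
  let g : Vs → IrrCharacter G → ℂ := fun v χ => (χ : G → ℂ) ((Mo.sec v : ↥T) : G)
  have hconjval : ∀ (χ : IrrCharacter G) {x y : G}, IsConj x y → (χ : G → ℂ) y = (χ : G → ℂ) x := fun χ x y h => by
    obtain ⟨c, rfl⟩ := isConj_iff.1 h
    exact Char.isClassFunction_character (Char.irr_isCharacter χ.2) _ _
  have hval : ∀ (χ : IrrCharacter G) (x : ↥T), Mo.th x ≠ 0 → (χ : G → ℂ) x = g (Mo.th x) χ := fun χ x hx =>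
    (hconjval χ ((Mo.conj_iff x _ hx).2 (Or.inl (Mo.th_sec _)))).symm
  have hgA : ∀ (χ : IrrCharacter G) v, g (Mo.A v) χ = g v χ := by
    intro χ v
    by_cases hv : v = 0
    · rw [hv, map_zero]
    · exact hconjval χ ((Mo.conj_iff _ _ (by rwa [Mo.th_sec])).2 (Or.inr (Or.inl (by rw [Mo.th_sec, Mo.th_sec]))))
  have hAinj : Function.Injective Mo.A := fun v w h => by rw [← Mo.cube v, ← Mo.cube w, h]
  -- sums over `S`
  have hfib : ∀ F : Vs → ℂ, ∑ x : ↥T, F (Mo.th x) = 4 * ∑ v, F v := by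
    intro F
    rw [← Finset.sum_fiberwise Finset.univ Mo.th, Finset.mul_sum]
    refine Finset.sum_congr rfl fun v _ => ?_
    rw [Finset.sum_congr rfl fun x hx => congrArg F (Finset.mem_filter.1 hx).2, Finset.sum_const, nsmul_eq_mul]
    congr 1
    have hz : Nat.card {x : ↥T // Mo.th x = v} = 4 := by
      refine Eq.trans ?_ hcard4
      rw [← Nat.card_congr (Subgroup.subgroupOfEquivOfLe (omegaZ_le T)).toEquiv]
      refine Nat.card_congr ⟨fun x => ⟨x.1 * (Mo.sec v)⁻¹, Subgroup.mem_subgroupOf.2 ((Mo.th_eq _).1 ?_)⟩,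
        fun y => ⟨y.1 * Mo.sec v, ?_⟩, fun x => Subtype.ext (inv_mul_cancel_right _ _),
        fun y => Subtype.ext (mul_inv_cancel_right _ _)⟩
      · have h := Mo.th_mul (x.1 * (Mo.sec v)⁻¹) (Mo.sec v)
        rw [inv_mul_cancel_right, x.2, Mo.th_sec] at h
        linear_combination -h
      · rw [Mo.th_mul, (Mo.th_eq _).2 (Subgroup.mem_subgroupOf.1 y.2), Mo.th_sec, zero_add]
    rw [← Fintype.card_subtype, ← Nat.card_eq_fintype_card, hz]
    norm_num
  have hve : ∀ χ : IrrCharacter G,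
      (χ : G → ℂ) f = (χ : G → ℂ) e ∧ (χ : G → ℂ) (e * f) = (χ : G → ℂ) e := fun χ =>
    ⟨hconjval χ (isConj_iff.2 ⟨a, h1⟩), (hconjval χ ((isConj_iff.2 ⟨a, h3⟩))).symm⟩
  have hsumT : ∀ (χ : IrrCharacter G) (c : Vs → ℂ), ∑ x : ↥T, (χ : G → ℂ) x * c (Mo.th x) =
      c 0 * ((χ : G → ℂ) 1 + 3 * (χ : G → ℂ) e) + 4 * ∑ v, (if v = 0 then 0 else c v * g v χ) := by
    intro χ c
    rw [← hfib, Finset.sum_congr rfl fun (x : ↥T) (_ : x ∈ Finset.univ) => show (χ : G → ℂ) x * c (Mo.th x) =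
        c 0 * (if (x : G) ∈ E then (χ : G → ℂ) x else 0) +
          (if Mo.th x = 0 then 0 else c (Mo.th x) * g (Mo.th x) χ) by
      by_cases h : Mo.th x = 0
      · rw [if_pos ((Mo.th_eq x).1 h), if_pos h, h]; ring
      · rw [if_neg (hthE x h), if_neg h, hval χ x h]; ring,
      Finset.sum_add_distrib, ← Finset.mul_sum,
      sum_four (omegaZ_le T) hallE he1 hf1 hef hef1, (hve χ).1, (hve χ).2]
    ring
  -- the multiplicities
  let W : (Vs →+ ZMod 2) → IrrCharacter G → ℂ := fun l χ => ∑ v, ind l v * g v χ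
  have hWint : ∀ (l : Vs →+ ZMod 2) (χ : IrrCharacter G), ∃ w : ℤ, W l χ = 8 * (w : ℂ) := by
    intro l χ
    let sg : ↥T →* ℂˣ :=
      { toFun := fun x => Units.mk0 (sgn l (Mo.th x)) (sgn_ne_zero l _)
        map_one' := Units.ext (by
          show sgn l (Mo.th 1) = 1
          rw [(Mo.th_eq 1).2 E.one_mem, sgn_zero_right])
        map_mul' := fun x y => Units.ext (by
          show sgn l (Mo.th (x * y)) = sgn l (Mo.th x) * sgn l (Mo.th y)
          rw [Mo.th_mul, sgn_add]) }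
    obtain ⟨n0, hn0⟩ := mult_dvd T 1 (Char.irr_isCharacter χ.2)
    obtain ⟨nl, hnl⟩ := mult_dvd T sg (Char.irr_isCharacter χ.2)
    rw [hS.card] at hn0 hnl
    have e0 : ∑ x : ↥T, (χ : G → ℂ) x * 1 = (64 : ℕ) * (n0 : ℂ) := by rw [← hn0]; simp
    have el : ∑ x : ↥T, (χ : G → ℂ) x * sgn l (Mo.th x) = (64 : ℕ) * (nl : ℂ) := by
      rw [← hnl]
      refine Finset.sum_congr rfl fun x _ => ?_
      congr 1
      show sgn l (Mo.th x) = conj (sgn l (Mo.th x))
      unfold sgn; split_ifs <;> simp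
    rw [hsumT χ fun _ => 1] at e0
    rw [hsumT χ (sgn l), sgn_zero_right] at el
    refine ⟨(n0 : ℤ) - nl, ?_⟩
    have hd : 8 * W l χ = 4 * ∑ v, (if v = 0 then 0 else (1 : ℂ) * g v χ) -
        4 * ∑ v, (if v = 0 then 0 else sgn l v * g v χ) := by
      rw [Finset.mul_sum, Finset.mul_sum, Finset.mul_sum, ← Finset.sum_sub_distrib]
      refine Finset.sum_congr rfl fun v _ => ?_
      by_cases hv : v = 0
      · rw [hv, ind_zero_right, if_pos rfl, if_pos rfl]; ring
      · rw [ind_eq, if_neg hv, if_neg hv]; ring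
    push_cast at e0 el ⊢
    linear_combination hd / 8 + (e0 - el) / 8
  choose w hw using hWint
  have hWconj : ∀ l χ, ∑ v, ind l v * conj (g v χ) = 8 * (w l χ : ℂ) := by
    intro l χ
    have h := congrArg conj (hw l χ)
    simp only [W, map_sum, map_mul, map_intCast, map_ofNat] at h
    rw [← h]
    refine Finset.sum_congr rfl fun v _ => ?_
    congr 1
    unfold ind; split_ifs <;> simp
  -- vanishing relations
  have hrel : ∀ (l : Vs →+ ZMod 2) (ρ z : G), IsPPart 2 ρ z → (∀ v, v ≠ 0 → ¬ IsConj z ((Mo.sec v : ↥T) : G)) →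
      ∑ χ ∈ B, (w l χ : ℂ) * (χ : G → ℂ) ρ = 0 := by
    intro l ρ z hρ hn
    have : (8 : ℂ) * ∑ χ ∈ B, (w l χ : ℂ) * (χ : G → ℂ) ρ = 0 := by
      rw [Finset.mul_sum, Finset.sum_congr rfl fun χ _ => by rw [← mul_assoc, ← hWconj, Finset.sum_mul],
        Finset.sum_comm]
      refine Finset.sum_eq_zero fun v _ => ?_
      by_cases hv : v = 0
      · simp [hv, ind_zero_right]
      rw [Finset.sum_congr rfl fun (χ : IrrCharacter G) _ => mul_assoc _ _ _, ← Finset.mul_sum,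
        horth ρ z _ _ hρ (ppart_self (hpp _ (Mo.sec v).2)) (hn v hv), mul_zero]
    exact (mul_eq_zero.1 this).resolve_left (by norm_num)
  have hreg : ∀ (l : Vs →+ ZMod 2) (ρ : G), ¬ 2 ∣ orderOf ρ → ∑ χ ∈ B, (w l χ : ℂ) * (χ : G → ℂ) ρ = 0 :=
    fun l ρ hρ => hrel l ρ 1 (Char.isPPart_regular hρ) fun v hv hc => hsec1 v hv (isConj_one_right.1 hc)
  have hrele : ∀ l : Vs →+ ZMod 2, ∑ χ ∈ B, (w l χ : ℂ) * (χ : G → ℂ) e = 0 := fun l =>
    hrel l e e (ppart_self (hpp e heT)) fun v hv hc => by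
      obtain ⟨c, hc⟩ := isConj_iff.1 hc
      refine hsecE v hv (hinvol _ (Mo.sec v).2 ?_)
      rw [← hc, show c * e * c⁻¹ * (c * e * c⁻¹) = c * (e * e) * c⁻¹ by group, he.2.1, mul_one, mul_inv_cancel]
  -- the Gram matrix
  let σ : (Vs →+ ZMod 2) → (Vs →+ ZMod 2) := fun l => l.comp Mo.A
  have hσv : ∀ l v, ind (σ l) v = ind l (Mo.A v) := fun l v => rfl
  have hσ3 : ∀ l, σ (σ (σ l)) = l := fun l => AddMonoidHom.ext fun v => by
    show l (Mo.A (Mo.A (Mo.A v))) = l v
    rw [Mo.cube]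
  have hσ0 : ∀ l, l ≠ 0 → σ l ≠ 0 := fun l hl h => hl (by
    rw [← hσ3 l, h]
    exact AddMonoidHom.ext fun v => rfl)
  have hσfree : ∀ l, l ≠ 0 → σ l ≠ l := by
    intro l hl h
    let D : Vs →+ Vs := Mo.A - AddMonoidHom.id Vs
    have hDs : Function.Surjective D := Finite.injective_iff_surjective.1 (by
      rw [injective_iff_map_eq_zero]
      exact fun v hv => Mo.free v (sub_eq_zero.1 hv))
    refine hl (AddMonoidHom.ext fun u => ?_)
    obtain ⟨v, rfl⟩ := hDs u
    show l (Mo.A v - v) = 0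
    rw [map_sub, sub_eq_zero]
    exact DFunLike.congr_fun h v
  have hgram : ∀ l k : Vs →+ ZMod 2, l ≠ 0 → k ≠ 0 → ∑ χ ∈ B, w l χ * w k χ =
      3 + (if l = k then 1 else 0) + (if l = σ k then 1 else 0) + (if l = σ (σ k) then 1 else 0) := by
    intro l k hl hk
    have key : ∑ χ ∈ B, (8 * (w l χ : ℂ)) * (8 * (w k χ : ℂ)) =
        16 * ∑ u, (ind l u * ind k u + ind l u * ind (σ k) u + ind l u * ind (σ (σ k)) u) := by
      rw [Finset.sum_congr rfl fun χ _ => by rw [← hWconj l χ, ← hw k χ, Finset.sum_mul_sum], Finset.sum_comm,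
        Finset.mul_sum]
      refine Finset.sum_congr rfl fun u _ => ?_
      rw [Finset.sum_comm]
      by_cases hu : u = 0
      · simp [hu, ind_zero_right]
      have hpair : ∀ v, ∑ χ ∈ B, ind l u * conj (g u χ) * (ind k v * g v χ) =
          ind l u * (ind k v * (16 * ((if v = u then 1 else 0) + (if v = Mo.A u then 1 else 0) +
            (if v = Mo.A (Mo.A u) then 1 else 0)))) := by
        intro v
        rw [Finset.sum_congr rfl fun χ _ => show ind l u * conj (g u χ) * (ind k v * g v χ) =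
          ind l u * (ind k v * (conj (g u χ) * g v χ)) by ring, ← Finset.mul_sum, ← Finset.mul_sum]
        by_cases hv : v = 0
        · simp [hv, ind_zero_right]
        congr 2
        have hd1 : Mo.A u ≠ u := fun h => hu (Mo.free u h)
        have hd2 : Mo.A (Mo.A u) ≠ u := fun h => hd1 (by nth_rewrite 1 [← h]; rw [Mo.cube])
        have hd3 : Mo.A (Mo.A u) ≠ Mo.A u := fun h => hd1 (hAinj h)
        have hiff := Mo.conj_iff (Mo.sec u) (Mo.sec v) (by rwa [Mo.th_sec])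
        simp only [Mo.th_sec] at hiff
        by_cases hc : v = u ∨ v = Mo.A u ∨ v = Mo.A (Mo.A u)
        · have hsame : ∀ χ : IrrCharacter G, g v χ = g u χ := fun χ => hconjval χ (hiff.2 hc)
          rw [Finset.sum_congr rfl fun χ _ => by rw [hsame χ], (hsec _ (Mo.sec u).2 (hsec1 u hu)).2,
            hU.card_cent (Mo.sec u).2 (hsecE u hu)]
          rcases hc with rfl | rfl | rfl
          · simp [Ne.symm hd1, Ne.symm hd2]
          · simp [hd1, Ne.symm hd3]
          · simp [hd2, hd3]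
        · rw [horth _ _ _ _ (ppart_self (hpp _ (Mo.sec v).2)) (ppart_self (hpp _ (Mo.sec u).2))
            fun h => hc (hiff.1 h.symm)]
          push Not at hc
          simp [hc.1, hc.2.1, hc.2.2]
      rw [Finset.sum_congr rfl fun v _ => hpair v]
      simp only [mul_add, mul_ite, mul_one, mul_zero, Finset.sum_add_distrib, Finset.sum_ite_eq',
        Finset.mem_univ, if_true, hσv]
      ring
    rw [Finset.sum_add_distrib, Finset.sum_add_distrib, sum_ind_ind hl hk, sum_ind_ind hl (hσ0 k hk),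
      sum_ind_ind hl (hσ0 _ (hσ0 k hk))] at key
    have key' : ((∑ χ ∈ B, w l χ * w k χ : ℤ) : ℂ) =
        ((3 + (if l = k then 1 else 0) + (if l = σ k then 1 else 0) + (if l = σ (σ k) then 1 else 0) : ℤ) : ℂ) := by
      refine mul_left_cancel₀ (show (64 : ℂ) ≠ 0 by norm_num) ?_
      push_cast
      rw [Finset.mul_sum]
      rw [Finset.sum_congr rfl fun (χ : IrrCharacter G) _ => show 64 * ((w l χ : ℂ) * (w k χ : ℂ)) =
        8 * (w l χ : ℂ) * (8 * (w k χ : ℂ)) by ring, key]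
      split_ifs <;> ring
    exact_mod_cast key'
  -- orbit representatives
  obtain ⟨J, hJ5, hJ0, hJne, hJcov⟩ := exists_reps σ hσ3 (fun l => l ≠ 0) hσ0 hσfree (by
    rw [Finset.filter_ne', Finset.card_erase_of_mem (Finset.mem_univ _), Finset.card_univ, card_dual])
  have hwσ : ∀ l χ, w (σ l) χ = w l χ := by
    intro l χ
    have h : W (σ l) χ = W l χ := by
      have hbij : Function.Bijective Mo.A := Finite.injective_iff_bijective.1 hAinj
      show ∑ v, ind (σ l) v * g v χ = ∑ v, ind l v * g v χ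
      rw [← hbij.sum_comp (fun v => ind l v * g v χ)]
      exact Finset.sum_congr rfl fun v _ => by rw [hσv, hgA]
    rw [hw, hw] at h
    exact_mod_cast mul_left_cancel₀ (show (8 : ℂ) ≠ 0 by norm_num) h
  -- the selection
  set one : IrrCharacter G := Char.irrOne with hone'
  have hw1 : ∀ l : Vs →+ ZMod 2, l ≠ 0 → w l one = 1 := by
    intro l hl
    have h := hw l one
    have h' : W l one = 8 := by
      show ∑ v, ind l v * g v one = 8
      rw [Finset.sum_congr rfl fun v _ => show ind l v * g v one = ind l v * ind l v by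
        show ind l v * 1 = _
        rw [mul_one]; unfold ind; split_ifs <;> simp, sum_ind_ind hl hl, if_pos rfl]
    rw [h'] at h
    exact_mod_cast (mul_left_cancel₀ (show (8 : ℂ) ≠ 0 by norm_num) (h.symm.trans (mul_one 8).symm))
  let d : IrrCharacter G → ℤ := fun χ => (Char.deg (χ : G → ℂ) : ℤ)
  have hd : ∀ χ : IrrCharacter G, (χ : G → ℂ) 1 = (d χ : ℂ) := fun χ => by
    rw [Char.char_one_eq_deg (Char.irr_isCharacter χ.2)]; simp [d]
  have hd1 : d one = 1 := by
    have := hd one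
    rw [hone', Char.irrOne_apply] at this
    exact_mod_cast this.symm
  have hsplit : ∀ F : IrrCharacter G → ℤ, ∑ χ ∈ B, F χ = F one + ∑ χ ∈ B.erase one, F χ := fun F =>
    (Finset.add_sum_erase B F hone).symm
  have hJ' : ∀ j : ↥J, (j : Vs →+ ZMod 2) ≠ 0 := fun j => hJ0 j j.2
  obtain ⟨e₂, e₃, sg, A₁, A₂, fj, he₂, he₃, hsg, hA₁, hA₂, hA12, hfj, hfjinj, hfjne, hwval⟩ :=
    Char.homo_select (J := ↥J) (B := B.erase one) (fun j χ => -w j χ) d
      (fun χ _ => by have := Char.deg_pos χ.2; simp only [d]; omega)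
      (fun j => by
        have h := hgram j j (hJ' j) (hJ' j)
        rw [hsplit, hw1 _ (hJ' j), if_pos rfl, if_neg (hJne _ j.2 _ j.2).1, if_neg (hJne _ j.2 _ j.2).2] at h
        rw [Finset.sum_congr rfl fun χ _ => neg_mul_neg (w j χ) (w j χ)]
        linarith)
      (fun i j hij => by
        have h := hgram i j (hJ' i) (hJ' j)
        rw [hsplit, hw1 _ (hJ' i), hw1 _ (hJ' j), if_neg (fun h => hij (Subtype.ext h)),
          if_neg (hJne _ i.2 _ j.2).1, if_neg (hJne _ i.2 _ j.2).2] at h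
        rw [Finset.sum_congr rfl fun χ _ => neg_mul_neg (w i χ) (w j χ)]
        linarith)
      (fun j => by
        have h := hreg j 1 (by simp)
        simp only [hd] at h
        have h' : ∑ χ ∈ B, w j χ * d χ = 0 := by exact_mod_cast h
        rw [hsplit, hw1 _ (hJ' j), hd1] at h'
        rw [Finset.sum_congr rfl fun χ _ => neg_mul (w j χ) (d χ), Finset.sum_neg_distrib]
        linarith)
      (by rw [Fintype.card_coe]; exact hJ5)
  obtain ⟨j₀⟩ : Nonempty ↥J := by
    obtain ⟨j, hj⟩ := Finset.card_pos.1 (show 0 < J.card by omega)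
    exact ⟨⟨j, hj⟩⟩
  set C₁ := fj j₀ with hC₁
  obtain ⟨hC1A, hC1B⟩ := hfjne j₀
  -- the sum attached to the selection
  have hsum : ∀ F : IrrCharacter G → ℂ, ∑ χ ∈ B, (w j₀ χ : ℂ) * F χ =
      F one - e₂ * F A₁ - e₃ * F A₂ - sg * F C₁ := by
    intro F
    rw [← Finset.add_sum_erase B _ hone, hw1 _ (hJ' j₀), Int.cast_one, one_mul,
      Finset.sum_congr rfl fun χ hχ => show (w j₀ χ : ℂ) * F χ =
        -((if χ = A₁ then (e₂ : ℂ) * F χ else 0) + (if χ = A₂ then (e₃ : ℂ) * F χ else 0) +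
          (if χ = C₁ then (sg : ℂ) * F χ else 0)) by
        have h := hwval j₀ χ hχ
        rw [← hC₁] at h
        rw [show w j₀ χ = -((if χ = A₁ then e₂ else 0) + (if χ = A₂ then e₃ else 0) +
          (if χ = C₁ then sg else 0)) by linarith]
        push_cast
        split_ifs <;> ring,
      Finset.sum_neg_distrib, Finset.sum_add_distrib, Finset.sum_add_distrib, Finset.sum_ite_eq',
      Finset.sum_ite_eq', Finset.sum_ite_eq', if_pos hA₁, if_pos hA₂, if_pos (hfj j₀)]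
    ring
  -- values at the involution
  choose vv hvv using fun χ : IrrCharacter G =>
    Char.char_involution_int (Char.irr_isCharacter χ.2) (show e ^ 2 = 1 by rw [sq]; exact he.2.1)
  have hne_one : ∀ χ ∈ B.erase one, d χ ≠ vv χ := by
    intro χ hχ h
    refine (Finset.mem_erase.1 hχ).1 (Subtype.ext ?_)
    refine Char.eq_one_of_apply_eq (t := e) (fun K hK heK => ?_) (by rw [hvv, hd, h])
    exact (IsSimpleGroup.eq_bot_or_eq_top_of_normal K hK).resolve_left fun hb =>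
      he1 (Subgroup.mem_bot.1 (hb ▸ heK))
  -- congruences
  have h16 : ∀ χ : IrrCharacter G, (16 : ℤ) ∣ d χ - vv χ := by
    intro χ
    obtain ⟨v₀, hv₀⟩ : ∃ v : Vs, v ≠ 0 := ⟨fun _ => 1, fun h => one_ne_zero (congrFun h 0)⟩
    set x := ((Mo.sec v₀ : ↥T) : G)
    have hxT : x ∈ T := (Mo.sec v₀).2
    have hxE : x ∉ E := hsecE v₀ hv₀
    set A := T ⊓ Subgroup.centralizer ({x} : Set G) with hA
    have hA16 : Nat.card ↥A = 16 := hU.card_cent hxT hxE
    have hEA : E ≤ A := fun c hc => ⟨hc.1, Subgroup.mem_centralizer_singleton_iff.2 (hc.2.2 x hxT).symm⟩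
    have hab : ∀ y y' : ↥A, y * y' = y' * y := by
      intro y y'
      set Z := Subgroup.center ↥A
      by_cases hy : y ∈ Z
      · exact (Subgroup.mem_center_iff.1 hy y').symm
      have hxA : x ∈ A := ⟨hxT, Subgroup.mem_centralizer_singleton_iff.2 rfl⟩
      have hxZ : (⟨x, hxA⟩ : ↥A) ∈ Z := Subgroup.mem_center_iff.2 fun z =>
        Subtype.ext (Subgroup.mem_centralizer_singleton_iff.1 z.2.2)
      have hEZ : E.subgroupOf A ≤ Z := fun c hc => Subgroup.mem_center_iff.2 fun z =>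
        Subtype.ext (hc.2.2 z z.2.1)
      have hlt : 4 < Nat.card ↥Z := by
        rw [← hcard4, ← Nat.card_congr (Subgroup.subgroupOfEquivOfLe hEA).toEquiv]
        refine lt_of_le_of_ne (Subgroup.card_le_of_le hEZ) fun h => hxE ?_
        have := Subgroup.eq_of_le_of_card_ge hEZ h.ge
        rw [← this] at hxZ
        exact hxZ
      have hidx := Z.card_mul_index
      rw [hA16] at hidx
      have hidx2 : Z.index = 1 ∨ Z.index = 2 := by
        have h0 : Z.index ∣ 16 := ⟨_, by rw [mul_comm]; exact hidx.symm⟩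
        have h1 := Nat.le_of_dvd (by norm_num) h0
        have h2 : Z.index < 4 := by nlinarith
        interval_cases Z.index <;> simp at h0 hidx ⊢
      rcases hidx2 with h | h
      · exact absurd (Subgroup.index_eq_one.1 h ▸ Subgroup.mem_top y) hy
      · by_cases hy' : y' ∈ Z
        · exact Subgroup.mem_center_iff.1 hy' y
        have hyy : y * y' ∈ Z := (Subgroup.mul_mem_iff_of_index_two h).2 (iff_of_false hy hy')
        have := Subgroup.mem_center_iff.1 hyy y
        exact (mul_left_cancel (this.trans (by group))).symm.symm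
    haveI : Fintype ↥A := Fintype.ofFinite _
    obtain ⟨l, hl⟩ : ∃ l : ↥A →* ℂˣ, l ⟨e, hEA he⟩ ≠ 1 := by
      by_contra hc
      push Not at hc
      exact he1 (congrArg Subtype.val (Char.RootValues.hom_separates hab hc))
    obtain ⟨n, hn⟩ := mult_dvd A l (Char.irr_isCharacter χ.2)
    rw [hA16] at hn
    let F : G → ℂ := fun y => if h : y ∈ A then (χ : G → ℂ) y * conj ((l ⟨y, h⟩ : ℂˣ) : ℂ) else 0
    set c : ℂ := conj ((l ⟨e, hEA he⟩ : ℂˣ) : ℂ) with hc
    have hF : ∀ y : ↥A, (χ : G → ℂ) y * conj ((l y : ℂˣ) : ℂ) = F y := fun y => by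
      show _ = dite _ _ _
      rw [dif_pos y.2]
    have hc1 : c = -1 := by
      have h : c * c = 1 := by
        rw [hc, ← map_mul, ← Units.val_mul, ← map_mul,
          show (⟨e, hEA he⟩ : ↥A) * ⟨e, hEA he⟩ = 1 from Subtype.ext he.2.1, map_one, Units.val_one, map_one]
      rcases mul_self_eq_one_iff.1 h with h' | h'
      · exfalso
        refine hl (Units.ext ((starRingEnd ℂ).injective ?_))
        rw [Units.val_one, map_one]
        exact h'
      · exact h'
    have hFe : ∀ y : ↥A, (y : G) ∉ E → F (y * (⟨e, hEA he⟩ : ↥A) : ↥A) = F y * c := by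
      intro y hy
      rw [← hF, ← hF, map_mul, Units.val_mul, map_mul]
      have hyth : Mo.th ⟨y, y.2.1⟩ ≠ 0 := fun h => hy ((Mo.th_eq _).1 h)
      have hv := hconjval χ ((Mo.conj_iff ⟨y, y.2.1⟩ (⟨y, y.2.1⟩ * ⟨e, heT⟩) hyth).2 (Or.inl (by
        rw [Mo.th_mul, (Mo.th_eq ⟨e, heT⟩).2 he, add_zero])))
      simp only [Subgroup.coe_mul] at hv ⊢
      rw [hv, hc]; ring
    have hout : ∑ y : ↥A, (if (y : G) ∈ E then 0 else F y) = 0 := by
      set t : ↥A := ⟨e, hEA he⟩
      have h : ∑ y : ↥A, (if (y : G) ∈ E then 0 else F y) =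
          ∑ y : ↥A, (if ((y * t : ↥A) : G) ∈ E then 0 else F (y * t : ↥A)) :=
        (Equiv.sum_comp (Equiv.mulRight t) fun y : ↥A => if (y : G) ∈ E then 0 else F y).symm
      rw [Finset.sum_congr rfl fun (y : ↥A) (_ : y ∈ Finset.univ) => show
        (if ((y * t : ↥A) : G) ∈ E then 0 else F (y * t : ↥A)) = (if (y : G) ∈ E then 0 else F y) * c by
          have hmem : ((y * t : ↥A) : G) ∈ E ↔ (y : G) ∈ E := by
            show (y : G) * e ∈ E ↔ _
            exact E.mul_mem_cancel_right he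
          by_cases hy : (y : G) ∈ E
          · rw [if_pos hy, if_pos (hmem.2 hy), zero_mul]
          · rw [if_neg hy, if_neg (fun h => hy (hmem.1 h)), hFe y hy],
        ← Finset.sum_mul, hc1] at h
      linear_combination h / 2
    have hin := sum_four hEA hallE he1 hf1 hef hef1 F
    have htot : (16 : ℂ) * n = F 1 + F e + F f + F (e * f) := by
      have hpart : ∑ y : ↥A, F y =
          (∑ y : ↥A, if (y : G) ∈ E then F y else 0) + ∑ y : ↥A, (if (y : G) ∈ E then 0 else F y) := by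
        rw [← Finset.sum_add_distrib]
        exact Finset.sum_congr rfl fun y _ => by split_ifs <;> simp
      rw [hout, add_zero, hin] at hpart
      rw [← hpart, show (16 : ℂ) = ((16 : ℕ) : ℂ) by norm_num, ← hn]
      exact Finset.sum_congr rfl fun y _ => hF y
    have hF1 : F 1 = (χ : G → ℂ) 1 := by
      have h := hF 1
      rw [map_one, Units.val_one, map_one, mul_one, OneMemClass.coe_one] at h
      exact h.symm
    have hFe' : F e = (χ : G → ℂ) e * c := by rw [← hF ⟨e, hEA he⟩, hc]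
    have hFf : F f + F (e * f) = 0 := by
      rw [← hF ⟨f, hEA hf⟩, ← hF ⟨e * f, hEA (E.mul_mem he hf)⟩,
        show (⟨e * f, hEA (E.mul_mem he hf)⟩ : ↥A) = ⟨e, hEA he⟩ * ⟨f, hEA hf⟩ from rfl, map_mul, Units.val_mul,
        map_mul, ← hc, hc1, Subgroup.coe_mul, (hve χ).1, (hve χ).2]
      ring
    rw [hF1, hFe', hc1, hvv, hd] at htot
    refine ⟨n, ?_⟩
    have : ((d χ - vv χ : ℤ) : ℂ) = ((16 * (n : ℤ) : ℤ) : ℂ) := by push_cast; linear_combination -htot - hFf
    exact_mod_cast this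
  have h64 : ∀ χ ∈ B.erase one, ∀ ε : ℤ, (∀ j : ↥J, w j χ = -ε) → (64 : ℤ) ∣ d χ + 3 * vv χ - 60 * ε := by
    intro χ hχ ε hε
    obtain ⟨n, hn⟩ := mult_dvd T 1 (Char.irr_isCharacter χ.2)
    rw [hS.card] at hn
    have e0 : ∑ x : ↥T, (χ : G → ℂ) x * 1 = (64 : ℕ) * (n : ℂ) := by rw [← hn]; simp
    rw [hsumT χ fun _ => 1, hd, hvv] at e0
    have hUsum : ∑ v, (if v = 0 then 0 else (1 : ℂ) * g v χ) = -15 * (ε : ℂ) := by
      have hl : ∀ l : Vs →+ ZMod 2, W l χ = if l = 0 then 0 else -8 * (ε : ℂ) := by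
        intro l
        split_ifs with h0
        · show ∑ v, ind l v * g v χ = 0
          simp [h0, ind_zero_left]
        · obtain ⟨j, hj, hjl⟩ := hJcov l h0
          have hwl : w l χ = w j χ := by
            rcases hjl with rfl | rfl | rfl
            · rfl
            · rw [hwσ]
            · rw [hwσ, hwσ]
          rw [hw, hwl, hε ⟨j, hj⟩]
          push_cast; ring
      have h2 : ∑ l, W l χ = 8 * ∑ v, (if v = 0 then 0 else (1 : ℂ) * g v χ) := by
        show ∑ l, ∑ v, ind l v * g v χ = _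
        rw [Finset.sum_comm, Finset.mul_sum]
        refine Finset.sum_congr rfl fun v _ => ?_
        rw [← Finset.sum_mul]
        by_cases hv : v = 0
        · simp [hv, ind_zero_right]
        · rw [sum_ind_all hv, if_neg hv, one_mul]
      rw [Finset.sum_congr rfl fun l _ => hl l, Finset.sum_ite, Finset.sum_const_zero, zero_add, Finset.sum_const,
        Finset.filter_ne', Finset.card_erase_of_mem (Finset.mem_univ _), Finset.card_univ, card_dual, nsmul_eq_mul] at h2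
      push_cast at h2
      linear_combination -h2 / 8
    rw [hUsum] at e0
    refine ⟨n, ?_⟩
    have : ((d χ + 3 * vv χ - 60 * ε : ℤ) : ℂ) = ((64 * (n : ℤ) : ℤ) : ℂ) := by
      push_cast at e0 ⊢; linear_combination e0
    exact_mod_cast this
  -- the norm at the involution
  have hnorm : vv A₁ * vv A₁ + vv A₂ * vv A₂ + vv C₁ * vv C₁ ≤ 63 := by
    have h := (hsec e heT he1).2
    rw [show T ⊓ Subgroup.centralizer ({e} : Set G) = T from inf_eq_left.2 (le_centralizer_omegaZ he), hS.card,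
      Finset.sum_congr rfl fun χ _ => by rw [hvv, map_intCast]] at h
    have h' : ∑ χ ∈ B, vv χ * vv χ = 64 := by exact_mod_cast h
    have hv1 : vv one = 1 := by
      have := hvv one
      rw [hone', Char.irrOne_apply] at this
      exact_mod_cast this.symm
    rw [hsplit, hv1] at h'
    have hsub : ({A₁, A₂, C₁} : Finset (IrrCharacter G)) ⊆ B.erase one := by
      simp only [Finset.insert_subset_iff, Finset.singleton_subset_iff]
      exact ⟨hA₁, hA₂, hfj j₀⟩
    have h3 := Finset.sum_le_sum_of_subset_of_nonneg hsub fun χ _ _ => mul_self_nonneg (vv χ)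
    rw [Finset.sum_insert (by simp [hA12, show A₁ ≠ C₁ from Ne.symm hC1A]), Finset.sum_pair (Ne.symm hC1B)] at h3
    linarith
  -- the products of two conjugates of the involution
  have hprod : ∀ p q : G, ∑ χ ∈ B, (w j₀ χ : ℂ) * (χ : G → ℂ) (p * e * p⁻¹ * (q * e * q⁻¹)) = 0 := by
    intro p q
    set t := p * e * p⁻¹ with ht
    set z := t * (q * e * q⁻¹) with hz
    have ht2 : t * t = 1 := by
      rw [ht, show p * e * p⁻¹ * (p * e * p⁻¹) = p * (e * e) * p⁻¹ by group, he.2.1, mul_one, mul_inv_cancel]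
    have hu2 : q * e * q⁻¹ * (q * e * q⁻¹) = 1 := by
      rw [show q * e * q⁻¹ * (q * e * q⁻¹) = q * (e * e) * q⁻¹ by group, he.2.1, mul_one, mul_inv_cancel]
    have hzinv : t * z * t⁻¹ = z⁻¹ := by
      have key : ∀ t u : G, t * t = 1 → u * u = 1 → t * (t * u) * t⁻¹ = (t * u)⁻¹ := fun t u h h' => by
        rw [mul_inv_rev, inv_eq_of_mul_eq_one_right h, inv_eq_of_mul_eq_one_right h', ← mul_assoc, h, one_mul]
      exact key _ _ ht2 hu2
    obtain ⟨z2, y, hzy, hcy, ⟨k, hk⟩, hy⟩ := Char.exists_isPPart Nat.prime_two z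
    have hz2 : z2 ∈ Subgroup.zpowers z := by
      have h1 := Char.preg_mem_zpowers Nat.prime_two z (Subgroup.mem_zpowers z)
      rw [Char.preg_eq Nat.prime_two (⟨y, hzy, hcy, ⟨k, hk⟩, hy⟩ : IsPPart 2 z z2)] at h1
      have := mul_mem (Subgroup.mem_zpowers z) (inv_mem h1)
      simpa using this
    by_cases hz1 : z2 = 1
    · refine hreg _ _ ?_
      rw [← hzy, hz1, one_mul]; exact hy
    obtain ⟨r, -, hr⟩ := (sylIn_top S).conj_le
      (IsPGroup.of_card (n := k) (by rw [Nat.card_zpowers, hk]) : IsPGroup 2 ↥(Subgroup.zpowers z2)) le_top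
    have hxT : r * z2 * r⁻¹ ∈ T := hr (conj_mem_cj (Subgroup.mem_zpowers z2))
    have hxE : r * z2 * r⁻¹ ∈ E := by
      by_contra hxE
      refine hU.no_inverted hxT hxE (t := r * t * r⁻¹) ?_ ?_
      · rw [show r * t * r⁻¹ * (r * t * r⁻¹) = r * (t * t) * r⁻¹ by group, ht2, mul_one, mul_inv_cancel]
      · obtain ⟨i, hi⟩ := Subgroup.mem_zpowers_iff.1 hz2
        calc r * t * r⁻¹ * (r * z2 * r⁻¹) * (r * t * r⁻¹)⁻¹ = r * (t * z2 * t⁻¹) * r⁻¹ := by group
          _ = r * z2⁻¹ * r⁻¹ := by rw [← hi, ← conj_zpow, hzinv, inv_zpow]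
          _ = _ := by group
    -- conjugate to the involution
    obtain ⟨c, hc⟩ : ∃ c : G, c * z2 * c⁻¹ = e := by
      rcases (hallE _).1 hxE with h | h | h | h
      · exact absurd (conj_eq_one_iff.1 h) hz1
      · exact ⟨r, h⟩
      · exact ⟨a⁻¹ * r, by rw [show a⁻¹ * r * z2 * (a⁻¹ * r)⁻¹ = a⁻¹ * (r * z2 * r⁻¹) * a by group, h, ← h1]; group⟩
      · exact ⟨a * r, by rw [show a * r * z2 * (a * r)⁻¹ = a * (r * z2 * r⁻¹) * a⁻¹ by group, h, h3]⟩
    have hval : ∀ χ ∈ B, (χ : G → ℂ) z = (χ : G → ℂ) e := by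
      intro χ hχ
      have hcm : Commute e (c * y * c⁻¹) := by
        rw [← hc, ← MulAut.conj_apply, ← MulAut.conj_apply]; exact hcy.map (MulAut.conj c)
      have h0 := (hsec e heT he1).1 χ hχ _ hcm
        (by rwa [show c * y * c⁻¹ = MulAut.conj c y from rfl, MulEquiv.orderOf_eq])
      rw [← h0]
      exact hconjval χ (x := e * (c * y * c⁻¹)) (isConj_iff.2 ⟨c⁻¹, by rw [← hc, ← hzy]; group⟩)
    rw [Finset.sum_congr rfl fun χ hχ => by rw [hval χ hχ]]
    exact hrele _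
  have heq : ∑ χ ∈ B, (w j₀ χ : ℂ) * (((χ : G → ℂ) e) ^ 2 / (χ : G → ℂ) 1) = 0 := by
    have h : ((Nat.card G : ℂ) ^ 2) * ∑ χ ∈ B, (w j₀ χ : ℂ) * (((χ : G → ℂ) e) ^ 2 / (χ : G → ℂ) 1) = 0 := by
      rw [Finset.mul_sum, Finset.sum_congr rfl fun χ _ => show
        (Nat.card G : ℂ) ^ 2 * ((w j₀ χ : ℂ) * (((χ : G → ℂ) e) ^ 2 / (χ : G → ℂ) 1)) =
          ∑ p : G, ∑ q : G, (w j₀ χ : ℂ) * (χ : G → ℂ) (p * e * p⁻¹ * (q * e * q⁻¹)) by
        simp only [← Finset.mul_sum]
        rw [Char.sum_pair_irr χ e]; ring, Finset.sum_comm]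
      refine Finset.sum_eq_zero fun p _ => ?_
      rw [Finset.sum_comm]
      exact Finset.sum_eq_zero fun q _ => hprod p q
    exact (mul_eq_zero.1 h).resolve_left (pow_ne_zero 2 (Nat.cast_ne_zero.2 Nat.card_pos.ne'))
  -- the arithmetic
  have hs0 := hrele j₀
  rw [hsum] at hs0
  have hd0 := hreg j₀ 1 (by simp)
  rw [hsum] at hd0
  rw [hsum] at heq
  simp only [hvv, hd] at hs0 hd0 heq
  have hv1 : vv one = 1 := by
    have := hvv one
    rw [hone', Char.irrOne_apply] at this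
    exact_mod_cast this.symm
  rw [hv1, hd1] at heq
  rw [hv1] at hs0
  rw [hd1] at hd0
  have hs0' : 1 - e₂ * vv A₁ - e₃ * vv A₂ - sg * vv C₁ = 0 := by exact_mod_cast hs0
  have hd0' : 1 - e₂ * d A₁ - e₃ * d A₂ - sg * d C₁ = 0 := by exact_mod_cast hd0
  have hε₂ : ∀ j : ↥J, w j A₁ = -e₂ := fun j => by
    have h := hwval j A₁ hA₁
    rw [if_pos rfl, if_neg hA12, if_neg (Ne.symm (hfjne j).1)] at h
    linarith
  have hε₃ : ∀ j : ↥J, w j A₂ = -e₃ := fun j => by
    have h := hwval j A₂ hA₂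
    rw [if_neg (Ne.symm hA12), if_pos rfl, if_neg (Ne.symm (hfjne j).2)] at h
    linarith
  have hsqone : ∀ {ε : ℤ}, (ε = 1 ∨ ε = -1) → ε * ε = 1 := by rintro ε (rfl | rfl) <;> norm_num
  have hscaled : ∀ {ε : ℤ}, (ε = 1 ∨ ε = -1) → ∀ χ ∈ B.erase one, (16 : ℤ) ∣ -ε * d χ - -ε * vv χ ∧
      -ε * d χ ≠ -ε * vv χ := fun {ε} hε χ hχ => by
    refine ⟨by rw [← mul_sub]; exact (h16 χ).mul_left _, fun h => hne_one χ hχ ?_⟩
    rcases hε with rfl | rfl <;> linarith
  have hmod4 : ∀ {ε : ℤ}, (ε = 1 ∨ ε = -1) → ∀ χ ∈ B.erase one, (∀ j : ↥J, w j χ = -ε) →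
      (-ε * vv χ) % 4 = 1 := fun {ε} hε χ hχ hj => by
    obtain ⟨n, hn⟩ := h64 χ hχ ε hj
    obtain ⟨m, hm⟩ := h16 χ
    rcases hε with rfl | rfl <;> omega
  have hA := hscaled he₂ A₁ hA₁
  have hB2 := hscaled he₃ A₂ hA₂
  have hC := hscaled hsg C₁ (hfj j₀)
  refine three_degrees_false (a := -e₂ * vv A₁) (b := -e₃ * vv A₂) (c := -sg * vv C₁) (p := -e₂ * d A₁)
    (q := -e₃ * d A₂) (r := -sg * d C₁) (by linarith) (by linarith) (hmod4 he₂ A₁ hA₁ hε₂)
    (hmod4 he₃ A₂ hA₂ hε₃) hA.1 hB2.1 hC.1 ?_ hA.2 hB2.2 hC.2 ?_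
  · have h2' : ∀ (ε v : ℤ), (ε = 1 ∨ ε = -1) → -ε * v * (-ε * v) = v * v := by
      rintro ε v (rfl | rfl) <;> ring
    rw [h2' _ _ he₂, h2' _ _ he₃, h2' _ _ hsg]
    exact hnorm
  · have hterm : ∀ (ε v m : ℤ), (ε = 1 ∨ ε = -1) →
        (((-ε * v * (-ε * v) : ℤ) : ℚ) / ((-ε * m : ℤ) : ℚ)) = -(ε : ℚ) * ((v : ℚ) ^ 2 / (m : ℚ)) := by
      rintro ε v m (rfl | rfl) <;> push_cast <;> ring
    rw [hterm _ _ _ he₂, hterm _ _ _ he₃, hterm _ _ _ hsg]
    have heq' : (((1 : ℚ) + -(e₂ : ℚ) * ((vv A₁ : ℚ) ^ 2 / (d A₁ : ℚ)) + -(e₃ : ℚ) * ((vv A₂ : ℚ) ^ 2 / (d A₂ : ℚ)) +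
        -(sg : ℚ) * ((vv C₁ : ℚ) ^ 2 / (d C₁ : ℚ)) : ℚ) : ℂ) = ((0 : ℚ) : ℂ) := by
      push_cast at heq ⊢
      linear_combination heq
    exact_mod_cast heq'

namespace Minimal

variable {π : Set ℕ} (hG : Minimal π G)
include hG

theorem false_of_facts (S : Sylow 2 G) (hS : Facts (S : Subgroup G)) : False :=
  PiClosed.false_of_env S
    { simple := hG.simple
      facts := hS
      card4 := (hG.four_config S).1
      invol := (hG.four_config S).2.1
      model := hG.exists_model S hS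
      hnpc := fun hx hx1 => hG.hnpc_elt S hS hx hx1
      sylIn := fun hx => hG.sylIn_centralizer S hx
      card_cent := fun hx hxE => hG.card_centralizer S hS hx hxE
      no_inverted := fun hx hxE _ ht hinv => hG.no_inverted_four S hS hx hxE ht hinv }

theorem false_of_minimal (gw : GW.Reduced.PerfectClass.{u}) : False := by
  haveI : Fact (Nat.Prime 2) := ⟨Nat.prime_two⟩
  obtain ⟨S⟩ := (inferInstance : Nonempty (Sylow 2 G))
  exact hG.false_of_facts S (hG.facts gw S)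

end Minimal

end Cfsg.Agent.PiClosed
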