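import Cfsg.Agent.Lib.Fusion.PiClosed.Unitary
import Cfsg.Agent.Lib.Fusion.Focal

/-!
# Elements of odd order centralising the involutions of `S` centralise `S`
-/

set_option autoImplicit false
set_option linter.style.haveILetI false

open Cfsg.Agent.Fusion
open scoped commutatorElement

namespace Cfsg.Agent.PiClosed

universe u

variable {G : Type u} [Group G]

/-- The normaliser of `S` centralising its central involutions. -/
def normCent (S : Subgroup G) : Subgroup G where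
  carrier := {g | g ∈ Subgroup.normalizer (S : Set G) ∧ g ∈ Subgroup.centralizer (omegaZ S : Set G)}
  one_mem' := ⟨one_mem _, one_mem _⟩
  mul_mem' := fun ha hb => ⟨mul_mem ha.1 hb.1, mul_mem ha.2 hb.2⟩
  inv_mem' := fun ha => ⟨inv_mem ha.1, inv_mem ha.2⟩

theorem normCent_le (S : Subgroup G) : normCent S ≤ Subgroup.normalizer (S : Set G) := fun _ h => h.1

theorem cube_eq_one : ∀ r : ZMod 5, 1 = r * r * r → r = 1 := by decide

theorem normCent_comm {S : Subgroup G} {h c : G} (hh : h ∈ normCent S) (hc : c ∈ omegaZ S) : h * c * h⁻¹ = c := by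
  rw [← Subgroup.mem_centralizer_iff.1 hh.2 c hc, mul_inv_cancel_right]

theorem normCent_conj {S : Subgroup G} {n h : G} (hn : n ∈ Subgroup.normalizer (S : Set G)) (hh : h ∈ normCent S) :
    n * h * n⁻¹ ∈ normCent S := by
  refine ⟨mul_mem (mul_mem hn hh.1) (inv_mem hn), Subgroup.mem_centralizer_iff.2 fun c hc => ?_⟩
  have hc' : n⁻¹ * c * n ∈ omegaZ S := by simpa using omegaZ_normalizer (inv_mem hn) hc
  calc c * (n * h * n⁻¹) = n * (n⁻¹ * c * n * h) * n⁻¹ := by group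
    _ = n * (h * (n⁻¹ * c * n)) * n⁻¹ := by rw [Subgroup.mem_centralizer_iff.1 hh.2 _ hc']
    _ = _ := by group

/-- The stabiliser of the coset `x E`. -/
def cosetStab (S : Subgroup G) (x : G) : Subgroup G where
  carrier := {g | g ∈ normCent S ∧ g * x * g⁻¹ * x⁻¹ ∈ omegaZ S}
  one_mem' := ⟨one_mem _, by simp⟩
  mul_mem' := fun {a b} ha hb => ⟨mul_mem ha.1 hb.1, by
    rw [show a * b * x * (a * b)⁻¹ * x⁻¹ = a * (b * x * b⁻¹ * x⁻¹) * a⁻¹ * (a * x * a⁻¹ * x⁻¹) by group,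
      normCent_comm ha.1 hb.2]
    exact mul_mem hb.2 ha.2⟩
  inv_mem' := fun {a} ha => ⟨inv_mem ha.1, by
    have h := normCent_comm (inv_mem ha.1) ha.2
    rw [show a⁻¹ * (a * x * a⁻¹ * x⁻¹) * a⁻¹⁻¹ = (a⁻¹ * x * a⁻¹⁻¹ * x⁻¹)⁻¹ by group] at h
    rw [← inv_inv (a⁻¹ * x * a⁻¹⁻¹ * x⁻¹), h]
    exact inv_mem ha.2⟩

/-- The elements of `normCent S` acting trivially on `S/E`. -/
def coreStab (S : Subgroup G) : Subgroup G := normCent S ⊓ ⨅ x ∈ S, cosetStab S x

theorem mem_coreStab {S : Subgroup G} {g : G} :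
    g ∈ coreStab S ↔ g ∈ normCent S ∧ ∀ x ∈ S, g * x * g⁻¹ * x⁻¹ ∈ omegaZ S := by
  rw [coreStab, Subgroup.mem_inf, Subgroup.mem_iInf]
  refine and_congr_right fun hg => ?_
  simp only [Subgroup.mem_iInf]
  exact ⟨fun h x hx => (h x hx).2, fun h x hx => ⟨hg, h x hx⟩⟩

theorem coreStab_conj {S : Subgroup G} {n k : G} (hn : n ∈ Subgroup.normalizer (S : Set G)) (hk : k ∈ coreStab S) :
    n * k * n⁻¹ ∈ coreStab S := by
  rw [mem_coreStab] at hk ⊢
  refine ⟨normCent_conj hn hk.1, fun x hx => ?_⟩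
  have h := omegaZ_normalizer hn (hk.2 (n⁻¹ * x * n) (by
    simpa using (Subgroup.mem_normalizer_iff.1 (inv_mem hn) x).1 hx))
  convert h using 1
  group

/-- An element of odd order stabilising a coset fixes it pointwise. -/
theorem fix_of_cosetStab {S : Subgroup G} {h x : G} (hh : h ∈ cosetStab S x) (hodd : Odd (orderOf h)) :
    h * x * h⁻¹ = x := by
  obtain ⟨hN, hc⟩ := hh
  set c := h * x * h⁻¹ * x⁻¹ with hcdef
  have hx : h * x * h⁻¹ = c * x := by rw [hcdef]; group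
  have hpow : ∀ n : ℕ, h ^ n * x * (h ^ n)⁻¹ = c ^ n * x := by
    intro n
    induction n with
    | zero => simp
    | succ n ih =>
      calc h ^ (n + 1) * x * (h ^ (n + 1))⁻¹ = h * (h ^ n * x * (h ^ n)⁻¹) * h⁻¹ := by rw [pow_succ']; group
        _ = h * c ^ n * h⁻¹ * (h * x * h⁻¹) := by rw [ih]; group
        _ = c ^ n * (c * x) := by rw [normCent_comm hN (pow_mem hc n), hx]
        _ = _ := by rw [pow_succ]; group
  have h1 := hpow (orderOf h)
  rw [pow_orderOf_eq_one, one_mul, inv_one, mul_one] at h1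
  obtain ⟨j, hj⟩ := hodd
  rw [hj, pow_succ, pow_mul, sq, hc.2.1, one_pow, one_mul] at h1
  rw [hx, ← h1]

/-- A set invariant under a subgroup is counted by its cosets. -/
theorem card_invariant (E : Subgroup G) (Y : Set G) (hY : ∀ y ∈ Y, ∀ c ∈ E, y * c ∈ Y) :
    Nat.card Y = Nat.card ↥E * Nat.card ((QuotientGroup.mk : G → G ⧸ E) '' Y) := by
  have h : (QuotientGroup.mk : G → G ⧸ E) ⁻¹' (QuotientGroup.mk '' Y) = Y := by
    refine Set.Subset.antisymm ?_ (Set.subset_preimage_image _ Y)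
    rintro x ⟨y, hy, hxy⟩
    have := hY y hy _ (QuotientGroup.eq.1 hxy)
    rwa [mul_inv_cancel_left] at this
  conv_lhs => rw [← h]
  rw [Nat.card_congr (QuotientGroup.preimageMkEquivSubgroupProdSet E _), Nat.card_prod]

variable [Finite G] {π : Set ℕ}

theorem le_of_prime_powers {C N : Subgroup G}
    (h : ∀ q : ℕ, q.Prime → ∀ x ∈ N, ∀ k : ℕ, orderOf x = q ^ k → x ∈ C) : N ≤ C := by
  rw [← Subgroup.relIndex_eq_one]
  by_contra hne
  obtain ⟨q, hq, hd⟩ := Nat.exists_prime_and_dvd hne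
  haveI : Fact q.Prime := ⟨hq⟩
  exact not_dvd_relIndex (fun x hx ⟨k, hk⟩ => h q hq x hx k hk) hd

theorem sylow_two_of_mem_normalizer (S : Sylow 2 G) {x : G} (hx : x ∈ Subgroup.normalizer ((S : Subgroup G) : Set G))
    {k : ℕ} (hk : orderOf x = 2 ^ k) : x ∈ (S : Subgroup G) := by
  haveI : Fact (Nat.Prime 2) := ⟨Nat.prime_two⟩
  have hP : IsPGroup 2 ↥((S : Subgroup G) ⊔ Subgroup.zpowers x) :=
    IsPGroup.to_sup_of_normal_left' S.isPGroup' (IsPGroup.of_card (n := k) (by rw [Nat.card_zpowers, hk]))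
      (Subgroup.zpowers_le.2 hx)
  rw [← S.is_maximal' hP le_sup_left]
  exact (le_sup_right : _ ≤ (S : Subgroup G) ⊔ Subgroup.zpowers x) (Subgroup.mem_zpowers x)

theorem le_coreStab {S : Subgroup G} (hS : Facts S) : S ≤ coreStab S := by
  obtain ⟨θ, -, hθ⟩ := hS.planes
  intro s hs
  refine mem_coreStab.2 ⟨⟨Subgroup.le_normalizer hs,
    Subgroup.mem_centralizer_iff.2 fun c hc => (hc.2.2 s hs).symm⟩, fun x hx => ?_⟩
  have := (hθ (⟨s, hs⟩ * ⟨x, hx⟩ * (⟨s, hs⟩ : ↥S)⁻¹ * (⟨x, hx⟩ : ↥S)⁻¹)).1 (by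
    rw [map_mul, map_mul, map_mul, map_inv, map_inv, mul_comm (θ _) (θ _), mul_inv_cancel_right, mul_inv_cancel])
  simpa using this

namespace Minimal

variable (hG : Minimal π G)
include hG

theorem cube_centralizes (S : Sylow 2 G) {n : G} (hn : n ∈ Subgroup.normalizer ((S : Subgroup G) : Set G)) :
    n ^ 3 ∈ Subgroup.centralizer (omegaZ (S : Subgroup G) : Set G) := by
  haveI : Fact (Nat.Prime 2) := ⟨Nat.prime_two⟩
  obtain ⟨a, e, f, -, -, he, hf, he1, hf1, hef, -, -, -, hall⟩ := hG.exists_cycle S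
  set E := omegaZ (S : Subgroup G)
  obtain ⟨x, y, hxy, hc, ⟨k, hk⟩, hy⟩ := Char.exists_isPPart Nat.prime_two n
  have hx : x ∈ Subgroup.zpowers n := by
    have h1 := Char.preg_mem_zpowers Nat.prime_two n (Subgroup.mem_zpowers n)
    rw [Char.preg_eq Nat.prime_two (⟨y, hxy, hc, ⟨k, hk⟩, hy⟩ : Cfsg.IsPPart 2 n x)] at h1
    have := mul_mem (Subgroup.mem_zpowers n) (inv_mem h1)
    simpa using this
  have hxN : x ∈ Subgroup.normalizer ((S : Subgroup G) : Set G) := (Subgroup.zpowers_le.2 hn) hx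
  have hyN : y ∈ Subgroup.normalizer ((S : Subgroup G) : Set G) := by
    rw [show y = x⁻¹ * n by rw [← hxy]; group]; exact mul_mem (inv_mem hxN) hn
  have hxS := sylow_two_of_mem_normalizer S hxN hk
  have hodd : Odd (orderOf y) := Nat.not_even_iff_odd.1 fun h => hy (even_iff_two_dvd.1 h)
  refine Subgroup.mem_centralizer_iff.2 fun w hw => ?_
  have hxw : ∀ w ∈ E, x * w * x⁻¹ = w := fun w hw => by rw [hw.2.2 x hxS, mul_inv_cancel_right]
  have hnw : ∀ w ∈ E, n * w * n⁻¹ = y * w * y⁻¹ := fun w hw => by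
    rw [← hxy, show x * y * w * (x * y)⁻¹ = x * (y * w * y⁻¹) * x⁻¹ by group,
      hxw _ (omegaZ_normalizer hyN hw)]
  suffices h : y * (y * (y * w * y⁻¹) * y⁻¹) * y⁻¹ = w by
    symm
    rw [← mul_inv_eq_iff_eq_mul]
    calc n ^ 3 * w * (n ^ 3)⁻¹ = n * (n * (n * w * n⁻¹) * n⁻¹) * n⁻¹ := by
          rw [pow_succ, pow_two]; group
      _ = w := by
        rw [hnw w hw, hnw _ (omegaZ_normalizer hyN hw), hnw _ (omegaZ_normalizer hyN (omegaZ_normalizer hyN hw)), h]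
  have hinj : ∀ p q : G, y * p * y⁻¹ = y * q * y⁻¹ → p = q := fun p q h =>
    mul_left_cancel (mul_right_cancel h)
  by_cases hw1 : w = 1
  · simp [hw1]
  set v := y * w * y⁻¹ with hv
  by_cases hvw : v = w
  · have hw' : y * w * y⁻¹ = w := hv.symm.trans hvw
    rw [hvw, hw', hw']
  have hvE : v ∈ E := omegaZ_normalizer hyN hw
  have hv1 : v ≠ 1 := fun h => hw1 (conj_eq_one_iff.1 h)
  have h4 : ∀ t ∈ E, t ≠ 1 → t = w ∨ t = v ∨ t = w * v := by
    intro t ht ht1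
    by_contra hc
    push Not at hc
    have hwv1 : w * v ≠ 1 := fun h => hvw (by
      rw [← inv_eq_of_mul_eq_one_right h, inv_eq_of_mul_eq_one_right hw.2.1])
    have hwvw : w * v ≠ w := fun h => hv1 (mul_eq_left.1 h)
    have hwvv : w * v ≠ v := fun h => hw1 (mul_eq_right.1 h)
    let u : Fin 5 → E := ![1, ⟨w, hw⟩, ⟨v, hvE⟩, ⟨w * v, mul_mem hw hvE⟩, ⟨t, ht⟩]
    have hu : Function.Injective u := by
      intro i j h
      fin_cases i <;> fin_cases j <;>
        first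
          | rfl
          | (exfalso; simp [u, Subtype.ext_iff, hw1, hv1, hvw, hwv1, hwvw, hwvv, ht1, hc.1, hc.2.1, hc.2.2,
              Ne.symm hw1, Ne.symm hv1, Ne.symm hvw, Ne.symm hwv1, Ne.symm hwvw, Ne.symm hwvv, Ne.symm ht1,
              Ne.symm hc.1, Ne.symm hc.2.1, Ne.symm hc.2.2] at h)
    have := Nat.card_le_card_of_injective u hu
    rw [Nat.card_fin, (hG.four_config S).1] at this
    omega
  rcases h4 (y * v * y⁻¹) (omegaZ_normalizer hyN hvE) (fun h => hv1 (conj_eq_one_iff.1 h)) with h | h | h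
  · exact (no_swap hodd (Ne.symm hvw) hv.symm h).elim
  · exact absurd (hinj v w (h.trans hv)) hvw
  · rw [h]
    calc y * (w * v) * y⁻¹ = (y * w * y⁻¹) * (y * v * y⁻¹) := by group
      _ = v * (w * v) := by rw [← hv, h]
      _ = w * (v * v) := by rw [← mul_assoc, omegaZ_comm hvE hw, mul_assoc]
      _ = w := by rw [hvE.2.1, mul_one]

/-- A 2-subgroup containing `E` has all its involutions there. -/
theorem involution_mem (S : Sylow 2 G) {R : Subgroup G} (hR : IsPGroup 2 ↥R)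
    (hER : omegaZ (S : Subgroup G) ≤ R) {x : G} (hx : x ∈ R) (hx2 : x * x = 1) : x ∈ omegaZ (S : Subgroup G) := by
  haveI : Fact (Nat.Prime 2) := ⟨Nat.prime_two⟩
  obtain ⟨hcard, hinv, -⟩ := hG.four_config S
  obtain ⟨g, -, hg⟩ := (sylIn_top S).conj_le hR le_top
  set E := omegaZ (S : Subgroup G)
  have hgE : cj E g = E := by
    refine cj_eq_of_cj_le ?_
    rintro _ ⟨w, hw, rfl⟩
    refine hinv _ (hg (conj_mem_cj (hER hw))) ?_
    show g * w * g⁻¹ * (g * w * g⁻¹) = 1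
    rw [show g * w * g⁻¹ * (g * w * g⁻¹) = g * (w * w) * g⁻¹ by group, hw.2.1, mul_one, mul_inv_cancel]
  have h := hinv _ (hg (conj_mem_cj hx)) (by
    rw [show g * x * g⁻¹ * (g * x * g⁻¹) = g * (x * x) * g⁻¹ by group, hx2, mul_one, mul_inv_cancel])
  have h' : g * x * g⁻¹ ∈ cj E g := hgE.ge h
  simpa [mem_cj, mul_assoc] using h'

/-- The local structure of a centraliser of an element centralising `E`. -/
theorem centralizer_local (S : Sylow 2 G) {y : G} (hy1 : y ≠ 1)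
    (hy : y ∈ Subgroup.centralizer (omegaZ (S : Subgroup G) : Set G)) {p : ℕ} [Fact p.Prime] (hp : p ∈ π)
    {Q : Subgroup G} (hQ : IsPGroup p ↥Q) (hQC : Q ≤ Subgroup.centralizer ({y} : Set G)) :
    ∃ c : G, cj Q c ≤ Subgroup.normalizer (omegaZ (S : Subgroup G) : Set G) := by
  haveI : Fact (Nat.Prime 2) := ⟨Nat.prime_two⟩
  set E := omegaZ (S : Subgroup G)
  set C := Subgroup.centralizer ({y} : Set G)
  have hEC : E ≤ C := fun w hw =>
    Subgroup.mem_centralizer_singleton_iff.2 (Subgroup.mem_centralizer_iff.1 hy w hw)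
  obtain ⟨R, hR, hER⟩ := exists_sylIn_ge (S.isPGroup'.to_le (omegaZ_le _) : IsPGroup 2 ↥E) hEC
  have hC := hG.centralizer_ne_top hy1
  have hsup : ∀ l ∈ C, ∃ k ∈ piCore π C, ∃ c ∈ C ⊓ Subgroup.normalizer (E : Set G), l = k * c := by
    intro l hl
    obtain ⟨k, hk, n, hn, rfl⟩ := hG.decomp hC hR hl
    refine ⟨k, hk, n, Subgroup.mem_inf.2 ⟨hn.1, mem_normalizer_of_cj_le ?_⟩, rfl⟩
    rintro _ ⟨w, hw, rfl⟩
    refine hG.involution_mem S hR.isPGroup hER ((Subgroup.mem_normalizer_iff.1 hn.2 w).1 (hER hw)) ?_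
    show n * w * n⁻¹ * (n * w * n⁻¹) = 1
    rw [show n * w * n⁻¹ * (n * w * n⁻¹) = n * (w * w) * n⁻¹ by group, hw.2.1, mul_one, mul_inv_cancel]
  obtain ⟨T, hT⟩ := exists_sylIn (p := p) (C ⊓ Subgroup.normalizer (E : Set G))
  have hTC : SylIn p T C := ⟨hT.le.trans inf_le_left, hT.isPGroup, fun hd => by
    rw [← Subgroup.relIndex_mul_relIndex T _ C hT.le inf_le_left] at hd
    rcases (Nat.Prime.dvd_mul Fact.out).1 hd with hd | hd
    · exact hT.not_dvd hd
    · exact hG.relIndex_supplement hC inf_le_left hsup Fact.out hd hp⟩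
  obtain ⟨c, -, hc⟩ := hTC.conj_le hQ hQC
  exact ⟨c, hc.trans (hT.le.trans inf_le_right)⟩

/-- Fixed points on the twenty roots. -/
theorem fixed_roots (S : Sylow 2 G) (hS : Facts (S : Subgroup G)) {h : G} (hh : h ∈ normCent (S : Subgroup G))
    {q k : ℕ} [Fact q.Prime] (hk : orderOf h = q ^ k) {e : G} (he : e ∈ omegaZ (S : Subgroup G)) (he1 : e ≠ 1) :
    Nat.card {x : G | x ∈ (S : Subgroup G) ∧ x * x = e ∧ h * x * h⁻¹ = x} ≡ 20 [MOD q] ∧
      ∀ x ∈ (S : Subgroup G), x * x = e → ∃ d : ℕ, d ∣ q ^ k ∧ d ≤ 20 ∧ h ^ d * x * (h ^ d)⁻¹ = x := by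
  classical
  set T := (S : Subgroup G)
  set H := Subgroup.zpowers h
  have hpres : ∀ g : H, ∀ x : G, x ∈ T ∧ x * x = e → (g : G) * x * (g : G)⁻¹ ∈ T ∧
      (g : G) * x * (g : G)⁻¹ * ((g : G) * x * (g : G)⁻¹) = e := by
    rintro ⟨g, hg⟩ x ⟨hx, hxe⟩
    have hgN : g ∈ normCent T := (Subgroup.zpowers_le.2 hh) hg
    refine ⟨(Subgroup.mem_normalizer_iff.1 hgN.1 x).1 hx, ?_⟩
    show g * x * g⁻¹ * (g * x * g⁻¹) = e
    rw [show g * x * g⁻¹ * (g * x * g⁻¹) = g * (x * x) * g⁻¹ by group, hxe, normCent_comm hgN he]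
  letI : MulAction H {x : G // x ∈ T ∧ x * x = e} :=
    { smul := fun g x => ⟨(g : G) * x * (g : G)⁻¹, hpres g x x.2⟩
      one_smul := fun x => Subtype.ext (by show (1 : G) * x * (1 : G)⁻¹ = x; simp)
      mul_smul := fun a b x => Subtype.ext (by
        show ((a : G) * b) * x * ((a : G) * b)⁻¹ = a * ((b : G) * x * (b : G)⁻¹) * (a : G)⁻¹
        group) }
  have hH : IsPGroup q ↥H := IsPGroup.of_card (n := k) (by rw [Nat.card_zpowers, hk])
  refine ⟨?_, fun x hx hxe => ?_⟩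
  · have := hH.card_modEq_card_fixedPoints {x : G // x ∈ T ∧ x * x = e}
    rw [hG.card_roots S hS he he1] at this
    refine (Nat.ModEq.trans this ?_).symm
    rw [Nat.card_congr ?_]
    refine ⟨fun x => ⟨x.1.1, x.1.2.1, x.1.2.2, congrArg Subtype.val (x.2 ⟨h, Subgroup.mem_zpowers h⟩)⟩,
      fun x => ⟨⟨x.1, x.2.1, x.2.2.1⟩, fun g => Subtype.ext ?_⟩, fun x => rfl, fun x => rfl⟩
    show (g : G) * x.1 * (g : G)⁻¹ = x.1
    obtain ⟨i, hi⟩ := Subgroup.mem_zpowers_iff.1 g.2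
    have hc : Commute h x.1 := mul_inv_eq_iff_eq_mul.1 x.2.2.2
    rw [← hi, (hc.zpow_left i).eq, mul_inv_cancel_right]
  · set x' : {x : G // x ∈ T ∧ x * x = e} := ⟨x, hx, hxe⟩
    refine ⟨(MulAction.stabilizer H x').index, ?_, ?_, ?_⟩
    · rw [← hk, ← Nat.card_zpowers]; exact Subgroup.index_dvd_card _
    · rw [MulAction.index_stabilizer, ← hG.card_roots S hS he he1]
      exact (Set.ncard_le_card _)
    · have hn : (MulAction.stabilizer H x').Normal := ⟨fun a ha b => by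
        have hba : b * a = a * b := by
          obtain ⟨i, hi⟩ := Subgroup.mem_zpowers_iff.1 a.2
          obtain ⟨j, hj⟩ := Subgroup.mem_zpowers_iff.1 b.2
          exact Subtype.ext (by rw [Subgroup.coe_mul, Subgroup.coe_mul, ← hi, ← hj, zpow_mul_comm])
        rwa [hba, mul_inv_cancel_right]⟩
      have := Subgroup.pow_index_mem (MulAction.stabilizer H x') ⟨h, Subgroup.mem_zpowers h⟩
      exact congrArg Subtype.val this

/-- The possible prime power elements outside `coreStab`. -/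
theorem five_of_not_core (S : Sylow 2 G) (hS : Facts (S : Subgroup G)) {h : G}
    (hh : h ∈ normCent (S : Subgroup G)) (hK : h ∉ coreStab (S : Subgroup G)) {q k : ℕ} (hq : q.Prime)
    (hk : orderOf h = q ^ k) :
    q = 5 ∧ ∀ x ∈ (S : Subgroup G), h * x * h⁻¹ = x → x ∈ omegaZ (S : Subgroup G) := by
  classical
  haveI : Fact (Nat.Prime 2) := ⟨Nat.prime_two⟩
  haveI : Fact q.Prime := ⟨hq⟩
  haveI : Fintype G := Fintype.ofFinite G
  set T := (S : Subgroup G) with hT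
  set E := omegaZ T
  have hq2 : q ≠ 2 := by
    rintro rfl
    exact hK (le_coreStab hS (sylow_two_of_mem_normalizer S hh.1 hk))
  obtain ⟨a, e, f, -, -, he, hf, he1, hf1, hef, -, -, -, hall⟩ := hG.exists_cycle S
  obtain ⟨hcard, hinv, -⟩ := hG.four_config S
  set C := T ⊓ Subgroup.centralizer ({h} : Set G) with hC
  have hCmem : ∀ x, x ∈ C ↔ x ∈ T ∧ h * x * h⁻¹ = x := fun x => by
    rw [hC, Subgroup.mem_inf, Subgroup.mem_centralizer_singleton_iff, mul_inv_eq_iff_eq_mul]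
    exact and_congr_right fun _ => eq_comm
  have hEC : E ≤ C := fun w hw => (hCmem w).2 ⟨hw.1, normCent_comm hh hw⟩
  have hm : ∀ w ∈ E, w ≠ 1 → ∃ m : ℕ, Nat.card {x : G | x ∈ T ∧ x * x = w ∧ h * x * h⁻¹ = x} = 4 * m ∧
      (m = 5 ∨ (q = 5 ∧ m = 0) ∨ (q = 3 ∧ m = 2)) := by
    intro w hw hw1
    set Y := {x : G | x ∈ T ∧ x * x = w ∧ h * x * h⁻¹ = x}
    have hY := card_invariant E Y fun y ⟨hy1, hy2, hy3⟩ c hc => ⟨mul_mem hy1 hc.1, by
      rw [show y * c * (y * c) = y * (c * y) * c by group, ← hc.2.2 y hy1,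
        show y * (y * c) * c = y * y * (c * c) by group, hc.2.1, mul_one, hy2], by
      rw [show h * (y * c) * h⁻¹ = (h * y * h⁻¹) * (h * c * h⁻¹) by group, hy3, normCent_comm hh hc]⟩
    rw [hcard] at hY
    refine ⟨_, hY, ?_⟩
    obtain ⟨hmod, -⟩ := hG.fixed_roots S hS hh hk hw hw1
    have hle : Nat.card Y ≤ 20 := by
      rw [← hG.card_roots S hS hw hw1]
      exact Nat.card_le_card_of_injective (fun x : Y => (⟨x.1, x.2.1, x.2.2.1⟩ : {x : G // x ∈ T ∧ x * x = w}))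
        fun _ _ e => Subtype.ext (congrArg Subtype.val e :)
    rw [hY] at hle
    change Nat.card Y ≡ 20 [MOD q] at hmod
    rw [hY] at hmod
    generalize Nat.card ↥((QuotientGroup.mk : G → G ⧸ E) '' Y) = m at hle hmod ⊢
    have hd : q ∣ 20 - 4 * m := (Nat.modEq_iff_dvd' hle).1 hmod
    rw [show 20 - 4 * m = 4 * (5 - m) by omega] at hd
    have hd' : q ∣ 5 - m := (hq.dvd_mul.1 hd).resolve_left fun h4 =>
      hq2 ((Nat.prime_dvd_prime_iff_eq hq Nat.prime_two).1 (hq.dvd_of_dvd_pow (show q ∣ 2 ^ 2 from h4)))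
    have h2 := hq.two_le
    rcases Nat.eq_zero_or_pos (5 - m) with h0 | h0
    · left; omega
    · have := Nat.le_of_dvd h0 hd'
      have hq5 : q ≤ 5 := by omega
      interval_cases q <;> first | omega | norm_num at hq
  obtain ⟨me, hme, hme'⟩ := hm e he he1
  obtain ⟨mf, hmf, hmf'⟩ := hm f hf hf1
  have hef1 : e * f ≠ 1 := fun h => hef (by
    rw [← inv_eq_of_mul_eq_one_right h, inv_eq_of_mul_eq_one_right he.2.1])
  obtain ⟨mg, hmg, hmg'⟩ := hm (e * f) (mul_mem he hf) hef1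
  have hCc : Nat.card ↥C = 4 + 4 * me + 4 * mf + 4 * mg := by
    rw [← hme, ← hmf, ← hmg, ← hcard]
    let A : G → Finset G := fun w => Finset.univ.filter fun x => x ∈ T ∧ x * x = w ∧ h * x * h⁻¹ = x
    have hA : ∀ w, Nat.card {x : G | x ∈ T ∧ x * x = w ∧ h * x * h⁻¹ = x} = (A w).card := fun w => by
      rw [← Nat.card_eq_finsetCard]
      exact Nat.card_congr (Equiv.subtypeEquivRight fun x => by simp [A])
    have hd : ∀ w w' : G, w ≠ w' → Disjoint (A w) (A w') := fun w w' hne =>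
      Finset.disjoint_filter.2 fun x _ h0 h1 => hne (h0.2.1.symm.trans h1.2.1)
    have hA1 : Nat.card ↥E = (A 1).card := by
      rw [← Nat.card_eq_finsetCard]
      refine Nat.card_congr (Equiv.subtypeEquivRight fun x => ?_)
      simp only [A, Finset.mem_filter, Finset.mem_univ, true_and]
      exact ⟨fun hx => ⟨hx.1, hx.2.1, ((hCmem x).1 (hEC hx)).2⟩, fun hx => hinv x hx.1 hx.2.1⟩
    rw [hA1, hA, hA, hA,
      ← Finset.card_union_of_disjoint (hd _ _ (Ne.symm he1)),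
      ← Finset.card_union_of_disjoint (Finset.disjoint_union_left.2 ⟨hd _ _ (Ne.symm hf1), hd _ _ hef⟩),
      ← Finset.card_union_of_disjoint (Finset.disjoint_union_left.2 ⟨Finset.disjoint_union_left.2
        ⟨hd _ _ hef1.symm, hd _ _ fun h' => hf1 (mul_eq_left.1 h'.symm)⟩,
        hd _ _ fun h' => he1 (mul_eq_right.1 h'.symm)⟩),
      ← Nat.card_eq_finsetCard]
    refine Nat.card_congr (Equiv.subtypeEquivRight fun x => ?_)
    simp only [A, Finset.mem_union, Finset.mem_filter, Finset.mem_univ, true_and, hCmem]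
    constructor
    · rintro ⟨hx, hxh⟩
      rcases hall _ (hS.sq x hx) with e1 | e1 | e1 | e1
      · exact Or.inl (Or.inl (Or.inl ⟨hx, e1, hxh⟩))
      · exact Or.inl (Or.inl (Or.inr ⟨hx, e1, hxh⟩))
      · exact Or.inl (Or.inr ⟨hx, e1, hxh⟩)
      · exact Or.inr ⟨hx, e1, hxh⟩
    · rintro (((h0 | h0) | h0) | h0) <;> exact ⟨h0.1, h0.2.2⟩
  have hdvd : Nat.card ↥C ∣ 2 ^ 6 :=
    (Subgroup.card_dvd_of_le (inf_le_left : C ≤ T)).trans (by rw [hS.card]; norm_num)
  obtain ⟨j, hj, hCj⟩ := (Nat.dvd_prime_pow Nat.prime_two).1 hdvd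
  have hnot : Nat.card ↥C ≠ 64 := fun h64 => hK (by
    have hCT : C = T := Subgroup.eq_of_le_of_card_ge inf_le_left (by rw [h64, hS.card])
    refine mem_coreStab.2 ⟨hh, fun x hx => ?_⟩
    rw [((hCmem x).1 (hCT.ge hx)).2, mul_inv_cancel]
    exact one_mem _)
  have hres : q = 5 ∧ Nat.card ↥C = 4 := by
    rw [hCj] at hCc hnot ⊢
    interval_cases j <;> omega
  refine ⟨hres.1, fun x hx hxh => ?_⟩
  rw [Subgroup.eq_of_le_of_card_ge hEC (by rw [hres.2, hcard])]
  exact (hCmem x).2 ⟨hx, hxh⟩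

theorem pow_five_core (S : Sylow 2 G) (hS : Facts (S : Subgroup G)) {h : G}
    (hh : h ∈ normCent (S : Subgroup G)) {k : ℕ} (hk : orderOf h = 5 ^ k) :
    h ^ 5 ∈ coreStab (S : Subgroup G) := by
  haveI : Fact (Nat.Prime 5) := ⟨by norm_num⟩
  obtain ⟨a, e, f, -, -, he, -, he1, -⟩ := hG.exists_cycle S
  by_contra hK
  obtain ⟨j, hj⟩ : ∃ j, orderOf (h ^ 5) = 5 ^ j := by
    obtain ⟨j, -, hj⟩ := (Nat.dvd_prime_pow (by norm_num : Nat.Prime 5)).1
      ((orderOf_pow_dvd 5 : orderOf (h ^ 5) ∣ orderOf h).trans hk.dvd)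
    exact ⟨j, hj⟩
  obtain ⟨-, hfix⟩ := hG.five_of_not_core S hS (pow_mem hh 5) hK (by norm_num) hj
  obtain ⟨⟨⟨x, hx, hxe⟩⟩, -⟩ := Nat.card_pos_iff.1
    (show 0 < Nat.card {x : G // x ∈ (S : Subgroup G) ∧ x * x = e} by rw [hG.card_roots S hS he he1]; norm_num)
  obtain ⟨d, hd, hd20, hdx⟩ := (hG.fixed_roots S hS hh hk he he1).2 x hx hxe
  obtain ⟨i, -, rfl⟩ := (Nat.dvd_prime_pow (by norm_num : Nat.Prime 5)).1 hd
  have hi : i ≤ 1 := by
    by_contra hi
    have : 5 ^ 2 ≤ 5 ^ i := Nat.pow_le_pow_right (by norm_num) (by omega)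
    omega
  have hxE : x ∈ omegaZ (S : Subgroup G) := hfix x hx (by
    interval_cases i
    · rw [pow_zero, pow_one] at hdx
      have hc : Commute h x := mul_inv_eq_iff_eq_mul.1 hdx
      rw [(hc.pow_left 5).eq, mul_inv_cancel_right]
    · rwa [pow_one] at hdx)
  exact he1 (hxe ▸ hxE.2.1)

theorem commutator_eq_top : commutator G = ⊤ := by
  haveI := hG.simple
  rcases IsSimpleGroup.eq_bot_or_eq_top_of_normal (commutator G) inferInstance with h | h
  · obtain ⟨x, y, hxy⟩ := hG.noncomm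
    refine absurd ?_ hxy
    have : ⁅x, y⁆ ∈ commutator G := Subgroup.commutator_mem_commutator (Subgroup.mem_top x) (Subgroup.mem_top y)
    rw [h, Subgroup.mem_bot] at this
    exact commutatorElement_eq_one_iff_mul_comm.1 this
  · exact h

/-- An element of odd order of the normaliser centralising `E` centralises `S`. -/
theorem odd_centralizes (S : Sylow 2 G) (hS : Facts (S : Subgroup G)) {h : G}
    (hh : h ∈ normCent (S : Subgroup G)) (hodd : Odd (orderOf h)) {x : G} (hx : x ∈ (S : Subgroup G)) :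
    h * x * h⁻¹ = x := by
  classical
  haveI : Fact (Nat.Prime 2) := ⟨Nat.prime_two⟩
  haveI : Fact (Nat.Prime 5) := ⟨by norm_num⟩
  set T := (S : Subgroup G) with hT
  set E := omegaZ T with hE
  set N1 := normCent T with hN1
  set K0 := coreStab T with hK0
  have hcen : ∀ g ∈ K0, Odd (orderOf g) → ∀ x ∈ T, g * x * g⁻¹ = x := fun g hg ho x hx =>
    fix_of_cosetStab ⟨(mem_coreStab.1 hg).1, (mem_coreStab.1 hg).2 x hx⟩ ho
  suffices hall : N1 ≤ K0 from hcen h (hall hh) hodd x hx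
  by_contra hne
  obtain ⟨g, hgN, ⟨k, hk⟩, hgK⟩ : ∃ g ∈ N1, (∃ k, orderOf g = 5 ^ k) ∧ g ∉ K0 := by
    by_contra hc
    push Not at hc
    refine hne (le_of_prime_powers fun q hq y hy k hk => ?_)
    by_contra hyK
    obtain ⟨rfl, -⟩ := hG.five_of_not_core S hS hy hyK hq hk
    exact hyK (hc y hy ⟨k, hk⟩)
  obtain ⟨-, hfix⟩ := hG.five_of_not_core S hS hgN hgK (by norm_num) hk
  obtain ⟨a, e, f, -, -, he, -, he1, -⟩ := hG.exists_cycle S
  obtain ⟨⟨⟨x0, hx0, hx0e⟩⟩, -⟩ := Nat.card_pos_iff.1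
    (show 0 < Nat.card {x : G // x ∈ T ∧ x * x = e} by rw [hG.card_roots S hS he he1]; norm_num)
  have hx0E : x0 ∉ E := fun h => he1 (hx0e ▸ h.2.1)
  -- the stabiliser of a coset
  have hst : ∀ y ∈ N1, y * x0 * y⁻¹ * x0⁻¹ ∈ E → y ∈ K0 := by
    intro y hy hy'
    suffices cosetStab T x0 ≤ K0 from this ⟨hy, hy'⟩
    refine le_of_prime_powers fun q hq z hz j hj => ?_
    by_contra hzK
    obtain ⟨rfl, hzfix⟩ := hG.five_of_not_core S hS hz.1 hzK hq hj
    exact hx0E (hzfix x0 hx0 (fix_of_cosetStab hz (by rw [hj]; exact (show Odd 5 by decide).pow)))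
  haveI hnorm : (K0.subgroupOf N1).Normal :=
    ⟨fun c hc b => coreStab_conj b.2.1 hc⟩
  let f : ↥N1 →* ↥N1 ⧸ K0.subgroupOf N1 := QuotientGroup.mk' _
  have hf1 : ∀ y : N1, f y = 1 ↔ (y : G) ∈ K0 := fun y => QuotientGroup.eq_one_iff y
  have hQ5 : Nat.card (↥N1 ⧸ K0.subgroupOf N1) = 5 := by
    set Y := {x : G | x ∈ T ∧ x * x = e}
    have hY := card_invariant E Y fun y ⟨hy1, hy2⟩ c hc => ⟨mul_mem hy1 hc.1, by
      rw [show y * c * (y * c) = y * (c * y) * c by group, ← hc.2.2 y hy1,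
        show y * (y * c) * c = y * y * (c * c) by group, hc.2.1, mul_one, hy2]⟩
    rw [show Nat.card Y = 20 from hG.card_roots S hS he he1, (hG.four_config S).1] at hY
    have hmem : ∀ y : N1, ((y : G) * x0 * (y : G)⁻¹) ∈ Y := fun y => ⟨(Subgroup.mem_normalizer_iff.1 y.2.1 x0).1 hx0, by
      rw [show (y : G) * x0 * (y : G)⁻¹ * ((y : G) * x0 * (y : G)⁻¹) = y * (x0 * x0) * (y : G)⁻¹ by group, hx0e,
        normCent_comm y.2 he]⟩
    let F : ↥N1 ⧸ K0.subgroupOf N1 → ↥((QuotientGroup.mk : G → G ⧸ E) '' Y) :=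
      Quotient.lift (fun y => ⟨QuotientGroup.mk ((y : G) * x0 * (y : G)⁻¹), _, hmem y, rfl⟩) fun y z hyz => by
        refine Subtype.ext (QuotientGroup.eq.2 ?_)
        obtain ⟨-, hd⟩ := mem_coreStab.1 (show (y : G)⁻¹ * z ∈ K0 from
          Subgroup.mem_subgroupOf.1 ((QuotientGroup.leftRel_apply (s := K0.subgroupOf N1)).1 hyz))
        have hd0 := omegaZ_normalizer y.2.1 (hd x0 hx0)
        set c := (y : G) * ((y : G)⁻¹ * z * x0 * ((y : G)⁻¹ * z)⁻¹ * x0⁻¹) * (y : G)⁻¹ with hc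
        have hzc : (z : G) * x0 * (z : G)⁻¹ = c * ((y : G) * x0 * (y : G)⁻¹) := by rw [hc]; group
        rw [hzc, ← hd0.2.2 _ (hmem y).1, inv_mul_cancel_left]
        exact hd0
    have hF : Function.Injective F := by
      intro y z
      induction y using QuotientGroup.induction_on with
      | H y =>
        induction z using QuotientGroup.induction_on with
        | H z =>
          intro hyz
          refine QuotientGroup.eq.2 (show (y : G)⁻¹ * z ∈ K0 from hst _ (mul_mem (inv_mem y.2) z.2) ?_)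
          have h0 := QuotientGroup.eq.1 (congrArg Subtype.val hyz)
          have h1 := omegaZ_normalizer (inv_mem y.2.1) h0
          have h2 := normCent_comm (inv_mem y.2) h0
          rw [show ((y : G)⁻¹ * z) * x0 * ((y : G)⁻¹ * z)⁻¹ * x0⁻¹ =
            x0 * ((y : G)⁻¹ * (((y : G) * x0 * (y : G)⁻¹)⁻¹ * (z * x0 * (z : G)⁻¹)) * (y : G)⁻¹⁻¹) * x0⁻¹ by group,
            h1.2.2 x0 hx0, mul_inv_cancel_right, h2]
          exact h0
    have hle := Nat.card_le_card_of_injective F hF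
    rw [show Nat.card ↥((QuotientGroup.mk : G → G ⧸ E) '' Y) = 5 by omega] at hle
    have hdvd : 5 ∣ Nat.card (↥N1 ⧸ K0.subgroupOf N1) := by
      have h5 : orderOf (f ⟨g, hgN⟩) = 5 := orderOf_eq_prime (by
        rw [← map_pow, hf1]; exact hG.pow_five_core S hS hgN hk) (by rw [Ne, hf1]; exact hgK)
      rw [← h5]; exact orderOf_dvd_natCard _
    exact le_antisymm hle (Nat.le_of_dvd Nat.card_pos hdvd)
  -- the normaliser acts trivially on the quotient
  have htriv : ∀ n ∈ Subgroup.normalizer (T : Set G), ∀ y ∈ N1, n * y * n⁻¹ * y⁻¹ ∈ K0 := by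
    intro n hn y hy
    let cn : ↥N1 → ↥N1 := fun z => ⟨n * z * n⁻¹, normCent_conj hn z.2⟩
    have hgne : f ⟨g, hgN⟩ ≠ 1 := by rw [Ne, hf1]; exact hgK
    have hgen : ∀ q : ↥N1 ⧸ K0.subgroupOf N1, ∃ i : ℤ, q = f ⟨g, hgN⟩ ^ i := fun q => by
      obtain ⟨i, hi⟩ := Subgroup.mem_zpowers_iff.1 (mem_zpowers_of_prime_card hQ5 hgne (g' := q))
      exact ⟨i, hi.symm⟩
    obtain ⟨i, hi⟩ := hgen (f (cn ⟨g, hgN⟩))
    have hker : ∀ z z' : ↥N1, f z = f z' → f (cn z) = f (cn z') := fun z z' h => by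
      have hd : z⁻¹ * z' ∈ K0.subgroupOf N1 := QuotientGroup.eq.1 h
      refine QuotientGroup.eq.2 (show (n * (z : G) * n⁻¹)⁻¹ * (n * z' * n⁻¹) ∈ K0 from ?_)
      rw [show (n * (z : G) * n⁻¹)⁻¹ * (n * z' * n⁻¹) = n * ((z : G)⁻¹ * z') * n⁻¹ by group]
      exact coreStab_conj hn hd
    have hlin : ∀ z : ↥N1, f (cn z) = f z ^ i := by
      intro z
      obtain ⟨j, hj⟩ := hgen (f z)
      rw [hker z (⟨g, hgN⟩ ^ j) (by rw [map_zpow]; exact hj), hj, zpow_comm, ← hi, ← map_zpow]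
      congr 1
      exact Subtype.ext (by
        show n * ((⟨g, hgN⟩ ^ j : ↥N1) : G) * n⁻¹ = ((cn ⟨g, hgN⟩ ^ j : ↥N1) : G)
        rw [SubgroupClass.coe_zpow, SubgroupClass.coe_zpow]
        exact conj_zpow.symm)
    have h3 : f ⟨g, hgN⟩ ^ (i * i * i) = f ⟨g, hgN⟩ := by
      have e3 : n ^ 3 ∈ N1 := ⟨pow_mem hn 3, hG.cube_centralizes S hn⟩
      have hcomm : ∀ p q : ↥N1 ⧸ K0.subgroupOf N1, p * q = q * p := fun p q => by
        obtain ⟨i, rfl⟩ := hgen p; obtain ⟨j, rfl⟩ := hgen q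
        exact zpow_mul_comm _ i j
      have h0 : f (cn (cn (cn ⟨g, hgN⟩))) = f ⟨g, hgN⟩ := by
        rw [show cn (cn (cn ⟨g, hgN⟩)) = ⟨n ^ 3, e3⟩ * ⟨g, hgN⟩ * (⟨n ^ 3, e3⟩ : ↥N1)⁻¹ from Subtype.ext (by
          show n * (n * (n * g * n⁻¹) * n⁻¹) * n⁻¹ = n ^ 3 * g * (n ^ 3)⁻¹
          rw [pow_succ, pow_two]; group), map_mul, map_mul, map_inv, hcomm _ (f ⟨g, hgN⟩), mul_inv_cancel_right]
      rwa [hlin, hlin, hlin, ← zpow_mul, ← zpow_mul, ← mul_assoc] at h0
    have h5 : orderOf (f ⟨g, hgN⟩) = 5 := by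
      refine orderOf_eq_prime ?_ hgne
      rw [← hQ5]; exact pow_card_eq_one'
    have hi1 : f ⟨g, hgN⟩ ^ i = f ⟨g, hgN⟩ ^ (1 : ℤ) := by
      rw [zpow_eq_zpow_iff_modEq, h5, ← ZMod.intCast_eq_intCast_iff, Int.cast_one]
      rw [← mul_inv_eq_one, ← zpow_sub_one, ← orderOf_dvd_iff_zpow_eq_one, h5,
        ← ZMod.intCast_eq_intCast_iff_dvd_sub] at h3
      push_cast at h3
      exact cube_eq_one _ h3
    obtain ⟨j, hj⟩ := hgen (f ⟨y, hy⟩)
    have hy' : f (cn ⟨y, hy⟩) = f ⟨y, hy⟩ := by rw [hlin, hj, zpow_comm, hi1, zpow_one]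
    have := (hf1 (cn ⟨y, hy⟩ * (⟨y, hy⟩ : ↥N1)⁻¹)).1 (by rw [map_mul, map_inv, hy', mul_inv_cancel])
    exact this
  -- a Sylow 5-subgroup
  have h5π : 5 ∈ π := by
    by_contra h5
    have hco : CoEl π g := fun q hq hd => by
      rw [hk] at hd
      exact (Nat.prime_dvd_prime_iff_eq hq (by norm_num)).1 (hq.dvd_of_dvd_pow hd) ▸ h5
    have hc := hG.hyp.coEl_centralizes (piSub_of_pGroup S.isPGroup' hG.hyp.two) hgN.1 hco
    refine hgK (mem_coreStab.2 ⟨hgN, fun z hz => ?_⟩)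
    rw [← Subgroup.mem_centralizer_iff.1 hc z hz, mul_inv_cancel_right, mul_inv_cancel]
    exact one_mem _
  obtain ⟨P, hP⟩ := exists_sylIn (p := 5) N1
  have hPK : ¬ P ≤ K0 := fun hle => hP.not_dvd (by
    have hd : 5 ∣ K0.relIndex N1 := by
      rw [Subgroup.relIndex, Subgroup.index_eq_card, hQ5]
    exact hd.trans (Subgroup.relIndex_dvd_of_le_left N1 hle))
  set L := Subgroup.normalizer (E : Set G) with hL
  have hNL : Subgroup.normalizer (T : Set G) ≤ L := fun n hn =>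
    mem_normalizer_of_cj_le (by rintro _ ⟨w, hw, rfl⟩; exact omegaZ_normalizer hn hw)
  have hLtop : L ≠ ⊤ := hG.normalizer_ne_top
    (fun h => by rw [hE, hT] at h; exact he1 (Subgroup.mem_bot.1 (h ▸ he)))
    (hG.ne_top_of_isPGroup (S.isPGroup'.to_le (omegaZ_le _)))
  have hTL : SylIn 2 T L := (sylIn_top S).mono (Subgroup.le_normalizer.trans hNL) le_top
  have hPL : SylIn 5 P L := by
    refine ⟨hP.le.trans ((normCent_le T).trans hNL), hP.isPGroup, fun hd => ?_⟩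
    rw [← Subgroup.relIndex_mul_relIndex P N1 L hP.le ((normCent_le T).trans hNL)] at hd
    rcases (Nat.Prime.dvd_mul (by norm_num)).1 hd with hd | hd
    · exact hP.not_dvd hd
    rw [← Subgroup.relIndex_mul_relIndex N1 (Subgroup.normalizer (T : Set G)) L (normCent_le T) hNL] at hd
    rcases (Nat.Prime.dvd_mul (by norm_num)).1 hd with hd | hd
    · refine not_dvd_relIndex (fun z hz ⟨j, hj⟩ => ⟨hz, ?_⟩) hd
      obtain ⟨m, hm⟩ := exists_pow_eq_self_of_coprime (x := z) (n := 3) (by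
        rw [hj]; exact Nat.Coprime.pow_right _ (by norm_num))
      exact hm ▸ pow_mem (hG.cube_centralizes S hz) m
    · refine hG.relIndex_supplement hLtop hNL (fun l hl => ?_) (by norm_num) hd h5π
      obtain ⟨c, hc, n, hn, rfl⟩ := hG.decomp hLtop hTL hl
      exact ⟨c, hc, n, hn.2, rfl⟩
  have hPne : P ≠ ⊥ := fun h => hPK (h.le.trans bot_le)
  obtain ⟨P', hP', hPP'⟩ := exists_sylIn_ge hP.isPGroup (le_top : P ≤ ⊤)
  have hPP : P' = P := by
    refine (Subgroup.eq_of_le_of_card_ge hPP' ?_).symm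
    haveI : Nontrivial ↥P := (Subgroup.nontrivial_iff_ne_bot _).2 hPne
    haveI : Nontrivial ↥P' := (Subgroup.nontrivial_iff_ne_bot _).2 fun h => hPne (bot_unique (h ▸ hPP'))
    haveI := hP.isPGroup.center_nontrivial
    haveI := hP'.isPGroup.center_nontrivial
    obtain ⟨⟨⟨y, hy⟩, hyc⟩, hy1⟩ := exists_ne (1 : Subgroup.center ↥P)
    obtain ⟨⟨⟨z, hz⟩, hzc⟩, hz1⟩ := exists_ne (1 : Subgroup.center ↥P')
    have hy1' : y ≠ 1 := fun h => hy1 (Subtype.ext (Subtype.ext h))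
    have hz1' : z ≠ 1 := fun h => hz1 (Subtype.ext (Subtype.ext h))
    have hzcomm : ∀ w ∈ P', w * z = z * w := fun w hw =>
      congrArg Subtype.val (Subgroup.mem_center_iff.1 hzc ⟨w, hw⟩)
    set Q := P ⊔ Subgroup.zpowers z
    have hQP' : Q ≤ P' := sup_le hPP' (Subgroup.zpowers_le.2 hz)
    have hQy : Q ≤ Subgroup.centralizer ({y} : Set G) := sup_le
      (fun w hw => Subgroup.mem_centralizer_singleton_iff.2
        (congrArg Subtype.val (Subgroup.mem_center_iff.1 hyc ⟨w, hw⟩)))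
      (Subgroup.zpowers_le.2 (Subgroup.mem_centralizer_singleton_iff.2 (hzcomm y (hPP' hy)).symm))
    obtain ⟨c, hc⟩ := hG.centralizer_local S hy1' (hP.le hy).2 h5π (hP'.isPGroup.to_le hQP') hQy
    have hQc := hPL.card_le (isPGroup_cj (hP'.isPGroup.to_le hQP') c) hc
    rw [card_cj] at hQc
    have hzP : z ∈ P := by
      rw [Subgroup.eq_of_le_of_card_ge (le_sup_left : P ≤ Q) hQc]
      exact (le_sup_right : _ ≤ Q) (Subgroup.mem_zpowers z)
    obtain ⟨c', hc'⟩ := hG.centralizer_local S hz1' (hP.le hzP).2 h5π hP'.isPGroup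
      fun w hw => Subgroup.mem_centralizer_singleton_iff.2 (hzcomm w hw)
    have := hPL.card_le (isPGroup_cj hP'.isPGroup c') hc'
    rwa [card_cj] at this
  rw [hPP] at hP'
  -- fusion in it
  have hfoc : focalIn P ⊤ ≤ K0 := by
    refine (Subgroup.closure_le _).2 ?_
    rintro _ ⟨y, hy, d, -, hdy, rfl⟩
    set y' := d * y * d⁻¹ with hy'
    by_cases hy1 : y' = 1
    · show y⁻¹ * y' ∈ K0
      rw [hy1, conj_eq_one_iff.1 hy1]
      simp
    have hyN := hP.le hy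
    have hy'N := hP.le hdy
    set C := Subgroup.centralizer ({y'} : Set G)
    have hEC : E ≤ C := fun w hw =>
      Subgroup.mem_centralizer_singleton_iff.2 (Subgroup.mem_centralizer_iff.1 hy'N.2 w hw)
    have hEC' : cj E d ≤ C := by
      rintro _ ⟨w, hw, rfl⟩
      refine Subgroup.mem_centralizer_singleton_iff.2 ?_
      show d * w * d⁻¹ * y' = y' * (d * w * d⁻¹)
      calc d * w * d⁻¹ * y' = d * (w * y) * d⁻¹ := by rw [hy']; group
        _ = d * (y * w) * d⁻¹ := by rw [Subgroup.mem_centralizer_iff.1 hyN.2 w hw]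
        _ = _ := by rw [hy']; group
    have hE2 : IsPGroup 2 ↥E := S.isPGroup'.to_le (omegaZ_le _)
    obtain ⟨R, hR, hER⟩ := exists_sylIn_ge hE2 hEC
    obtain ⟨c, hc, hcR⟩ := hR.conj_le (isPGroup_cj hE2 d) hEC'
    have hn0 : c * d ∈ L := mem_normalizer_of_cj_le (by
      rintro _ ⟨w, hw, rfl⟩
      refine hG.involution_mem S hR.isPGroup hER ?_ ?_
      · have := hcR (conj_mem_cj (g := c) (conj_mem_cj (g := d) hw))
        show c * d * w * (c * d)⁻¹ ∈ R
        convert this using 1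
        group
      · show c * d * w * (c * d)⁻¹ * (c * d * w * (c * d)⁻¹) = 1
        rw [show c * d * w * (c * d)⁻¹ * (c * d * w * (c * d)⁻¹) = c * d * (w * w) * (c * d)⁻¹ by group, hw.2.1,
          mul_one, mul_inv_cancel])
    have hcy : c * d * y * (c * d)⁻¹ = y' := by
      calc c * d * y * (c * d)⁻¹ = c * y' * c⁻¹ := by rw [hy']; group
        _ = y' := by rw [Subgroup.mem_centralizer_singleton_iff.1 hc, mul_inv_cancel_right]
    obtain ⟨r, hr, n, hn, hrn⟩ := hG.decomp hLtop hTL hn0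
    set w := n * y * n⁻¹ with hw
    have hwN : w ∈ N1 := normCent_conj hn.2 hyN
    have hy'w : y' = r * w * r⁻¹ := by rw [← hcy, hrn, hw]; group
    have hd1 : y' * w⁻¹ ∈ piCore π L := by
      rw [hy'w, show r * w * r⁻¹ * w⁻¹ = r * (w * r⁻¹ * w⁻¹) by group]
      exact mul_mem hr ((Subgroup.mem_normalizer_iff.1 (le_normalizer_piCore L
        (hNL hwN.1)) _).1 (inv_mem hr))
    have hd2 : y' * w⁻¹ ∈ K0 := by
      refine mem_coreStab.2 ⟨mul_mem hy'N (inv_mem hwN), fun z hz => ?_⟩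
      have hc := hG.hyp.coEl_centralizes (piSub_of_pGroup S.isPGroup' hG.hyp.two)
        (mul_mem hy'N (inv_mem hwN)).1 ((hG.mem_piCore hLtop).1 hd1).2
      rw [← Subgroup.mem_centralizer_iff.1 hc z hz, mul_inv_cancel_right, mul_inv_cancel]
      exact one_mem _
    have hd3 := htriv n hn.2 y hyN
    have h4 : y⁻¹ * (y' * y⁻¹) * y⁻¹⁻¹ ∈ K0 := coreStab_conj (inv_mem hyN.1) (by
      rw [show y' * y⁻¹ = y' * w⁻¹ * (n * y * n⁻¹ * y⁻¹) by rw [hw]; group]
      exact mul_mem hd2 hd3)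
    rwa [show y⁻¹ * (y' * y⁻¹) * y⁻¹⁻¹ = y⁻¹ * y' by group] at h4
  refine hPK fun y hy => hfoc ?_
  rw [← inf_commutator_eq_focalIn_top hP', hG.commutator_eq_top, inf_top_eq]
  exact hy

end Minimal

end Cfsg.Agent.PiClosed
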