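import Cfsg.Agent.Lib.Fusion.PiClosed.UnitaryFive
import Cfsg.Agent.Lib.Fusion.NPC
import Cfsg.Agent.Lib.Char.DihedralSection

/-!
# Fusion and centralisers for the unitary type
-/

set_option autoImplicit false
set_option linter.style.haveILetI false

open Cfsg.Agent.Fusion

namespace Cfsg.Agent.PiClosed

universe u

variable {G : Type u} [Group G] [Finite G] {π : Set ℕ}

/-- The coset space of `E` in `S` with the action of the element cycling `E`. -/
structure Model (T : Subgroup G) (a : G) where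
  th : ↥T → (Fin 4 → ZMod 2)
  sec : (Fin 4 → ZMod 2) → ↥T
  A : (Fin 4 → ZMod 2) →+ (Fin 4 → ZMod 2)
  th_mul : ∀ x y, th (x * y) = th x + th y
  th_sec : ∀ v, th (sec v) = v
  th_eq : ∀ x, th x = 0 ↔ (x : G) ∈ omegaZ T
  cube : ∀ v, A (A (A v)) = v
  free : ∀ v, A v = v → v = 0
  conj_iff : ∀ x y : ↥T, th x ≠ 0 →
    (IsConj (x : G) (y : G) ↔ th y = th x ∨ th y = A (th x) ∨ th y = A (A (th x)))

theorem pow_of_mul_odd {x y : G} (hc : Commute x y) (hx : Odd (orderOf x)) (hy : Odd (orderOf y)) :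
    Odd (orderOf (x * y)) :=
  (hx.mul hy).of_dvd_nat hc.orderOf_mul_dvd_mul_orderOf

/-- The model of `S/E`, from a cycle and the local action. -/
theorem exists_model_of (S : Sylow 2 G) (hS : Facts (S : Subgroup G))
    (hinvol : ∀ x ∈ (S : Subgroup G), x * x = 1 → x ∈ omegaZ (S : Subgroup G))
    {a e f : G} (haN : a ∈ Subgroup.normalizer ((S : Subgroup G) : Set G))
    (he : e ∈ omegaZ (S : Subgroup G)) (hf : f ∈ omegaZ (S : Subgroup G)) (he1 : e ≠ 1) (hf1 : f ≠ 1) (hef : e ≠ f)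
    (h1 : a * e * a⁻¹ = f) (h2 : a * f * a⁻¹ = e * f) (h3 : a * (e * f) * a⁻¹ = e)
    (hall : ∀ x ∈ omegaZ (S : Subgroup G), x = 1 ∨ x = e ∨ x = f ∨ x = e * f)
    (hact : ∀ n ∈ Subgroup.normalizer ((S : Subgroup G) : Set G), n * e * n⁻¹ = e →
      ∃ s ∈ (S : Subgroup G), ∀ x ∈ (S : Subgroup G), n * x * n⁻¹ = s * x * s⁻¹)
    (hfus : ∀ x ∈ (S : Subgroup G), x ∉ omegaZ (S : Subgroup G) → ∀ g : G, g * x * g⁻¹ ∈ (S : Subgroup G) →
      ∃ n ∈ Subgroup.normalizer ((S : Subgroup G) : Set G), g * x * g⁻¹ = n * x * n⁻¹) :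
    ∃ a e f : G, ∃ _ : Model (S : Subgroup G) a, e ∈ omegaZ (S : Subgroup G) ∧ f ∈ omegaZ (S : Subgroup G) ∧
      e ≠ 1 ∧ f ≠ 1 ∧ e ≠ f ∧ a * e * a⁻¹ = f ∧ a * f * a⁻¹ = e * f ∧ a * (e * f) * a⁻¹ = e ∧
      ∀ x ∈ omegaZ (S : Subgroup G), x = 1 ∨ x = e ∨ x = f ∨ x = e * f := by
  classical
  set T := (S : Subgroup G)
  obtain ⟨θ, hθs, hθ⟩ := hS.planes
  set E := omegaZ T
  let th : ↥T → (Fin 4 → ZMod 2) := fun x => Multiplicative.toAdd (θ x)
  have thm : ∀ x y, th (x * y) = th x + th y := fun x y => by simp [th]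
  have th0 : ∀ x, th x = 0 ↔ (x : G) ∈ E := fun x => by
    rw [← hθ]
    exact ⟨fun h => Multiplicative.toAdd.injective (h.trans toAdd_one.symm), fun h => by
      show Multiplicative.toAdd (θ x) = 0
      rw [h]; rfl⟩
  have theq : ∀ x y : ↥T, th x = th y ↔ (x : G)⁻¹ * y ∈ E := fun x y => by
    rw [← Subgroup.coe_inv, ← Subgroup.coe_mul, ← th0]
    constructor
    · intro h; simp [th, map_mul, map_inv] at h ⊢; rw [h]; exact neg_add_cancel _
    · intro h; simp [th, map_mul, map_inv] at h ⊢; exact (neg_add_eq_zero (a := Multiplicative.toAdd (θ x))).1 h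
  choose sec hsec using fun v => hθs (Multiplicative.ofAdd v)
  have ths : ∀ v, th (sec v) = v := fun v => by simp [th, hsec]
  let cn : ↥T →* ↥T :=
    { toFun := fun x => ⟨a * x * a⁻¹, (Subgroup.mem_normalizer_iff.1 haN _).1 x.2⟩
      map_one' := Subtype.ext (by simp)
      map_mul' := fun x y => Subtype.ext (by simp [mul_assoc]) }
  have hcn : ∀ x : ↥T, ((cn x : ↥T) : G) = a * x * a⁻¹ := fun x => rfl
  have hwd : ∀ x y, th x = th y → th (cn x) = th (cn y) := fun x y h => by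
    rw [theq] at h ⊢
    have := omegaZ_normalizer haN h
    rw [hcn, hcn]
    convert this using 1
    group
  let A : (Fin 4 → ZMod 2) →+ (Fin 4 → ZMod 2) := AddMonoidHom.mk' (fun v => th (cn (sec v))) fun v w => by
    show th (cn (sec (v + w))) = th (cn (sec v)) + th (cn (sec w))
    rw [← thm, ← map_mul]
    exact hwd _ _ (by rw [thm, ths, ths, ths])
  have hA : ∀ x, A (th x) = th (cn x) := fun x => hwd _ _ (ths _)
  have hA2 : ∀ x, A (A (th x)) = th (cn (cn x)) := fun x => by rw [hA, hA]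
  have hcn2 : ∀ x : ↥T, ((cn (cn x) : ↥T) : G) = a * a * x * (a * a)⁻¹ := fun x => by
    rw [hcn, hcn]; group
  -- inner elements do not move cosets
  have hinner : ∀ {n : G}, n ∈ Subgroup.normalizer (T : Set G) → n * e * n⁻¹ = e →
      ∀ (x y : ↥T), (y : G) = n * x * n⁻¹ → th y = th x := by
    intro n hn hne x y hy
    obtain ⟨s, hs, hact⟩ := hact n hn hne
    rw [show y = ⟨s, hs⟩ * x * (⟨s, hs⟩ : ↥T)⁻¹ from Subtype.ext (by
      rw [hy, hact _ x.2]; rfl)]
    simp only [th, map_mul, map_inv, toAdd_mul, toAdd_inv]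
    abel
  have hfree : ∀ v, A v = v → v = 0 := by
    intro v hv
    by_contra hne
    have hxE : ((sec v : ↥T) : G) ∉ E := fun h => hne (by rw [← ths v]; exact (th0 _).2 h)
    have h0 : th (sec v) = th (cn (sec v)) := by rw [← hA, ths, hv]
    rw [theq, hcn] at h0
    set x := ((sec v : ↥T) : G) with hx
    set c := x⁻¹ * (a * x * a⁻¹) with hc
    have hax : a * x * a⁻¹ = x * c := by rw [hc]; group
    have hfix : a * (x * x) * a⁻¹ = x * x := by
      calc a * (x * x) * a⁻¹ = (a * x * a⁻¹) * (a * x * a⁻¹) := by group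
        _ = x * (c * x) * c := by rw [hax]; group
        _ = x * x * (c * c) := by rw [← h0.2.2 x (sec v).2]; group
        _ = _ := by rw [h0.2.1, mul_one]
    rcases hall _ (hS.sq x (sec v).2) with h | h | h | h
    · exact hxE (hinvol x (sec v).2 h)
    · rw [h, h1] at hfix; exact hef hfix.symm
    · rw [h, h2] at hfix; exact he1 (mul_eq_right.1 hfix)
    · rw [h, h3] at hfix; exact hf1 (mul_eq_left.1 hfix.symm)
  refine ⟨a, e, f, ⟨th, sec, A, thm, ths, th0, fun v => ?_, hfree, fun x y hx => ⟨fun hc => ?_, fun h => ?_⟩⟩,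
    he, hf, he1, hf1, hef, h1, h2, h3, hall⟩
  · rw [← ths v, hA, hA, hA]
    exact hinner (mul_mem (mul_mem haN haN) haN) (by
      rw [show a * a * a * e * (a * a * a)⁻¹ = a * (a * (a * e * a⁻¹) * a⁻¹) * a⁻¹ by group, h1, h2, h3])
      (sec v) _ (by rw [hcn, hcn, hcn]; group)
  · obtain ⟨g, hg⟩ := isConj_iff.1 hc
    obtain ⟨n, hn, hnx⟩ := hfus x x.2 (fun h => hx ((th0 x).2 h)) g (by rw [hg]; exact y.2)
    have hy : (y : G) = n * x * n⁻¹ := by rw [← hg]; exact hnx
    rcases hall _ (omegaZ_normalizer hn he) with h | h | h | h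
    · exact absurd (conj_eq_one_iff.1 h) he1
    · exact Or.inl (hinner hn h x y hy)
    · refine Or.inr (Or.inl ?_)
      rw [hA]
      have hm : a⁻¹ * n ∈ Subgroup.normalizer (T : Set G) := mul_mem (inv_mem haN) hn
      have hme : a⁻¹ * n * e * (a⁻¹ * n)⁻¹ = e := by
        rw [show a⁻¹ * n * e * (a⁻¹ * n)⁻¹ = a⁻¹ * (n * e * n⁻¹) * a by group, h, ← h1]; group
      set y' : ↥T := ⟨a⁻¹ * n * x * (a⁻¹ * n)⁻¹, (Subgroup.mem_normalizer_iff.1 hm _).1 x.2⟩
      have hd : th y' = th x := hinner hm hme x y' rfl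
      rw [← hwd _ _ hd]
      congr 1
      exact Subtype.ext (by
        rw [hcn, hy]
        show n * (x : G) * n⁻¹ = a * (a⁻¹ * n * x * (a⁻¹ * n)⁻¹) * a⁻¹
        group)
    · refine Or.inr (Or.inr ?_)
      rw [hA2]
      have hm : (a * a)⁻¹ * n ∈ Subgroup.normalizer (T : Set G) := mul_mem (inv_mem (mul_mem haN haN)) hn
      have hme : (a * a)⁻¹ * n * e * ((a * a)⁻¹ * n)⁻¹ = e := by
        rw [show (a * a)⁻¹ * n * e * ((a * a)⁻¹ * n)⁻¹ = (a * a)⁻¹ * (n * e * n⁻¹) * (a * a) by simp [mul_assoc], h,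
          show e * f = a * (a * e * a⁻¹) * a⁻¹ by rw [h1, h2]]
        simp [mul_assoc]
      set y' : ↥T := ⟨(a * a)⁻¹ * n * x * ((a * a)⁻¹ * n)⁻¹, (Subgroup.mem_normalizer_iff.1 hm _).1 x.2⟩
      have hd : th y' = th x := hinner hm hme x y' rfl
      rw [← hwd _ _ (hwd _ _ hd)]
      congr 1
      exact Subtype.ext (by
        rw [hcn2, hy]
        show n * (x : G) * n⁻¹ = a * a * ((a * a)⁻¹ * n * x * ((a * a)⁻¹ * n)⁻¹) * (a * a)⁻¹
        simp [mul_assoc])
  · have key : ∀ z : ↥T, th z ≠ 0 → th y = th z → IsConj (z : G) (y : G) := by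
      intro z hz hzy
      have hc : (z : G)⁻¹ * y ∈ E := (theq z y).1 hzy.symm
      obtain ⟨s, -, hs⟩ := hS.shift z z.2 (fun h => hz ((th0 z).2 h)) _ hc
      exact isConj_iff.2 ⟨s, by rw [hs, mul_inv_cancel_left]⟩
    rcases h with h | h | h
    · exact key x hx h
    · rw [hA] at h
      have hz : th (cn x) ≠ 0 := fun h0 => hx (by
        rw [th0] at h0 ⊢
        have := omegaZ_normalizer (inv_mem haN) h0
        rw [hcn] at this
        simpa [mul_assoc] using this)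
      exact (isConj_iff.2 ⟨a, (hcn x).symm⟩).trans (key _ hz h)
    · rw [hA2] at h
      have hz : th (cn (cn x)) ≠ 0 := fun h0 => hx (by
        rw [th0] at h0 ⊢
        have := omegaZ_normalizer (inv_mem (mul_mem haN haN)) h0
        rw [hcn2] at this
        simpa [mul_assoc] using this)
      exact (isConj_iff.2 ⟨a * a, (hcn2 x).symm⟩).trans (key _ hz h)

namespace Minimal

variable (hG : Minimal π G)
include hG

/-- An element of the normaliser fixing one involution of `E` acts on `S` as an element of `S`. -/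
theorem acts_inner (S : Sylow 2 G) (hS : Facts (S : Subgroup G)) {e : G} (he : e ∈ omegaZ (S : Subgroup G))
    (he1 : e ≠ 1) {n : G} (hn : n ∈ Subgroup.normalizer ((S : Subgroup G) : Set G)) (hne : n * e * n⁻¹ = e) :
    ∃ s ∈ (S : Subgroup G), ∃ y, Odd (orderOf y) ∧ Commute s y ∧ n = s * y ∧
      ∀ x ∈ (S : Subgroup G), n * x * n⁻¹ = s * x * s⁻¹ := by
  classical
  haveI : Fact (Nat.Prime 2) := ⟨Nat.prime_two⟩
  obtain ⟨-, e0, f0, -, -, he0, hf0, -, -, -, -, -, -, hall⟩ := hG.exists_cycle S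
  obtain ⟨s, y, hsy, hc, ⟨k, hk⟩, hy⟩ := Char.exists_isPPart Nat.prime_two n
  have hs : s ∈ Subgroup.zpowers n := by
    have h1 := Char.preg_mem_zpowers Nat.prime_two n (Subgroup.mem_zpowers n)
    rw [Char.preg_eq Nat.prime_two (⟨y, hsy, hc, ⟨k, hk⟩, hy⟩ : Cfsg.IsPPart 2 n s)] at h1
    have := mul_mem (Subgroup.mem_zpowers n) (inv_mem h1)
    simpa using this
  have hsN : s ∈ Subgroup.normalizer ((S : Subgroup G) : Set G) := (Subgroup.zpowers_le.2 hn) hs
  have hyN : y ∈ Subgroup.normalizer ((S : Subgroup G) : Set G) := by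
    rw [show y = s⁻¹ * n by rw [← hsy]; group]; exact mul_mem (inv_mem hsN) hn
  have hsS := sylow_two_of_mem_normalizer S hsN hk
  have hodd : Odd (orderOf y) := Nat.not_even_iff_odd.1 fun h => hy (even_iff_two_dvd.1 h)
  set E := omegaZ (S : Subgroup G)
  have hye : y * e * y⁻¹ = e := by
    have h1 : y * e * y⁻¹ ∈ E := omegaZ_normalizer hyN he
    rw [← hsy, show s * y * e * (s * y)⁻¹ = s * (y * e * y⁻¹) * s⁻¹ by group, h1.2.2 s hsS,
      mul_inv_cancel_right] at hne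
    exact hne
  have hyc : y ∈ normCent (S : Subgroup G) := by
    refine ⟨hyN, Subgroup.mem_centralizer_iff.2 fun w hw => ?_⟩
    by_contra hne'
    have hwe : y * w * y⁻¹ ≠ w := fun h => hne' (mul_inv_eq_iff_eq_mul.1 h).symm
    have hw1 : w ≠ 1 := fun h => hwe (by simp [h])
    have hew : w ≠ e := fun h => hwe (by rw [h, hye])
    set v := y * w * y⁻¹ with hv
    have hvE : v ∈ E := omegaZ_normalizer hyN hw
    have hve : v ≠ e := fun h => hew (mul_left_cancel (mul_right_cancel (h.trans hye.symm)))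
    have hv1 : v ≠ 1 := fun h => hw1 (conj_eq_one_iff.1 h)
    have h3 := hG.cube_centralizes S hyN
    have h3w : y * (y * (y * w * y⁻¹) * y⁻¹) * y⁻¹ = w := by
      calc y * (y * (y * w * y⁻¹) * y⁻¹) * y⁻¹ = y ^ 3 * w * (y ^ 3)⁻¹ := by rw [pow_succ, pow_two]; group
        _ = w := by rw [← Subgroup.mem_centralizer_iff.1 h3 w hw, mul_inv_cancel_right]
    -- the only possible image of `v` is `w`
    have hcard := (hG.four_config S).1
    have h4 : ∀ t ∈ E, t = 1 ∨ t = e ∨ t = w ∨ t = v := by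
      intro t ht
      by_contra hcon
      push Not at hcon
      let u : Fin 5 → E := ![1, ⟨e, he⟩, ⟨w, hw⟩, ⟨v, hvE⟩, ⟨t, ht⟩]
      have hu : Function.Injective u := by
        intro i j h
        fin_cases i <;> fin_cases j <;>
          first
            | rfl
            | (exfalso; simp [u, Subtype.ext_iff, he1, hw1, hv1, hew, hve, hwe, hcon.1, hcon.2.1, hcon.2.2.1,
                hcon.2.2.2, Ne.symm he1, Ne.symm hw1, Ne.symm hv1, Ne.symm hew, Ne.symm hve, Ne.symm hwe,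
                Ne.symm hcon.1, Ne.symm hcon.2.1, Ne.symm hcon.2.2.1, Ne.symm hcon.2.2.2] at h)
      have := Nat.card_le_card_of_injective u hu
      rw [Nat.card_fin, hcard] at this
      omega
    rcases h4 (y * v * y⁻¹) (omegaZ_normalizer hyN hvE) with h | h | h | h
    · exact hv1 (conj_eq_one_iff.1 h)
    · exact hve (mul_left_cancel (mul_right_cancel (h.trans hye.symm)))
    · exact no_swap hodd (Ne.symm hwe) hv.symm h
    · exact hwe (mul_left_cancel (mul_right_cancel h))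
  refine ⟨s, hsS, y, hodd, hc, hsy.symm, fun x hx => ?_⟩
  rw [← hsy, show s * y * x * (s * y)⁻¹ = s * (y * x * y⁻¹) * s⁻¹ by group, hG.odd_centralizes S hS hyc hodd hx]

theorem sylIn_centralizer_e (S : Sylow 2 G) {e : G} (he : e ∈ omegaZ (S : Subgroup G)) :
    SylIn 2 (S : Subgroup G) (Subgroup.centralizer ({e} : Set G)) :=
  (sylIn_top S).mono (le_centralizer_omegaZ he) le_top

/-- Fusion in the centraliser of an involution of `E`. -/
theorem fusion_local (S : Sylow 2 G) (hS : Facts (S : Subgroup G)) {e : G} (he : e ∈ omegaZ (S : Subgroup G))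
    (he1 : e ≠ 1) {x g : G} (hx : x ∈ (S : Subgroup G)) (hg : g ∈ Subgroup.centralizer ({e} : Set G))
    (hgx : g * x * g⁻¹ ∈ (S : Subgroup G)) : ∃ s ∈ (S : Subgroup G), s * x * s⁻¹ = g * x * g⁻¹ := by
  haveI : Fact (Nat.Prime 2) := ⟨Nat.prime_two⟩
  have hC := hG.centralizer_ne_top he1
  obtain ⟨k, hk, n, hn, rfl⟩ := hG.decomp hC (hG.sylIn_centralizer_e S he) hg
  obtain ⟨s, hs, -, -, -, -, hact⟩ := hG.acts_inner S hS he he1 hn.2
    (by rw [Subgroup.mem_centralizer_singleton_iff.1 hn.1, mul_inv_cancel_right])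
  refine ⟨s, hs, ?_⟩
  rw [← hact x hx]
  have hy : n * x * n⁻¹ ∈ (S : Subgroup G) := (Subgroup.mem_normalizer_iff.1 hn.2 x).1 hx
  have hdisj : (S : Subgroup G) ⊓ piCore π (Subgroup.centralizer ({e} : Set G)) = ⊥ := by
    refine Subgroup.inf_eq_bot_of_coprime ?_
    obtain ⟨j, hj⟩ := IsPGroup.iff_card.1 S.isPGroup'
    rw [hj]
    exact (Nat.coprime_two_left.2 (hG.piCore_odd hC)).pow_left _
  have hgx' : k * (n * x * n⁻¹) * k⁻¹ ∈ (S : Subgroup G) := by
    convert hgx using 1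
    group
  rw [← eq_of_conj_by_core hdisj hy hk (le_normalizer_piCore _ ((hG.sylIn_centralizer_e S he).le hy)) hgx']
  group

theorem hnpc_e (S : Sylow 2 G) (hS : Facts (S : Subgroup G)) {e : G} (he : e ∈ omegaZ (S : Subgroup G))
    (he1 : e ≠ 1) : Cfsg.HasNormalPComplement 2 ↥(Subgroup.centralizer ({e} : Set G)) := by
  haveI : Fact (Nat.Prime 2) := ⟨Nat.prime_two⟩
  set C := Subgroup.centralizer ({e} : Set G) with hC
  have hT := hG.sylIn_centralizer_e S he
  obtain ⟨P, hP⟩ := hT.exists_sylow_subgroupOf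
  refine hnpc_of_fusion_controlled (sylIn_top P) fun x hx g hgx => ?_
  rw [hP, Subgroup.mem_subgroupOf] at hx hgx
  obtain ⟨s, hs, hse⟩ := hG.fusion_local S hS he he1 hx g.2 (by simpa using hgx)
  exact ⟨⟨s, hT.le hs⟩, by rw [hP, Subgroup.mem_subgroupOf]; exact hs, Subtype.ext (by simpa using hse)⟩

theorem hnpc_elt (S : Sylow 2 G) (hS : Facts (S : Subgroup G)) {x : G} (hx : x ∈ (S : Subgroup G)) (hx1 : x ≠ 1) :
    Cfsg.HasNormalPComplement 2 ↥(Subgroup.centralizer ({x} : Set G)) := by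
  by_cases h : x ∈ omegaZ (S : Subgroup G)
  · exact hG.hnpc_e S hS h hx1
  · have hxx : x * x ≠ 1 := fun h2 => h ((hG.four_config S).2.1 x hx h2)
    have hle : Subgroup.centralizer ({x} : Set G) ≤ Subgroup.centralizer ({x * x} : Set G) := fun g hg => by
      have h := Subgroup.mem_centralizer_singleton_iff.1 hg
      exact Subgroup.mem_centralizer_singleton_iff.2 (by rw [← mul_assoc, h, mul_assoc, h, mul_assoc])
    exact hnpc_of_injective (Subgroup.inclusion hle) (Subgroup.inclusion_injective _)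
      (hG.hnpc_e S hS (hS.sq x hx) hxx)

theorem sylIn_centralizer (S : Sylow 2 G) {x : G} (hx : x ∈ (S : Subgroup G)) :
    SylIn 2 ((S : Subgroup G) ⊓ Subgroup.centralizer ({x} : Set G)) (Subgroup.centralizer ({x} : Set G)) := by
  haveI : Fact (Nat.Prime 2) := ⟨Nat.prime_two⟩
  set T := (S : Subgroup G)
  set C := Subgroup.centralizer ({x} : Set G)
  obtain ⟨R, hR, hTR⟩ := exists_sylIn_ge (S.isPGroup'.to_inf_left (K := C)) (inf_le_right (a := T))
  obtain ⟨g, -, hg⟩ := (sylIn_top S).conj_le hR.isPGroup le_top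
  have hxR : x ∈ R := hTR ⟨hx, Subgroup.mem_centralizer_singleton_iff.2 rfl⟩
  obtain ⟨n, hn, hnx⟩ := hG.fusion S (A := {x}) (Set.singleton_subset_iff.2 hx) (g := g)
    (fun a ha => by rw [Set.mem_singleton_iff.1 ha]; exact hg (conj_mem_cj hxR))
  have heq : (T ⊓ C : Subgroup G) = R := by
    refine Subgroup.eq_of_le_of_card_ge hTR ?_
    rw [← card_cj R (n⁻¹ * g)]
    refine Subgroup.card_le_of_le (le_inf ?_ ?_)
    · rw [← cj_cj]; exact (cj_mono hg _).trans (cj_eq_self (inv_mem hn)).le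
    · rintro _ ⟨r, hr, rfl⟩
      refine Subgroup.mem_centralizer_singleton_iff.2 ?_
      have hc : (n⁻¹ * g) * x * (n⁻¹ * g)⁻¹ = x := by
        calc (n⁻¹ * g) * x * (n⁻¹ * g)⁻¹ = n⁻¹ * (g * x * g⁻¹) * n := by group
          _ = x := by rw [hnx x rfl]; group
      show n⁻¹ * g * r * (n⁻¹ * g)⁻¹ * x = x * (n⁻¹ * g * r * (n⁻¹ * g)⁻¹)
      nth_rewrite 1 [← hc]
      nth_rewrite 2 [← hc]
      calc n⁻¹ * g * r * (n⁻¹ * g)⁻¹ * (n⁻¹ * g * x * (n⁻¹ * g)⁻¹) = n⁻¹ * g * (r * x) * (n⁻¹ * g)⁻¹ := by group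
        _ = n⁻¹ * g * (x * r) * (n⁻¹ * g)⁻¹ := by
          rw [Subgroup.mem_centralizer_singleton_iff.1 (hR.le hr)]
        _ = _ := by group
  rwa [heq]

theorem card_centralizer (S : Sylow 2 G) (hS : Facts (S : Subgroup G)) {x : G} (hx : x ∈ (S : Subgroup G))
    (hxE : x ∉ omegaZ (S : Subgroup G)) :
    Nat.card ↥((S : Subgroup G) ⊓ Subgroup.centralizer ({x} : Set G)) = 16 := by
  set T := (S : Subgroup G)
  set E := omegaZ T
  obtain ⟨θ, -, hθ⟩ := hS.planes
  have hcls : ∀ i, (∃ c ∈ E, x * c = i) ↔ ∃ h ∈ T, h * x * h⁻¹ = i := by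
    intro i
    constructor
    · rintro ⟨c, hc, rfl⟩; exact hS.shift x hx hxE c hc
    · rintro ⟨h, hh, rfl⟩
      refine ⟨x⁻¹ * (h * x * h⁻¹), ?_, by group⟩
      have := (hθ ((⟨x, hx⟩ : ↥T)⁻¹ * (⟨h, hh⟩ * ⟨x, hx⟩ * (⟨h, hh⟩ : ↥T)⁻¹))).1 (by
        rw [map_mul, map_mul, map_mul, map_inv, map_inv, mul_comm (θ ⟨h, hh⟩), mul_inv_cancel_right, inv_mul_cancel])
      simpa using this
  have h4 := card_class_eq (H := T) (t := x) (P := fun i => ∃ c ∈ E, x * c = i) hcls
  have hE : Nat.card {i : G // ∃ c ∈ E, x * c = i} = 4 := by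
    rw [← (hG.four_config S).1]
    refine (Nat.card_congr (Equiv.ofBijective (fun c : E => (⟨x * c, c, c.2, rfl⟩ : {i : G // ∃ c ∈ E, x * c = i}))
      ⟨fun c d h => Subtype.ext (mul_left_cancel (congrArg Subtype.val h)), fun ⟨i, c, hc, he⟩ =>
        ⟨⟨c, hc⟩, Subtype.ext he⟩⟩)).symm
  rw [hE] at h4
  have h1 := Subgroup.relIndex_mul_relIndex (⊥ : Subgroup G) (T ⊓ Subgroup.centralizer ({x} : Set G)) T bot_le
    inf_le_left
  rw [Subgroup.relIndex_bot_left, Subgroup.relIndex_bot_left, hS.card, inf_comm, Subgroup.inf_relIndex_right, ← h4] at h1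
  rw [inf_comm]
  omega

/-- An element of order four is not inverted by an involution. -/
theorem no_inverted_four (S : Sylow 2 G) (hS : Facts (S : Subgroup G)) {x : G} (hx : x ∈ (S : Subgroup G))
    (hxE : x ∉ omegaZ (S : Subgroup G)) {t : G} (ht : t * t = 1) (hinv : t * x * t⁻¹ = x⁻¹) : False := by
  haveI : Fact (Nat.Prime 2) := ⟨Nat.prime_two⟩
  set E := omegaZ (S : Subgroup G)
  have hinvol := (hG.four_config S).2.1
  have he : x * x ∈ E := hS.sq x hx
  have he1 : x * x ≠ 1 := fun h => hxE (hinvol x hx h)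
  set C := Subgroup.centralizer ({x * x} : Set G)
  have htC : t ∈ C := by
    refine Subgroup.mem_centralizer_singleton_iff.2 ?_
    calc t * (x * x) = (t * x * t⁻¹) * (t * x * t⁻¹) * t := by group
      _ = (x * x)⁻¹ * t := by rw [hinv, mul_inv_rev]
      _ = x * x * t := by rw [inv_eq_of_mul_eq_one_right he.2.1]
  have hC := hG.centralizer_ne_top he1
  obtain ⟨k, hk, n, hn, htkn⟩ := hG.decomp hC (hG.sylIn_centralizer_e S he) htC
  obtain ⟨s, hs, y, hy, hsy, hnsy, hact⟩ := hG.acts_inner S hS he he1 hn.2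
    (by rw [Subgroup.mem_centralizer_singleton_iff.1 hn.1, mul_inv_cancel_right])
  have hnn : n * n ∈ piCore π C := by
    have h0 : k * (n * k * n⁻¹) * (n * n) = 1 := by
      rw [← ht, htkn]; group
    rw [← inv_eq_of_mul_eq_one_right h0]
    exact inv_mem (mul_mem hk ((Subgroup.mem_normalizer_iff.1 (le_normalizer_piCore _ hn.1) k).1 hk))
  have hnodd : Odd (orderOf (n * n)) := (hG.piCore_odd hC).of_dvd_nat (Subgroup.orderOf_dvd_natCard _ hnn)
  have hss : s * s = 1 := by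
    have hcy : Commute (s * s) (y * y) := (hsy.mul_left hsy).mul_right (hsy.mul_left hsy)
    have hnn' : n * n = s * s * (y * y) := by
      rw [hnsy, show s * y * (s * y) = s * (y * s) * y by group, ← hsy.eq]; group
    have hc : Commute (n * n) (y * y)⁻¹ := by
      rw [hnn']; exact (hcy.mul_left (Commute.refl _)).inv_right
    have h1 : Odd (orderOf (s * s)) := by
      rw [show s * s = (n * n) * (y * y)⁻¹ by rw [hnn']; group]
      refine pow_of_mul_odd hc hnodd ?_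
      rw [orderOf_inv]
      exact pow_of_mul_odd (Commute.refl y) hy hy
    obtain ⟨j, hj⟩ := IsPGroup.iff_orderOf.1 S.isPGroup' ⟨s * s, mul_mem hs hs⟩
    rw [Subgroup.orderOf_mk] at hj
    rcases j with _ | j
    · exact orderOf_eq_one_iff.1 (by simpa using hj)
    · rw [hj] at h1
      exact absurd h1 (Nat.not_odd_iff_even.2 ⟨2 ^ j, by ring⟩)
  have hnx : n * x * n⁻¹ = x := by
    rw [hact x hx, ← (hinvol s hs hss).2.2 x hx, mul_inv_cancel_right]
  have hdisj : (S : Subgroup G) ⊓ piCore π C = ⊥ := by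
    refine Subgroup.inf_eq_bot_of_coprime ?_
    obtain ⟨j, hj⟩ := IsPGroup.iff_card.1 S.isPGroup'
    rw [hj]
    exact (Nat.coprime_two_left.2 (hG.piCore_odd hC)).pow_left _
  have hkx : k * x * k⁻¹ = x⁻¹ := by
    rw [← hinv, htkn, show k * n * x * (k * n)⁻¹ = k * (n * x * n⁻¹) * k⁻¹ by group, hnx]
  have h := eq_of_conj_by_core hdisj hx hk (le_normalizer_piCore _ ((hG.sylIn_centralizer_e S he).le hx))
    (hkx ▸ inv_mem hx)
  rw [hkx] at h
  exact he1 (by nth_rewrite 1 [← h]; exact inv_mul_cancel x)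

/-- The model of `S/E`. -/
theorem exists_model (S : Sylow 2 G) (hS : Facts (S : Subgroup G)) :
    ∃ a e f : G, ∃ _ : Model (S : Subgroup G) a, e ∈ omegaZ (S : Subgroup G) ∧ f ∈ omegaZ (S : Subgroup G) ∧
      e ≠ 1 ∧ f ≠ 1 ∧ e ≠ f ∧ a * e * a⁻¹ = f ∧ a * f * a⁻¹ = e * f ∧ a * (e * f) * a⁻¹ = e ∧
      ∀ x ∈ omegaZ (S : Subgroup G), x = 1 ∨ x = e ∨ x = f ∨ x = e * f := by
  obtain ⟨a, e, f, haN, -, he, hf, he1, hf1, hef, h1, h2, h3, hall⟩ := hG.exists_cycle S
  refine PiClosed.exists_model_of S hS (hG.four_config S).2.1 haN he hf he1 hf1 hef h1 h2 h3 hall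
    (fun n hn hne => ?_) (fun x hx _ g hg => ?_)
  · obtain ⟨s, hs, -, -, -, -, hact⟩ := hG.acts_inner S hS he he1 hn hne
    exact ⟨s, hs, hact⟩
  · obtain ⟨n, hn, hnx⟩ := hG.fusion S (A := {x}) (Set.singleton_subset_iff.2 hx) (g := g)
      (fun w hw => by rw [Set.mem_singleton_iff.1 hw]; exact hg)
    exact ⟨n, hn, hnx x rfl⟩

end Minimal

end Cfsg.Agent.PiClosed
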